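import Mathlib
import Groth.Agent.Lib.Helper5.AMonPts

set_option autoImplicit false
universe u

open CategoryTheory CategoryTheory.Limits MonoidalCategory CartesianMonoidalCategory MonObj AlgebraicGeometry Opposite

namespace Groth.Agent.Lib.Helper18.FpqcOver

variable {S : Scheme.{u}}

theorem isPullback_whiskerRight {A B : Over S} (f : A ⟶ B) (T : Over S) :
    IsPullback (f ▷ T).left (fst A T).left (fst B T).left f.left := by
  have t : IsPullback (snd B T).left (fst B T).left T.hom B.hom :=
    (IsPullback.of_hasPullback B.hom T.hom).flip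
  have s : IsPullback ((f ▷ T).left ≫ (snd B T).left) (fst A T).left T.hom (f.left ≫ B.hom) := by
    have h1 : (f ▷ T).left ≫ (snd B T).left = (snd A T).left := by
      rw [← Over.comp_left, whiskerRight_snd]
    rw [h1, Over.w]
    exact (IsPullback.of_hasPullback A.hom T.hom).flip
  refine IsPullback.of_right s ?_ t
  rw [← Over.comp_left, ← Over.comp_left, whiskerRight_fst]

theorem isPullback_whiskerLeft {A B : Over S} (T : Over S) (f : A ⟶ B) :
    IsPullback (T ◁ f).left (snd T A).left (snd T B).left f.left := by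
  have t : IsPullback (fst T B).left (snd T B).left T.hom B.hom :=
    IsPullback.of_hasPullback T.hom B.hom
  have s : IsPullback ((T ◁ f).left ≫ (fst T B).left) (snd T A).left T.hom (f.left ≫ B.hom) := by
    have h1 : (T ◁ f).left ≫ (fst T B).left = (fst T A).left := by
      rw [← Over.comp_left, whiskerLeft_fst]
    rw [h1, Over.w]
    exact IsPullback.of_hasPullback T.hom A.hom
  refine IsPullback.of_right s ?_ t
  rw [← Over.comp_left, ← Over.comp_left, whiskerLeft_snd]

theorem isPullback_pullback_map {B : Scheme.{u}} (h : S ⟶ B) {X Y : Over B} (g : X ⟶ Y) :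
    IsPullback ((Over.pullback h).map g).left (pullback.fst X.hom h) (pullback.fst Y.hom h) g.left := by
  have t : IsPullback (pullback.snd Y.hom h) (pullback.fst Y.hom h) h Y.hom :=
    (IsPullback.of_hasPullback Y.hom h).flip
  have s : IsPullback (((Over.pullback h).map g).left ≫ pullback.snd Y.hom h) (pullback.fst X.hom h) h
      (g.left ≫ Y.hom) := by
    have h1 : ((Over.pullback h).map g).left ≫ pullback.snd Y.hom h = pullback.snd X.hom h :=
      Over.w ((Over.pullback h).map g)
    rw [h1, Over.w]
    exact (IsPullback.of_hasPullback X.hom h).flip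
  refine IsPullback.of_right s ?_ t
  simp only [Over.pullback, Over.homMk_left]
  exact pullback.lift_fst _ _ _

section PropSec

variable (P : MorphismProperty Scheme.{u}) [P.IsStableUnderBaseChange]

theorem prop_whiskerRight {A B : Over S} (f : A ⟶ B) (T : Over S) (hf : P f.left) : P (f ▷ T).left :=
  P.of_isPullback (isPullback_whiskerRight f T).flip hf

theorem prop_whiskerLeft {A B : Over S} (T : Over S) (f : A ⟶ B) (hf : P f.left) : P (T ◁ f).left :=
  P.of_isPullback (isPullback_whiskerLeft T f).flip hf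

theorem prop_pullback_map {B : Scheme.{u}} (h : S ⟶ B) {X Y : Over B} (g : X ⟶ Y) (hg : P g.left) :
    P ((Over.pullback h).map g).left :=
  P.of_isPullback (isPullback_pullback_map h g).flip hg

end PropSec

/-- fpqc covering morphisms in `Over S`. -/
structure IsCov {A B : Over S} (f : A ⟶ B) : Prop where
  flat : Flat f.left
  surj : Surjective f.left
  qc : QuasiCompact f.left

namespace IsCov

variable {A B : Over S} {f : A ⟶ B}

theorem whiskerRight (hf : IsCov f) (T : Over S) : IsCov (f ▷ T) :=
  ⟨prop_whiskerRight @Flat f T hf.flat, prop_whiskerRight @Surjective f T hf.surj,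
    prop_whiskerRight @QuasiCompact f T hf.qc⟩

theorem whiskerLeft (hf : IsCov f) (T : Over S) : IsCov (T ◁ f) :=
  ⟨prop_whiskerLeft @Flat T f hf.flat, prop_whiskerLeft @Surjective T f hf.surj,
    prop_whiskerLeft @QuasiCompact T f hf.qc⟩

theorem effectiveEpi_left (hf : IsCov f) : EffectiveEpi f.left := by
  have := hf.flat
  have := hf.surj
  have := hf.qc
  infer_instance

theorem epi (hf : IsCov f) : Epi f := by
  have := hf.effectiveEpi_left
  exact Over.epi_of_epi_left f

theorem exists_desc (hf : IsCov f) {X : Over S} (ψ : A ⟶ X)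
    (h : ∀ (W : Over S) (g₁ g₂ : W ⟶ A), g₁ ≫ f = g₂ ≫ f → g₁ ≫ ψ = g₂ ≫ ψ) :
    ∃ φ : B ⟶ X, f ≫ φ = ψ := by
  have := hf.effectiveEpi_left
  have hcond : ∀ {W : Scheme.{u}} (g₁ g₂ : W ⟶ A.left), g₁ ≫ f.left = g₂ ≫ f.left →
      g₁ ≫ ψ.left = g₂ ≫ ψ.left := by
    intro W g₁ g₂ hg
    have hw : g₁ ≫ A.hom = g₂ ≫ A.hom := by
      rw [← Over.w f, ← Category.assoc, hg, Category.assoc]
    let W' : Over S := Over.mk (g₁ ≫ A.hom)
    let γ₁ : W' ⟶ A := Over.homMk g₁ rfl
    let γ₂ : W' ⟶ A := Over.homMk g₂ hw.symm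
    have := h W' γ₁ γ₂ (by ext; exact hg)
    exact congrArg (fun k => k.left) this
  let d : B.left ⟶ X.left := EffectiveEpi.desc f.left ψ.left hcond
  have hd : f.left ≫ d = ψ.left := EffectiveEpi.fac f.left ψ.left hcond
  have hdw : d ≫ X.hom = B.hom := by
    rw [← cancel_epi f.left, ← Category.assoc, hd, Over.w, Over.w]
  exact ⟨Over.homMk d hdw, by ext; exact hd⟩

end IsCov

end Groth.Agent.Lib.Helper18.FpqcOver
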