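import Mathlib
import Groth.Agent.Lib.Helper18.FpqcOver

set_option autoImplicit false
set_option linter.unusedSectionVars false
universe u

open CategoryTheory CategoryTheory.Limits MonoidalCategory CartesianMonoidalCategory
  AlgebraicGeometry Opposite

namespace Groth.Agent.Lib.Helper18.SchDom

open Groth.Agent.Lib.Helper18.FpqcOver

variable {S : Scheme.{u}}

/-- Morphisms into a separated `S`-scheme that agree on a scheme-theoretically dominant
morphism are equal. -/
theorem ext_of_schDominant {W X Y : Over S} [IsSeparated Y.hom] (d : W ⟶ X)
    [IsSchemeTheoreticallyDominant d.left] (f g : X ⟶ Y) (h : d ≫ f = d ≫ g) : f = g := by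
  have hcl : IsClosedImmersion (equalizer.ι f g).left := inferInstance
  have hfac : (equalizer.lift d h).left ≫ (equalizer.ι f g).left = d.left := by
    rw [← Over.comp_left, equalizer.lift_ι]
  have hker : (equalizer.ι f g).left.ker = ⊥ := by
    have h1 := Scheme.Hom.le_ker_comp (equalizer.lift d h).left (equalizer.ι f g).left
    rw [hfac, IsSchemeTheoreticallyDominant.ker_eq_bot d.left] at h1
    exact le_bot_iff.mp h1
  have hiso : IsIso (equalizer.ι f g).left := IsClosedImmersion.isIso_iff_ker_eq_bot.mpr hker
  have hepi : Epi (equalizer.ι f g) := by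
    have : Epi (equalizer.ι f g).left := inferInstance
    exact Over.epi_of_epi_left _
  rw [← cancel_epi (equalizer.ι f g)]
  exact equalizer.condition f g

/-- A morphism of affine schemes that is injective on global sections is scheme-theoretically
dominant. -/
theorem schDominant_of_injective_appTop {A B : Scheme.{u}} [IsAffine A] [IsAffine B] (f : A ⟶ B)
    (hf : Function.Injective f.appTop) : IsSchemeTheoreticallyDominant f := by
  constructor
  apply Scheme.IdealSheafData.ext_of_isAffine
  have hqc : QuasiCompact f := by
    rw [HasAffineProperty.iff_of_isAffine (P := @QuasiCompact)]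
    infer_instance
  have h1 := Scheme.Hom.ker_apply f ⟨⊤, isAffineOpen_top B⟩
  rw [h1]
  simp only [Scheme.IdealSheafData.ideal_bot, Pi.bot_apply]
  exact (RingHom.injective_iff_ker_eq_bot _).mp hf

end Groth.Agent.Lib.Helper18.SchDom
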