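import Mathlib

set_option autoImplicit false
set_option linter.unusedSectionVars false
universe u

open CategoryTheory CategoryTheory.Limits AlgebraicGeometry Opposite

noncomputable section

namespace Groth.Agent.Lib.Helper18.RepOver

variable {S : Scheme.{u}} (D : (Over S)ᵒᵖ ⥤ Type u)

abbrev ovHom {T T' : Scheme.{u}} (b : T' ⟶ T) (s : T ⟶ S) : Over.mk (b ≫ s) ⟶ Over.mk s :=
  Over.homMk b rfl

def castHom {T : Scheme.{u}} {s s' : T ⟶ S} (h : s' = s) : Over.mk s' ⟶ Over.mk s :=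
  Over.homMk (𝟙 T) (by simp [h])

@[simp] theorem castHom_left {T : Scheme.{u}} {s s' : T ⟶ S} (h : s' = s) :
    (castHom h).left = 𝟙 T := rfl

theorem castHom_rfl {T : Scheme.{u}} (s : T ⟶ S) : castHom (rfl : s = s) = 𝟙 (Over.mk s) := by
  ext
  rfl

variable {D}

theorem sigma_ext {T : Scheme.{u}} {p q : Σ s : T ⟶ S, D.obj (op (Over.mk s))}
    (h : p.1 = q.1) (h2 : D.map (castHom h).op q.2 = p.2) : p = q := by
  obtain ⟨s, d⟩ := p
  obtain ⟨s', d'⟩ := q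
  dsimp only at h
  subst h
  rw [castHom_rfl] at h2
  simp only [op_id, Functor.map_id_apply] at h2
  rw [h2]

theorem sigma_eq_iff {T : Scheme.{u}} {p q : Σ s : T ⟶ S, D.obj (op (Over.mk s))} :
    p = q ↔ ∃ h : p.1 = q.1, D.map (castHom h).op q.2 = p.2 := by
  constructor
  · rintro rfl
    refine ⟨rfl, ?_⟩
    rw [castHom_rfl]
    simp
  · rintro ⟨h, h2⟩
    exact sigma_ext h h2

variable (D)

def mapFun {T T' : Scheme.{u}} (b : T' ⟶ T) (p : Σ s : T ⟶ S, D.obj (op (Over.mk s))) :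
    Σ s : T' ⟶ S, D.obj (op (Over.mk s)) :=
  ⟨b ≫ p.1, D.map (ovHom b p.1).op p.2⟩

theorem mapFun_id {T : Scheme.{u}} (p : Σ s : T ⟶ S, D.obj (op (Over.mk s))) :
    mapFun D (𝟙 T) p = p := by
  apply sigma_ext (Category.id_comp _)
  rfl

theorem map_cast_comp {T T' T'' : Scheme.{u}} (b : T' ⟶ T) (b' : T'' ⟶ T') (s : T ⟶ S)
    (d : D.obj (op (Over.mk s))) (h : (b' ≫ b) ≫ s = b' ≫ (b ≫ s)) :
    D.map (castHom h).op (D.map (ovHom b' (b ≫ s)).op (D.map (ovHom b s).op d)) =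
      D.map (ovHom (b' ≫ b) s).op d := by
  rw [← Functor.map_comp_apply, ← Functor.map_comp_apply, ← op_comp, ← op_comp]
  congr 2

theorem mapFun_comp {T T' T'' : Scheme.{u}} (b : T' ⟶ T) (b' : T'' ⟶ T')
    (p : Σ s : T ⟶ S, D.obj (op (Over.mk s))) :
    mapFun D (b' ≫ b) p = mapFun D b' (mapFun D b p) := by
  apply sigma_ext (Category.assoc _ _ _)
  obtain ⟨s, d⟩ := p
  exact map_cast_comp D b b' s d _

def sigmaF : Scheme.{u}ᵒᵖ ⥤ Type u where
  obj T := Σ s : unop T ⟶ S, D.obj (op (Over.mk s))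
  map {T T'} b := ↾(mapFun D b.unop)
  map_id T := ConcreteCategory.hom_ext _ _ fun p => mapFun_id D p
  map_comp {T T' T''} b b' := ConcreteCategory.hom_ext _ _ fun p => mapFun_comp D b.unop b'.unop p

theorem sigmaF_map {T T' : Scheme.{u}} (b : T' ⟶ T) (p : (sigmaF D).obj (op T)) :
    (sigmaF D).map b.op p = mapFun D b p := rfl


theorem castHom_comp_castHom {T : Scheme.{u}} {s s' : T ⟶ S} (h : s' = s) :
    castHom h ≫ castHom h.symm = 𝟙 _ := by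
  ext
  simp

theorem map_castHom_injective {T : Scheme.{u}} {s s' : T ⟶ S} (h : s' = s) :
    Function.Injective (D.map (castHom h).op) := by
  intro a b hab
  have h1 := congrArg (D.map (castHom h.symm).op) hab
  rw [← Functor.map_comp_apply, ← Functor.map_comp_apply, ← op_comp, castHom_comp_castHom] at h1
  simpa using h1

theorem map_castHom_castHom {T : Scheme.{u}} {s s' s'' : T ⟶ S} (h : s' = s) (h' : s'' = s')
    (e : D.obj (op (Over.mk s))) :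
    D.map (castHom h').op (D.map (castHom h).op e) = D.map (castHom (h'.trans h)).op e := by
  subst h h'
  rw [castHom_rfl]
  simp

theorem map_ovHom_eq {T : Over S} {Z₀ : Scheme.{u}} (s₀ : Z₀ ⟶ S) (z : T ⟶ Over.mk s₀)
    (d₀ : D.obj (op (Over.mk s₀))) :
    D.map (ovHom z.left s₀).op d₀ =
      D.map (castHom (Over.w z) : Over.mk (z.left ≫ s₀) ⟶ Over.mk T.hom).op (D.map z.op d₀) := by
  rw [← Functor.map_comp_apply, ← op_comp]
  congr 2

variable {D}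

theorem homEquiv_eq_mapFun {Z₀ : Scheme.{u}} (r : (sigmaF D).RepresentableBy Z₀) {T : Scheme.{u}}
    (g : T ⟶ Z₀) : r.homEquiv g = mapFun D g (r.homEquiv (𝟙 Z₀)) := by
  have := r.homEquiv_comp g (𝟙 Z₀)
  rw [Category.comp_id] at this
  exact this

theorem representable_of_sigmaF {Z₀ : Scheme.{u}} (r : (sigmaF D).RepresentableBy Z₀) :
    ∃ Z : Over S, Nonempty (D.RepresentableBy Z) := by
  obtain ⟨⟨s₀, d₀⟩, hp⟩ : ∃ p, r.homEquiv (𝟙 Z₀) = p := ⟨_, rfl⟩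
  have hr : ∀ {T : Scheme.{u}} (g : T ⟶ Z₀), r.homEquiv g = mapFun D g ⟨s₀, d₀⟩ := by
    intro T g
    rw [homEquiv_eq_mapFun, hp]
  refine ⟨Over.mk s₀, ⟨⟨fun {T} => Equiv.ofBijective (fun z => D.map z.op d₀) ⟨?_, ?_⟩, ?_⟩⟩⟩
  · intro z z' hzz0
    have hzz : D.map z.op d₀ = D.map z'.op d₀ := hzz0
    have h1 : r.homEquiv z.left = r.homEquiv z'.left := by
      rw [hr, hr]
      refine sigma_ext ((Over.w z).trans (Over.w z').symm) ?_
      change D.map _ (D.map (ovHom z'.left s₀).op d₀) = D.map (ovHom z.left s₀).op d₀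
      rw [map_ovHom_eq, map_ovHom_eq, hzz]
      exact map_castHom_castHom D _ _ _
    have h2 := r.homEquiv.injective h1
    ext : 1
    exact h2
  · intro d
    let p : (sigmaF D).obj (op T.left) := ⟨T.hom, d⟩
    have h1 : r.homEquiv (r.homEquiv.symm p) = p := r.homEquiv.apply_symm_apply p
    rw [hr] at h1
    obtain ⟨h, h2⟩ := sigma_eq_iff.mp h1
    refine ⟨Over.homMk (r.homEquiv.symm p) h, ?_⟩
    change D.map _ d = D.map (ovHom (r.homEquiv.symm p) s₀).op d₀ at h2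
    have h3 := map_ovHom_eq D s₀ (Over.homMk (r.homEquiv.symm p) h : T ⟶ Over.mk s₀) d₀
    change D.map (ovHom (r.homEquiv.symm p) s₀).op d₀ = _ at h3
    rw [h3] at h2
    exact (map_castHom_injective D _ h2).symm
  · intro T T' f g
    change D.map (f ≫ g).op d₀ = D.map f.op (D.map g.op d₀)
    rw [op_comp, Functor.map_comp_apply]


section sheaf

universe v

variable (D)

def HSep : Prop := ∀ (T : Scheme.{u}) (s : T ⟶ S) (𝒰 : Scheme.OpenCover.{v} T)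
  (e e' : D.obj (op (Over.mk s))),
  (∀ i, D.map (ovHom (𝒰.f i) s).op e = D.map (ovHom (𝒰.f i) s).op e') → e = e'

def sndHom {T : Scheme.{u}} (s : T ⟶ S) (𝒰 : Scheme.OpenCover.{v} T) (i j : 𝒰.I₀) :
    Over.mk (pullback.fst (𝒰.f i) (𝒰.f j) ≫ 𝒰.f i ≫ s) ⟶ Over.mk (𝒰.f j ≫ s) :=
  Over.homMk (pullback.snd (𝒰.f i) (𝒰.f j)) (by
    change pullback.snd (𝒰.f i) (𝒰.f j) ≫ 𝒰.f j ≫ s = pullback.fst (𝒰.f i) (𝒰.f j) ≫ 𝒰.f i ≫ s
    rw [← Category.assoc, ← pullback.condition, Category.assoc])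

def HGlue : Prop := ∀ (T : Scheme.{u}) (s : T ⟶ S) (𝒰 : Scheme.OpenCover.{v} T)
  (d : ∀ i, D.obj (op (Over.mk (𝒰.f i ≫ s)))),
  (∀ i j, D.map (ovHom (pullback.fst (𝒰.f i) (𝒰.f j)) (𝒰.f i ≫ s)).op (d i) =
    D.map (sndHom s 𝒰 i j).op (d j)) →
  ∃ e : D.obj (op (Over.mk s)), ∀ i, D.map (ovHom (𝒰.f i) s).op e = d i

variable {D}

theorem map_eq_of_left {A B : Over S} (a a' : A ⟶ B) (h : a.left = a'.left) (d : D.obj (op B)) :
    D.map a.op d = D.map a'.op d := by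
  have : a = a' := Over.OverMorphism.ext h
  rw [this]

theorem map_map_eq_of_left {A A' B : Over S} (a : A ⟶ B) (c : A' ⟶ A) (e : A' ⟶ B)
    (h : c.left ≫ a.left = e.left) (d : D.obj (op B)) :
    D.map c.op (D.map a.op d) = D.map e.op d := by
  have : c ≫ a = e := Over.OverMorphism.ext (by simpa using h)
  rw [← this, op_comp, Functor.map_comp_apply]

theorem glue_core (hglue : HGlue.{u, v} D) {Y : Scheme.{u}} (𝓤 : Scheme.OpenCover.{v} Y)
    (ps : ∀ i, 𝓤.X i ⟶ S) (pd : ∀ i, D.obj (op (Over.mk (ps i))))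
    (hcomp : ∀ i j, mapFun D (pullback.fst (𝓤.f i) (𝓤.f j)) ⟨ps i, pd i⟩ =
      mapFun D (pullback.snd (𝓤.f i) (𝓤.f j)) ⟨ps j, pd j⟩) :
    ∃ q : Σ s : Y ⟶ S, D.obj (op (Over.mk s)), ∀ i, mapFun D (𝓤.f i) q = ⟨ps i, pd i⟩ := by
  let s : Y ⟶ S := 𝓤.glueMorphisms ps (fun i j => (sigma_eq_iff.mp (hcomp i j)).1)
  have hs : ∀ i, 𝓤.f i ≫ s = ps i := fun i => 𝓤.ι_glueMorphisms _ _ i
  clear_value s
  obtain rfl : ps = fun i => 𝓤.f i ≫ s := funext fun i => (hs i).symm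
  have hd : ∀ i j, D.map (ovHom (pullback.fst (𝓤.f i) (𝓤.f j)) (𝓤.f i ≫ s)).op (pd i) =
      D.map (sndHom s 𝓤 i j).op (pd j) := by
    intro i j
    obtain ⟨h1, h2⟩ := sigma_eq_iff.mp (hcomp i j)
    change D.map _ (D.map (ovHom (pullback.snd (𝓤.f i) (𝓤.f j)) (𝓤.f j ≫ s)).op (pd j)) =
      D.map (ovHom (pullback.fst (𝓤.f i) (𝓤.f j)) (𝓤.f i ≫ s)).op (pd i) at h2
    rw [← h2]
    exact map_map_eq_of_left (ovHom (pullback.snd (𝓤.f i) (𝓤.f j)) (𝓤.f j ≫ s)) (castHom h1)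
      (sndHom s 𝓤 i j) (by simp [sndHom]) _
  obtain ⟨e, he⟩ := hglue Y s 𝓤 pd hd
  refine ⟨⟨s, e⟩, fun i => ?_⟩
  change (⟨𝓤.f i ≫ s, D.map (ovHom (𝓤.f i) s).op e⟩ : Σ s, D.obj (op (Over.mk s))) = _
  rw [he i]

theorem sep_core (hsep : HSep.{u, v} D) {Y : Scheme.{u}} (𝓤 : Scheme.OpenCover.{v} Y)
    (q q' : Σ s : Y ⟶ S, D.obj (op (Over.mk s)))
    (h : ∀ i, mapFun D (𝓤.f i) q = mapFun D (𝓤.f i) q') : q = q' := by
  obtain ⟨s, e⟩ := q
  obtain ⟨s', e'⟩ := q'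
  have hs' : s = s' := by
    apply 𝓤.hom_ext
    intro i
    exact (sigma_eq_iff.mp (h i)).1
  subst hs'
  congr 1
  apply hsep Y s 𝓤
  intro i
  obtain ⟨w, h2⟩ := sigma_eq_iff.mp (h i)
  have h3 : D.map (𝟙 (Over.mk (𝓤.f i ≫ s))).op (D.map (ovHom (𝓤.f i) s).op e') =
      D.map (ovHom (𝓤.f i) s).op e := (map_eq_of_left (castHom w) (𝟙 _) rfl _).symm.trans h2
  simpa using h3.symm

theorem isSheaf_sigmaF (hsep : HSep.{u, u + 1} D) (hglue : HGlue.{u, u + 1} D) :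
    Presieve.IsSheaf Scheme.zariskiTopology (sigmaF D) := by
  rw [Scheme.zariskiTopology, Scheme.grothendieckTopology,
    Precoverage.isSheaf_toGrothendieck_iff_of_isStableUnderBaseChange]
  rintro Y R hR x hx
  obtain ⟨(𝓤 : Scheme.OpenCover Y), rfl⟩ := Scheme.exists_cover_of_mem_pretopology hR
  obtain ⟨q, hq⟩ := glue_core hglue 𝓤 (fun i => (x (𝓤.f i) (Presieve.ofArrows.mk i)).1)
    (fun i => (x (𝓤.f i) (Presieve.ofArrows.mk i)).2) (fun i j =>
      hx (pullback.fst (𝓤.f i) (𝓤.f j)) (pullback.snd (𝓤.f i) (𝓤.f j)) (Presieve.ofArrows.mk i)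
        (Presieve.ofArrows.mk j) pullback.condition)
  refine ⟨q, ?_, ?_⟩
  · rintro Z f ⟨i⟩
    exact hq i
  · intro q' hq'
    apply sep_core hsep 𝓤
    intro i
    exact (hq' (𝓤.f i) (Presieve.ofArrows.mk i)).trans (hq i).symm

end sheaf


section main

variable {ι : Type u} (Z : ι → Scheme.{u}) (sZ : ∀ i, Z i ⟶ S)
  (dZ : ∀ i, D.obj (op (Over.mk (sZ i))))

def fZ (i : ι) : yoneda.obj (Z i) ⟶ sigmaF D :=
  yonedaEquiv.symm (⟨sZ i, dZ i⟩ : (sigmaF D).obj (op (Z i)))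

theorem fZ_app (i : ι) {W : Scheme.{u}} (a : W ⟶ Z i) :
    (fZ Z sZ dZ i).app (op W) a = mapFun D a ⟨sZ i, dZ i⟩ := rfl

theorem yonedaEquiv_symm_app {T W : Scheme.{u}} (p : (sigmaF D).obj (op T)) (w : W ⟶ T) :
    (yonedaEquiv.symm p : yoneda.obj T ⟶ sigmaF D).app (op W) w = mapFun D w p := rfl

theorem isOpenImmersion_presheaf_fZ
    (hmono : ∀ i (W : Scheme.{u}) (a a' : W ⟶ Z i),
      mapFun D a ⟨sZ i, dZ i⟩ = mapFun D a' ⟨sZ i, dZ i⟩ → a = a')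
    (hopen : ∀ i (T : Scheme.{u}) (p : Σ s : T ⟶ S, D.obj (op (Over.mk s))),
      ∃ V : T.Opens, (∃ z : (V : Scheme.{u}) ⟶ Z i, mapFun D z ⟨sZ i, dZ i⟩ = mapFun D V.ι p) ∧
        ∀ (W : Scheme.{u}) (w : W ⟶ T) (a : W ⟶ Z i),
          mapFun D a ⟨sZ i, dZ i⟩ = mapFun D w p → ∀ x : W, w x ∈ V) (i : ι) :
    IsOpenImmersion.presheaf (fZ Z sZ dZ i) := by
  apply MorphismProperty.relative.of_exists
  intro T g
  obtain ⟨p, rfl⟩ := yonedaEquiv.symm.surjective g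
  obtain ⟨V, ⟨z, hz⟩, hV⟩ := hopen i T p
  refine ⟨V, yoneda.map z, V.ι, ?_, inferInstance⟩
  refine IsPullback.of_forall_isPullback_app fun W => ?_
  rw [Types.isPullback_iff]
  refine ⟨?_, ?_, ?_⟩
  · ext c
    change mapFun D (c ≫ z) ⟨sZ i, dZ i⟩ = mapFun D (c ≫ V.ι) p
    rw [mapFun_comp, mapFun_comp, hz]
  · intro c c' ⟨h1, h2⟩
    have h2' : c ≫ V.ι = c' ≫ V.ι := h2
    exact (cancel_mono V.ι).mp h2'
  · intro a w0 haw
    let w : unop W ⟶ T := w0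
    have haw' : mapFun D a ⟨sZ i, dZ i⟩ = mapFun D w p := haw
    have hrange : Set.range w ⊆ Set.range V.ι := by
      rintro _ ⟨x, rfl⟩
      rw [Scheme.Opens.range_ι]
      exact hV (unop W) w a haw' x
    let c : unop W ⟶ (V : Scheme.{u}) := IsOpenImmersion.lift V.ι w hrange
    have hc : c ≫ V.ι = w := IsOpenImmersion.lift_fac _ _ _
    refine ⟨c, ?_, hc⟩
    change c ≫ z = a
    apply hmono i
    rw [mapFun_comp, hz, ← mapFun_comp, hc, haw']


theorem isLocallySurjective_desc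
    (hcov : ∀ (T : Scheme.{u}) (p : Σ s : T ⟶ S, D.obj (op (Over.mk s))) (t : T),
      ∃ i, ∃ V : T.Opens, t ∈ V ∧
        ∃ z : (V : Scheme.{u}) ⟶ Z i, mapFun D z ⟨sZ i, dZ i⟩ = mapFun D V.ι p) :
    Presheaf.IsLocallySurjective Scheme.zariskiTopology (Sigma.desc (fZ Z sZ dZ)) := by
  constructor
  intro T p
  choose i V hV z hz using hcov T p
  have hcover : TopologicalSpace.IsOpenCover V := by
    apply TopologicalSpace.IsOpenCover.mk
    rw [eq_top_iff]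
    intro t _
    exact TopologicalSpace.Opens.mem_iSup.mpr ⟨t, hV t⟩
  let 𝒱 : Scheme.OpenCover.{u} T := T.openCoverOfIsOpenCover V hcover
  refine Scheme.zariskiTopology.superset_covering ?_ 𝒱.mem_grothendieckTopology
  rw [Sieve.ofArrows, Sieve.generate_le_iff]
  rintro W w ⟨t⟩
  refine ⟨(Sigma.ι (fun i => yoneda.obj (Z i)) (i t)).app (op (V t : Scheme.{u})) (z t), ?_⟩
  have h1 : (Sigma.ι (fun i => yoneda.obj (Z i)) (i t) ≫ Sigma.desc (fZ Z sZ dZ)) =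
      fZ Z sZ dZ (i t) := Sigma.ι_desc _ _
  have h2 := congrArg (fun φ => φ.app (op (V t : Scheme.{u})) (z t)) h1
  simp only [NatTrans.comp_app] at h2
  exact h2.trans (hz t)

theorem representable_of_local (hsep : HSep.{u, u + 1} D) (hglue : HGlue.{u, u + 1} D)
    (hmono : ∀ i (W : Scheme.{u}) (a a' : W ⟶ Z i),
      mapFun D a ⟨sZ i, dZ i⟩ = mapFun D a' ⟨sZ i, dZ i⟩ → a = a')
    (hopen : ∀ i (T : Scheme.{u}) (p : Σ s : T ⟶ S, D.obj (op (Over.mk s))),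
      ∃ V : T.Opens, (∃ z : (V : Scheme.{u}) ⟶ Z i, mapFun D z ⟨sZ i, dZ i⟩ = mapFun D V.ι p) ∧
        ∀ (W : Scheme.{u}) (w : W ⟶ T) (a : W ⟶ Z i),
          mapFun D a ⟨sZ i, dZ i⟩ = mapFun D w p → ∀ x : W, w x ∈ V)
    (hcov : ∀ (T : Scheme.{u}) (p : Σ s : T ⟶ S, D.obj (op (Over.mk s))) (t : T),
      ∃ i, ∃ V : T.Opens, t ∈ V ∧
        ∃ z : (V : Scheme.{u}) ⟶ Z i, mapFun D z ⟨sZ i, dZ i⟩ = mapFun D V.ι p) :
    ∃ Z : Over S, Nonempty (D.RepresentableBy Z) := by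
  let F : Sheaf Scheme.zariskiTopology (Type u) :=
    ⟨sigmaF D, (isSheaf_iff_isSheaf_of_type _ _).mpr (isSheaf_sigmaF hsep hglue)⟩
  have hf : ∀ i, IsOpenImmersion.presheaf (fZ Z sZ dZ i : yoneda.obj (Z i) ⟶ F.1) :=
    isOpenImmersion_presheaf_fZ Z sZ dZ hmono hopen
  have hsurj : Presheaf.IsLocallySurjective Scheme.zariskiTopology
      (Sigma.desc (fun i => (fZ Z sZ dZ i : yoneda.obj (Z i) ⟶ F.1))) :=
    isLocallySurjective_desc Z sZ dZ hcov
  have := hsurj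
  have key : (sigmaF D).RepresentableBy (Scheme.LocalRepresentability.glueData hf).glued :=
    Scheme.LocalRepresentability.representableBy (F := F) hf
  exact representable_of_sigmaF key

end main

section main'

variable (D)

abbrev resOv (T : Over S) (V : T.left.Opens) : Over S := Over.mk (V.ι ≫ T.hom)

abbrev resι (T : Over S) (V : T.left.Opens) : resOv T V ⟶ T := Over.homMk V.ι rfl

theorem mapFun_left {T : Over S} {Z₀ : Scheme.{u}} (s₀ : Z₀ ⟶ S) (z : T ⟶ Over.mk s₀)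
    (d₀ : D.obj (op (Over.mk s₀))) :
    mapFun D z.left ⟨s₀, d₀⟩ =
      (⟨T.hom, D.map z.op d₀⟩ : Σ s : T.left ⟶ S, D.obj (op (Over.mk s))) := by
  refine sigma_ext (Over.w z) ?_
  change D.map _ (D.map z.op d₀) = D.map (ovHom z.left s₀).op d₀
  exact (map_ovHom_eq D s₀ z d₀).symm

theorem sigma_mk_inj {T : Scheme.{u}} {s : T ⟶ S} {d d' : D.obj (op (Over.mk s))}
    (h : (⟨s, d⟩ : Σ s : T ⟶ S, D.obj (op (Over.mk s))) = ⟨s, d'⟩) : d = d' := by
  have := Sigma.mk.inj_iff.mp h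
  exact eq_of_heq this.2

variable {D}
variable {ι : Type u} (Z : ι → Over S) (dZ : ∀ i, D.obj (op (Z i)))

theorem representable_of_local' (hsep : HSep.{u, u + 1} D) (hglue : HGlue.{u, u + 1} D)
    (hmono : ∀ i (T : Over S) (z z' : T ⟶ Z i), D.map z.op (dZ i) = D.map z'.op (dZ i) → z = z')
    (Vf : ∀ (_ : ι) (T : Over S) (_ : D.obj (op T)), T.left.Opens)
    (hfac : ∀ i (T : Over S) (d : D.obj (op T)), ∃ z : resOv T (Vf i T d) ⟶ Z i,
      D.map z.op (dZ i) = D.map (resι T (Vf i T d)).op d)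
    (hmax : ∀ i (T : Over S) (d : D.obj (op T)) (W : Over S) (w : W ⟶ T) (a : W ⟶ Z i),
      D.map a.op (dZ i) = D.map w.op d → ∀ x : W.left, w.left x ∈ Vf i T d)
    (hcov : ∀ (T : Over S) (d : D.obj (op T)) (t : T.left), ∃ i, t ∈ Vf i T d) :
    ∃ Z : Over S, Nonempty (D.RepresentableBy Z) := by
  have hfac' : ∀ i (T : Scheme.{u}) (p : Σ s : T ⟶ S, D.obj (op (Over.mk s))),
      ∃ z : ((Vf i (Over.mk p.1) p.2 : (Over.mk p.1).left.Opens) : Scheme.{u}) ⟶ (Z i).left,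
        mapFun D z ⟨(Z i).hom, dZ i⟩ = mapFun D (Vf i (Over.mk p.1) p.2).ι p := by
    intro i T p
    obtain ⟨z, hz⟩ := hfac i (Over.mk p.1) p.2
    refine ⟨z.left, ?_⟩
    have h1 := mapFun_left D (Z i).hom z (dZ i)
    rw [h1, hz]
    rfl
  apply representable_of_local (D := D) (fun i => (Z i).left) (fun i => (Z i).hom) dZ hsep hglue
  · intro i W a a' h
    have h1 : a ≫ (Z i).hom = a' ≫ (Z i).hom := (sigma_eq_iff.mp h).1
    let T : Over S := Over.mk (a ≫ (Z i).hom)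
    let z : T ⟶ Z i := Over.homMk a rfl
    let z' : T ⟶ Z i := Over.homMk a' h1.symm
    have e1 := mapFun_left D (Z i).hom z (dZ i)
    have e2 := mapFun_left D (Z i).hom z' (dZ i)
    have h' : mapFun D z.left ⟨(Z i).hom, dZ i⟩ = mapFun D z'.left ⟨(Z i).hom, dZ i⟩ := h
    rw [e1, e2] at h'
    have := hmono i T z z' (sigma_mk_inj D h')
    exact congrArg (fun k => k.left) this
  · intro i T p
    refine ⟨Vf i (Over.mk p.1) p.2, hfac' i T p, ?_⟩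
    intro W w a h x
    have h1 : a ≫ (Z i).hom = w ≫ p.1 := (sigma_eq_iff.mp h).1
    let W' : Over S := Over.mk (w ≫ p.1)
    let w' : W' ⟶ Over.mk p.1 := Over.homMk w rfl
    let a' : W' ⟶ Z i := Over.homMk a h1
    have e1 := mapFun_left D (Z i).hom a' (dZ i)
    have h' : mapFun D a'.left ⟨(Z i).hom, dZ i⟩ =
        (⟨W'.hom, D.map w'.op p.2⟩ : Σ s : W'.left ⟶ S, D.obj (op (Over.mk s))) := h
    rw [e1] at h'
    exact hmax i (Over.mk p.1) p.2 W' w' a' (sigma_mk_inj D h') x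
  · intro T p t
    obtain ⟨i, hi⟩ := hcov (Over.mk p.1) p.2 t
    exact ⟨i, Vf i (Over.mk p.1) p.2, hi, hfac' i T p⟩

end main'

end Groth.Agent.Lib.Helper18.RepOver
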