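import Mathlib
import Groth.Prelude.Def_Magnet2
import Groth.Agent.Lib.Helper18.FpqcOver
import Groth.Agent.Lib.Helper18.RepOver

set_option autoImplicit false
set_option linter.unusedSectionVars false
universe u

open CategoryTheory CategoryTheory.Limits MonoidalCategory CartesianMonoidalCategory MonObj
  AlgebraicGeometry Opposite
open Magnet

namespace Groth.Agent.Lib.Helper18.EqvHomSheaf

open Groth.Agent.Lib.Helper18.FpqcOver Groth.Agent.Lib.Helper18.RepOver

theorem exists_preimage_of_isPullback {P X Y Z : Scheme.{u}} {fst : P ⟶ X} {snd : P ⟶ Y}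
    {f : X ⟶ Z} {g : Y ⟶ Z} (h : IsPullback fst snd f g) (x : X) (y : Y) (hxy : f x = g y) :
    ∃ z : P, fst z = x ∧ snd z = y := by
  obtain ⟨z, hz1, hz2⟩ := Scheme.Pullback.exists_preimage_pullback x y hxy
  refine ⟨h.isoPullback.inv z, ?_, ?_⟩
  · rw [← Scheme.Hom.comp_apply, h.isoPullback_inv_fst, hz1]
  · rw [← Scheme.Hom.comp_apply, h.isoPullback_inv_snd, hz2]

variable {S : Scheme.{u}}

structure IsZarCov {T : Over S} {J : Type*} (T_ : J → Over S) (t : ∀ i, T_ i ⟶ T) : Prop where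
  isOpen : ∀ i, IsOpenImmersion (t i).left
  surj : ∀ x : T.left, ∃ i, ∃ y : (T_ i).left, (t i).left y = x

namespace IsZarCov

variable {T : Over S} {J : Type*} {T_ : J → Over S} {t : ∀ i, T_ i ⟶ T}

theorem whiskerLeft (h : IsZarCov T_ t) (M : Over S) :
    IsZarCov (fun i => M ⊗ T_ i) (fun i => M ◁ t i) where
  isOpen i := prop_whiskerLeft @IsOpenImmersion M (t i) (h.isOpen i)
  surj y := by
    obtain ⟨i, x', hx'⟩ := h.surj ((snd M T).left y)
    obtain ⟨z, hz, -⟩ := exists_preimage_of_isPullback (isPullback_whiskerLeft M (t i)) y x' hx'.symm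
    exact ⟨i, z, hz⟩

def cover (h : IsZarCov T_ t) : Scheme.OpenCover T.left :=
  Scheme.Cover.mkOfCovers J (fun i => (T_ i).left) (fun i => (t i).left) h.surj h.isOpen

theorem hom_ext (h : IsZarCov T_ t) {X : Over S} (f g : T ⟶ X) (hfg : ∀ i, t i ≫ f = t i ≫ g) :
    f = g := by
  ext : 1
  apply h.cover.hom_ext
  intro i
  exact congrArg (fun k => k.left) (hfg i)

theorem exists_glue (h : IsZarCov T_ t) {X : Over S} (g : ∀ i, T_ i ⟶ X)
    (hcompat : ∀ i j (W : Over S) (a : W ⟶ T_ i) (b : W ⟶ T_ j), a ≫ t i = b ≫ t j →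
      a ≫ g i = b ≫ g j) : ∃ φ : T ⟶ X, ∀ i, t i ≫ φ = g i := by
  have hc : ∀ i j : J, pullback.fst (t i).left (t j).left ≫ (g i).left =
      pullback.snd (t i).left (t j).left ≫ (g j).left := by
    intro i j
    let W : Over S := Over.mk (pullback.fst (t i).left (t j).left ≫ (T_ i).hom)
    let a : W ⟶ T_ i := Over.homMk (pullback.fst (t i).left (t j).left) rfl
    have hb : pullback.snd (t i).left (t j).left ≫ (T_ j).hom = W.hom := by
      change _ = pullback.fst (t i).left (t j).left ≫ (T_ i).hom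
      rw [← Over.w (t i), ← Over.w (t j), ← Category.assoc, ← Category.assoc]
      congr 1
      exact pullback.condition.symm
    let b : W ⟶ T_ j := Over.homMk (pullback.snd (t i).left (t j).left) hb
    have hab : a ≫ t i = b ≫ t j := by
      ext : 1
      exact pullback.condition
    exact congrArg (fun k => k.left) (hcompat i j W a b hab)
  let φ₀ : T.left ⟶ X.left := h.cover.glueMorphisms (fun i => (g i).left) hc
  have hφ₀ : ∀ i, (t i).left ≫ φ₀ = (g i).left := fun i => h.cover.ι_glueMorphisms _ hc i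
  have hw : φ₀ ≫ X.hom = T.hom := by
    apply h.cover.hom_ext
    intro i
    change (t i).left ≫ φ₀ ≫ X.hom = (t i).left ≫ T.hom
    rw [← Category.assoc, hφ₀, Over.w, Over.w]
  refine ⟨Over.homMk φ₀ hw, fun i => ?_⟩
  ext : 1
  exact hφ₀ i

end IsZarCov

section sheaf

universe v

variable {A B X : Over S} [MonObj A] (ρ : MonAct A B) (a : MonAct A X)

theorem isZarCov_of_cover {T : Scheme.{u}} (s : T ⟶ S) (𝒰 : Scheme.OpenCover.{v} T) :
    IsZarCov (fun i => Over.mk (𝒰.f i ≫ s)) (fun i => ovHom (𝒰.f i) s) where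
  isOpen i := 𝒰.map_prop i
  surj x := by
    obtain ⟨i, y, hy⟩ := 𝒰.exists_eq x
    exact ⟨i, y, hy⟩

theorem hsep : HSep.{u, v} (MonAct.eqvHom ρ a) := by
  intro T s 𝒰 e e' h
  apply Subtype.ext
  apply ((isZarCov_of_cover s 𝒰).whiskerLeft B).hom_ext
  intro i
  exact congrArg Subtype.val (h i)

theorem hglue : HGlue.{u, v} (MonAct.eqvHom ρ a) := by
  intro T s 𝒰 d hd
  have hcov := isZarCov_of_cover s 𝒰
  have hcompat : ∀ i j (W : Over S) (p : W ⟶ B ⊗ Over.mk (𝒰.f i ≫ s))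
      (q : W ⟶ B ⊗ Over.mk (𝒰.f j ≫ s)),
      p ≫ (B ◁ ovHom (𝒰.f i) s) = q ≫ (B ◁ ovHom (𝒰.f j) s) → p ≫ (d i).1 = q ≫ (d j).1 := by
    intro i j W p q hpq
    have h1 : p ≫ fst _ _ = q ≫ fst _ _ := by
      have := congrArg (fun k => k ≫ fst _ _) hpq
      simpa using this
    have h2 : (p ≫ snd _ _) ≫ ovHom (𝒰.f i) s = (q ≫ snd _ _) ≫ ovHom (𝒰.f j) s := by
      have := congrArg (fun k => k ≫ snd _ _) hpq
      simpa using this
    have h2' : (p ≫ snd _ _).left ≫ 𝒰.f i = (q ≫ snd _ _).left ≫ 𝒰.f j :=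
      congrArg (fun k => k.left) h2
    have hw : pullback.lift (p ≫ snd _ _).left (q ≫ snd _ _).left h2' ≫
        (pullback.fst (𝒰.f i) (𝒰.f j) ≫ 𝒰.f i ≫ s) = W.hom := by
      rw [pullback.lift_fst_assoc]
      exact Over.w (p ≫ snd _ _)
    let c : W ⟶ Over.mk (pullback.fst (𝒰.f i) (𝒰.f j) ≫ 𝒰.f i ≫ s) :=
      Over.homMk (pullback.lift (p ≫ snd _ _).left (q ≫ snd _ _).left h2') hw
    have hc1 : c ≫ ovHom (pullback.fst (𝒰.f i) (𝒰.f j)) (𝒰.f i ≫ s) = p ≫ snd _ _ := by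
      ext : 1
      exact pullback.lift_fst _ _ _
    have hc2 : c ≫ sndHom s 𝒰 i j = q ≫ snd _ _ := by
      ext : 1
      exact pullback.lift_snd _ _ _
    have hp : p = lift (p ≫ fst _ _) c ≫
        (B ◁ ovHom (pullback.fst (𝒰.f i) (𝒰.f j)) (𝒰.f i ≫ s)) := by
      rw [lift_whiskerLeft, hc1, lift_comp_fst_snd]
    have hq : q = lift (p ≫ fst _ _) c ≫ (B ◁ sndHom s 𝒰 i j) := by
      rw [lift_whiskerLeft, hc2, h1, lift_comp_fst_snd]
    have hdij : (B ◁ ovHom (pullback.fst (𝒰.f i) (𝒰.f j)) (𝒰.f i ≫ s)) ≫ (d i).1 =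
        (B ◁ sndHom s 𝒰 i j) ≫ (d j).1 := congrArg Subtype.val (hd i j)
    rw [hp, Category.assoc, hdij, ← Category.assoc, ← hq]
  obtain ⟨φ, hφ⟩ := (hcov.whiskerLeft B).exists_glue (fun i => (d i).1) hcompat
  refine ⟨⟨φ, ?_⟩, fun i => Subtype.ext (hφ i)⟩
  unfold MonAct.IsEquivariant
  apply ((hcov.whiskerLeft B).whiskerLeft A).hom_ext
  intro i
  have hi := (d i).2
  unfold MonAct.IsEquivariant at hi
  rw [← MonAct.prod_trivial_act_whiskerLeft_assoc, hφ i, hi,
    ← MonoidalCategory.whiskerLeft_comp_assoc, hφ i]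

end sheaf

end Groth.Agent.Lib.Helper18.EqvHomSheaf
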