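import Mathlib
import Groth.Prelude.Def_Magnet3
import Groth.Agent.Lib.Helper18.MonAff
import Groth.Agent.Lib.Helper5.AMonCoord
import Groth.Agent.Lib.Helper5.AMonAttr

set_option autoImplicit false
set_option linter.unusedSectionVars false
universe u

open CategoryTheory CategoryTheory.Limits MonoidalCategory CartesianMonoidalCategory MonObj
  AlgebraicGeometry Opposite
open Magnet

noncomputable section

open scoped Classical

namespace Groth.Agent.Lib.Helper18.AttrAff

open Groth.Agent.Lib.Helper18.MonPts Groth.Agent.Lib.Helper18.MonAff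
  Groth.Agent.Lib.Helper5.AMonPts Groth.Agent.Lib.Helper5.AMonCoord Groth.Agent.Lib.Helper5.AMonAttr
  Groth.Agent.Lib.Helper5.AMonDom

variable {U : Scheme.{u}} {M : Type} [AddCommMonoid M]
  {A : Type u} [CommRing A] (sA : Spec (CommRingCat.of A) ⟶ U)
  (a : MonAct (AMonS U M) (Over.mk sA))
  {B : Type u} [CommRing B] (tB : Spec (CommRingCat.of B) ⟶ U)

theorem chr_mE (K : Type) [AddCommMonoid K] :
    chr (mE K (CommRingCat.of B) tB) = MonoidAlgebra.of B (Multiplicative K) := by
  refine MonoidHom.ext fun k => ?_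
  rw [chr_apply, monHomOfPt_mE, φE_apply]
  change (Scheme.ΓSpecIso _).hom ((Scheme.ΓSpecIso _).inv _) = _
  rw [← CommRingCat.comp_apply, Iso.inv_hom_id]
  rfl

theorem pre_comp {A₁ A₂ A₃ : Type u} [CommRing A₁] [CommRing A₂] [CommRing A₃]
    (f : Spec (CommRingCat.of A₃) ⟶ Spec (CommRingCat.of A₂))
    (g : Spec (CommRingCat.of A₂) ⟶ Spec (CommRingCat.of A₁)) :
    pre (f ≫ g) = (pre f).comp (pre g) := by
  have h : Spec.map (CommRingCat.ofHom ((pre f).comp (pre g))) = f ≫ g := by
    rw [CommRingCat.ofHom_comp, Spec.map_comp, map_pre, map_pre]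
  rw [← h, pre_map]

/-- the orbit map of a point in coordinates. -/
theorem orbit_left {Z : Type} [AddCommMonoid Z] (f : M →+ Z)
    (x : Over.mk tB ⟶ Over.mk sA) :
    (e₀ Z (CommRingCat.of B) tB ≫ (AMonS U Z ◁ x) ≫ (a.restrict (AMonS.map U f)).act).left =
      Spec.map (CommRingCat.ofHom ((φc ((ιA (A := B) (M := Z)).comp (pre x.left))
        ((MonoidAlgebra.of B (Multiplicative Z)).comp (AddMonoidHom.toMultiplicative f))).comp
          (ρ sA a))) := by
  have h1 : e₀ Z (CommRingCat.of B) tB ≫ (AMonS U Z ◁ x) ≫ (a.restrict (AMonS.map U f)).act =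
      lift (mE Z (CommRingCat.of B) tB ≫ AMonS.map U f) (yE Z (CommRingCat.of B) tB ≫ x) ≫ a.act := by
    rw [e₀, lift_whiskerLeft_assoc, MonAct.lift_restrict_act]
  rw [h1, act_left, chr_map, chr_mE]
  have h2 : pre (yE Z (CommRingCat.of B) tB ≫ x).left =
      (ιA (A := B) (M := Z)).comp (pre x.left) := by
    rw [Over.comp_left]
    change pre (Spec.map (CommRingCat.ofHom (ιA (A := B) (M := Z))) ≫ x.left) = _
    rw [pre_comp, pre_map]
  rw [h2]

/-- coefficients of the coaction are homogeneous. -/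
theorem ρ_homog (b₀ : A) (m : Multiplicative M) :
    ρ sA a ((ρ sA a b₀).coeff m) = MonoidAlgebra.single m ((ρ sA a b₀).coeff m) := by
  apply MonoidAlgebra.coeff_injective
  ext m'
  rw [ρ_coassoc, MonoidAlgebra.coeff_single, Finsupp.single_apply]
  by_cases h : m' = m
  · rw [if_pos h, if_pos h.symm]
  · rw [if_neg h, if_neg (Ne.symm h)]

theorem φc_single {A' : Type u} [CommRing A'] (ξ : A →+* A') (χ : Multiplicative M →* A')
    (m : Multiplicative M) (c : A) : φc ξ χ (MonoidAlgebra.single m c) = ξ c * χ m := by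
  rw [φc, MonoidAlgebra.liftNCRingHom_single]

/-- vanishing of the non-magnet components at a point of the attractor. -/
theorem vanishing {Z : Type} [AddCommMonoid Z] (f : M →+ Z) (Y : AddSubmonoid Z)
    (ψ : AMonS U ↥Y ⊗ Over.mk tB ⟶ Over.mk sA)
    (hψ : MonAct.IsEquivariant ((subAct U Z Y).prod (MonAct.trivial (AMonS U Z) (Over.mk tB)))
      (a.restrict (AMonS.map U f)) ψ)
    (b₀ : A) (m : M) (hm : f m ∉ Y) :
    pre (ev ψ).left ((ρ sA a b₀).coeff (Multiplicative.ofAdd m)) = 0 := by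
  have key := map_whisker_comp_eq (a.restrict (AMonS.map U f)) Y ψ hψ
  have h1 : e₀ Z (CommRingCat.of B) tB ≫ (AMonS.map U Y.subtype ▷ Over.mk tB) ≫ ψ =
      e₀ Z (CommRingCat.of B) tB ≫ (AMonS U Z ◁ ev ψ) ≫ (a.restrict (AMonS.map U f)).act := by
    rw [key]
  rw [← Category.assoc, e₀_naturality, Category.assoc] at h1
  have h2 : (sE (CommRingCat.of B) tB Y.subtype ≫ e₀ (↥Y) (CommRingCat.of B) tB ≫ ψ).left =
      (e₀ Z (CommRingCat.of B) tB ≫ (AMonS U Z ◁ ev ψ) ≫
        (a.restrict (AMonS.map U f)).act).left := congrArg (fun k => k.left) h1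
  rw [orbit_left, Over.comp_left, sE_left] at h2
  set Ψ : A →+* MonoidAlgebra B (Multiplicative ↥Y) :=
    pre (e₀ (↥Y) (CommRingCat.of B) tB ≫ ψ).left with hΨ
  have h3 : (e₀ (↥Y) (CommRingCat.of B) tB ≫ ψ).left = Spec.map (CommRingCat.ofHom Ψ) :=
    (map_pre _).symm
  rw [h3, ← Spec.map_comp] at h2
  have h4 := Spec.map_injective h2
  set c := (ρ sA a b₀).coeff (Multiplicative.ofAdd m) with hc
  have h5 := congrArg (fun F => (F.hom c).coeff (Multiplicative.ofAdd (f m))) h4
  simp only [CommRingCat.hom_comp, CommRingCat.hom_ofHom, RingHom.comp_apply] at h5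
  rw [hc, ρ_homog, φc_single] at h5
  rw [← hc] at h5
  have h6 : ((MonoidAlgebra.mapDomainRingHom B (AddMonoidHom.toMultiplicative Y.subtype)) (Ψ c)).coeff
      (Multiplicative.ofAdd (f m)) = 0 := by
    change (Finsupp.mapDomain (AddMonoidHom.toMultiplicative Y.subtype) (Ψ c).coeff)
      (Multiplicative.ofAdd (f m)) = 0
    apply Finsupp.mapDomain_notin_range
    rintro ⟨y, hy⟩
    apply hm
    have : ((Multiplicative.toAdd y : ↥Y) : Z) = f m := congrArg Multiplicative.toAdd hy
    rw [← this]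
    exact (Multiplicative.toAdd y).2
  rw [h6] at h5
  have h7 : ((ιA (A := B) (M := Z)).comp (pre (ev ψ).left)) c *
      ((MonoidAlgebra.of B (Multiplicative Z)).comp (AddMonoidHom.toMultiplicative f))
        (Multiplicative.ofAdd m) =
      MonoidAlgebra.single (Multiplicative.ofAdd (f m)) (pre (ev ψ).left c) := by
    change MonoidAlgebra.single 1 (pre (ev ψ).left c) *
      MonoidAlgebra.single (Multiplicative.ofAdd (f m)) 1 = _
    rw [MonoidAlgebra.single_mul_single, _root_.one_mul, _root_.mul_one]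
  rw [h7, MonoidAlgebra.coeff_single, Finsupp.single_apply, if_pos rfl] at h5
  exact h5.symm

/-- the orbit map of a point in coordinates (unrestricted action). -/
theorem orbit_left₀ (x : Over.mk tB ⟶ Over.mk sA) :
    (e₀ M (CommRingCat.of B) tB ≫ (AMonS U M ◁ x) ≫ a.act).left =
      Spec.map (CommRingCat.ofHom ((φc ((ιA (A := B) (M := M)).comp (pre x.left))
        (MonoidAlgebra.of B (Multiplicative M))).comp (ρ sA a))) := by
  have h1 : e₀ M (CommRingCat.of B) tB ≫ (AMonS U M ◁ x) ≫ a.act =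
      lift (mE M (CommRingCat.of B) tB) (yE M (CommRingCat.of B) tB ≫ x) ≫ a.act := by
    rw [e₀, lift_whiskerLeft_assoc]
  rw [h1, act_left, chr_mE]
  have h2 : pre (yE M (CommRingCat.of B) tB ≫ x).left =
      (ιA (A := B) (M := M)).comp (pre x.left) := by
    rw [Over.comp_left]
    change pre (Spec.map (CommRingCat.ofHom (ιA (A := B) (M := M))) ≫ x.left) = _
    rw [pre_comp, pre_map]
  rw [h2]

section construct

variable (N : AddSubmonoid M) (x : Over.mk tB ⟶ Over.mk sA)
  (hvan : ∀ (b : A) (m : M), m ∉ N → pre x.left ((ρ sA a b).coeff (Multiplicative.ofAdd m)) = 0)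

/-- the orbit ring map. -/
def Θ : A →+* AM B M :=
  (φc ((ιA (A := B) (M := M)).comp (pre x.left)) (MonoidAlgebra.of B (Multiplicative M))).comp
    (ρ sA a)

abbrev jN : Multiplicative ↥N →* Multiplicative M := AddMonoidHom.toMultiplicative N.subtype

theorem jN_injective : Function.Injective (jN N) := by
  intro y y' h
  have : ((Multiplicative.toAdd y : ↥N) : M) = (Multiplicative.toAdd y' : ↥N) :=
    congrArg Multiplicative.toAdd h
  exact congrArg Multiplicative.ofAdd (Subtype.ext this)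

include hvan in
theorem supp_Θ (b : A) : ↑(Θ sA a tB x b).coeff.support ⊆ Set.range (jN N) := by
  intro m hm
  rw [Finset.mem_coe, Finsupp.mem_support_iff] at hm
  by_contra hr
  apply hm
  have h1 : (Θ sA a tB x b).coeff m = pre x.left ((ρ sA a b).coeff m) :=
    cf_φc_of (pre x.left) m (ρ sA a b)
  rw [h1]
  have h2 : Multiplicative.toAdd m ∉ N := by
    intro hmem
    exact hr ⟨Multiplicative.ofAdd ⟨Multiplicative.toAdd m, hmem⟩, rfl⟩
  exact hvan b (Multiplicative.toAdd m) h2

/-- the underlying function of `Φ`. -/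
def Φfun (b : A) : AM B ↥N :=
  MonoidAlgebra.comapDomain (jN N) (jN_injective N) (Θ sA a tB x b)

include hvan in
theorem map_Φfun (b : A) :
    MonoidAlgebra.mapDomainRingHom B (jN N) (Φfun sA a tB N x b) = Θ sA a tB x b :=
  MonoidAlgebra.mapDomain_comapDomain (supp_Θ sA a tB N x hvan b) (jN_injective N)

theorem mapDomainRingHom_injective :
    Function.Injective (MonoidAlgebra.mapDomainRingHom B (jN N)) :=
  MonoidAlgebra.mapDomain_injective (jN_injective N)

/-- the ring map `A → B[N]` of the attractor point. -/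
def Φ : A →+* AM B ↥N where
  toFun := Φfun sA a tB N x
  map_one' := by
    apply mapDomainRingHom_injective (B := B) N
    rw [map_Φfun sA a tB N x hvan, map_one, map_one]
  map_mul' b b' := by
    apply mapDomainRingHom_injective (B := B) N
    rw [map_mul, map_Φfun sA a tB N x hvan, map_Φfun sA a tB N x hvan,
      map_Φfun sA a tB N x hvan, map_mul]
  map_zero' := by
    apply mapDomainRingHom_injective (B := B) N
    rw [map_Φfun sA a tB N x hvan, map_zero, map_zero]
  map_add' b b' := by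
    apply mapDomainRingHom_injective (B := B) N
    rw [map_add, map_Φfun sA a tB N x hvan, map_Φfun sA a tB N x hvan,
      map_Φfun sA a tB N x hvan, map_add]

theorem gHom_Φ : (MonoidAlgebra.mapDomainRingHom B (jN N)).comp (Φ sA a tB N x hvan) =
    Θ sA a tB x := by
  refine RingHom.ext fun b => ?_
  exact map_Φfun sA a tB N x hvan b

end construct

section construct2

variable (N : AddSubmonoid M) (x : Over.mk tB ⟶ Over.mk sA)
  (hvan : ∀ (b : A) (m : M), m ∉ N → pre x.left ((ρ sA a b).coeff (Multiplicative.ofAdd m)) = 0)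
  {R : Type u} [CommRing R] (r₀ : Spec (CommRingCat.of R) ⟶ U) [Mono r₀] (σ : R →+* A)
  (hsA : sA = Spec.map (CommRingCat.ofHom σ) ≫ r₀)

include hsA in
theorem Φ_lin : (Φ sA a tB N x hvan).comp σ =
    ((ιA (A := B) (M := ↥N)).comp (pre x.left)).comp σ := by
  refine RingHom.ext fun r => ?_
  apply mapDomainRingHom_injective (B := B) N
  change MonoidAlgebra.mapDomainRingHom B (jN N) (Φfun sA a tB N x (σ r)) =
    MonoidAlgebra.mapDomainRingHom B (jN N) (MonoidAlgebra.single 1 (pre x.left (σ r)))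
  rw [map_Φfun sA a tB N x hvan]
  change φc ((ιA (A := B) (M := M)).comp (pre x.left)) (MonoidAlgebra.of B (Multiplicative M))
    (ρ sA a (σ r)) = _
  rw [ρ_lin sA a r₀ σ hsA, φc_single]
  change MonoidAlgebra.single 1 (pre x.left (σ r)) * MonoidAlgebra.single 1 1 =
    MonoidAlgebra.mapDomain (jN N) (MonoidAlgebra.single 1 (pre x.left (σ r)))
  rw [MonoidAlgebra.single_mul_single, _root_.one_mul, _root_.mul_one,
    MonoidAlgebra.mapDomain_single, map_one]

include hsA in
theorem Φ_w : Spec.map (CommRingCat.ofHom (Φ sA a tB N x hvan)) ≫ sA =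
    (E (↥N) (CommRingCat.of B) tB).hom := by
  change _ = Spec.map (CommRingCat.ofHom (ιA (A := B) (M := ↥N))) ≫ tB
  have hx : tB = Spec.map (CommRingCat.ofHom (pre x.left)) ≫ sA := by
    rw [map_pre]
    exact (Over.w x).symm
  have hlin := Φ_lin sA a tB N x hvan r₀ σ hsA
  generalize Φ sA a tB N x hvan = Φ' at hlin ⊢
  generalize pre x.left = ξ at hlin hx
  rw [hx]
  have h1 : ∀ (ζ : A →+* AM B ↥N), Spec.map (CommRingCat.ofHom ζ) ≫ sA =
      Spec.map (CommRingCat.ofHom (ζ.comp σ)) ≫ r₀ := by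
    intro ζ
    rw [hsA, CommRingCat.ofHom_comp, Spec.map_comp, Category.assoc]
  rw [h1, hlin, ← h1, CommRingCat.ofHom_comp, Spec.map_comp, Category.assoc]

/-- the attractor point in coordinates. -/
def φ₀ : E (↥N) (CommRingCat.of B) tB ⟶ Over.mk sA :=
  Over.homMk (Spec.map (CommRingCat.ofHom (Φ sA a tB N x hvan)))
    (Φ_w sA a tB N x hvan r₀ σ hsA)

/-- the attractor point. -/
def φN : AMonS U ↥N ⊗ Over.mk tB ⟶ Over.mk sA :=
  inv (e₀ (↥N) (CommRingCat.of B) tB) ≫ φ₀ sA a tB N x hvan r₀ σ hsA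

theorem φN_orbit : (AMonS.map U N.subtype ▷ Over.mk tB) ≫ φN sA a tB N x hvan r₀ σ hsA =
    (AMonS U M ◁ x) ≫ a.act := by
  rw [← cancel_epi (e₀ M (CommRingCat.of B) tB), ← Category.assoc, e₀_naturality, Category.assoc,
    φN, IsIso.hom_inv_id_assoc]
  ext : 1
  rw [orbit_left₀, Over.comp_left, sE_left]
  change Spec.map _ ≫ Spec.map _ = _
  rw [← Spec.map_comp, ← CommRingCat.ofHom_comp, gHom_Φ]
  rfl

theorem lift_subAct (g : Over U) {T' : Over U} (g : T' ⟶ AMonS U M) (b : T' ⟶ AMonS U ↥N) :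
    lift g b ≫ (subAct U M N).act = (g ≫ AMonS.map U N.subtype) * b := by
  unfold subAct
  rw [MonAct.lift_restrict_act, MonAct.lift_regular_act]

/-- a family `A(N) × T ⟶ X` restricting to the orbit map of `x` on `A(M) × T` is equivariant. -/
theorem eqv_of_orbit (φ : AMonS U ↥N ⊗ Over.mk tB ⟶ Over.mk sA)
    (horb : (AMonS.map U N.subtype ▷ Over.mk tB) ≫ φ = (AMonS U M ◁ x) ≫ a.act) :
    MonAct.IsEquivariant ((subAct U M N).prod (MonAct.trivial (AMonS U M) (Over.mk tB))) a φ := by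
  have horb' : ∀ {T' : Over U} (G : T' ⟶ AMonS U M) (t' : T' ⟶ Over.mk tB),
      lift (G ≫ AMonS.map U N.subtype) t' ≫ φ = lift G (t' ≫ x) ≫ a.act := by
    intro T' G t'
    rw [← lift_whiskerRight_assoc, horb, lift_whiskerLeft_assoc]
  rw [MonAct.mem_eqvHom_iff]
  intro T' g b t
  let T₂ : Over U := AMonS U M ⊗ Over.mk tB
  let L' : AMonS U ↥N ⊗ T₂ ⟶ Over.mk sA :=
    lift (((snd _ _ ≫ fst _ _) ≫ AMonS.map U N.subtype) * fst _ _) (snd _ _ ≫ snd _ _) ≫ φ
  let R' : AMonS U ↥N ⊗ T₂ ⟶ Over.mk sA :=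
    lift (snd _ _ ≫ fst _ _) (lift (fst _ _) (snd _ _ ≫ snd _ _) ≫ φ) ≫ a.act
  have hLR : L' = R' := by
    have hd := dominant_subtype (S := U) N T₂
    have : IsSeparated (Over.mk sA).hom := (inferInstance : IsSeparated sA)
    apply ext_of_dominant_of_separated (AMonS.map U N.subtype ▷ T₂).left
    have h1 : (AMonS.map U N.subtype ▷ T₂) ≫ L' = (AMonS.map U N.subtype ▷ T₂) ≫ R' := by
      apply Magnet.hom_ext_lift₂
      intro T'' g' s
      have hL : lift g' s ≫ (AMonS.map U N.subtype ▷ T₂) ≫ L' =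
          lift (((s ≫ fst _ _) * g') ≫ AMonS.map U N.subtype) (s ≫ snd _ _) ≫ φ := by
        rw [lift_whiskerRight_assoc, ← Category.assoc, comp_lift, MonObj.comp_mul,
          ← Category.assoc, ← Category.assoc, lift_snd, lift_fst, ← Category.assoc, lift_snd,
          MonObj.mul_comp]
      have hR : lift g' s ≫ (AMonS.map U N.subtype ▷ T₂) ≫ R' =
          lift (s ≫ fst _ _) (lift (g' ≫ AMonS.map U N.subtype) (s ≫ snd _ _) ≫ φ) ≫ a.act := by
        rw [lift_whiskerRight_assoc, ← Category.assoc, comp_lift, ← Category.assoc, lift_snd,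
          ← Category.assoc, comp_lift, lift_fst, ← Category.assoc, lift_snd]
      rw [hL, hR, horb', horb', a.lift_mul_act]
    exact congrArg (fun k => k.left) h1
  have h2 : lift b (lift g t) ≫ L' = lift b (lift g t) ≫ R' := by rw [hLR]
  have hL2 : lift b (lift g t) ≫ L' = lift ((g ≫ AMonS.map U N.subtype) * b) t ≫ φ := by
    rw [← Category.assoc, comp_lift, MonObj.comp_mul, ← Category.assoc, ← Category.assoc,
      lift_snd, lift_fst, lift_fst, ← Category.assoc, lift_snd, lift_snd]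
  have hR2 : lift b (lift g t) ≫ R' = lift g (lift b t ≫ φ) ≫ a.act := by
    rw [← Category.assoc, comp_lift, ← Category.assoc, lift_snd, lift_fst, ← Category.assoc,
      comp_lift, lift_fst, ← Category.assoc, lift_snd, lift_snd]
  rw [hL2, hR2] at h2
  rw [lift_subAct N (Over.mk tB)]
  exact h2

theorem ev_of_orbit (φ : AMonS U ↥N ⊗ Over.mk tB ⟶ Over.mk sA)
    (horb : (AMonS.map U N.subtype ▷ Over.mk tB) ≫ φ = (AMonS U M ◁ x) ≫ a.act) :
    ev φ = x := by
  have h1 : (toUnit (Over.mk tB) ≫ η[AMonS U ↥N]) =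
      (toUnit (Over.mk tB) ≫ η[AMonS U M]) ≫ AMonS.map U N.subtype := by
    rw [Category.assoc, IsMonHom.one_hom]
  change lift (toUnit (Over.mk tB) ≫ η[AMonS U ↥N]) (𝟙 _) ≫ φ = x
  rw [h1, ← lift_whiskerRight_assoc, horb, lift_whiskerLeft_assoc, Category.id_comp,
    ← Hom.one_def, a.lift_one_act]

end construct2

/-- LOCAL FORM of the change-of-monoid surjectivity for affine `X` and affine `T`. -/
theorem exists_attr_local {Z : Type} [AddCommMonoid Z] (f : M →+ Z) (Y : AddSubmonoid Z)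
    {R : Type u} [CommRing R] (r₀ : Spec (CommRingCat.of R) ⟶ U) [Mono r₀] (σ : R →+* A)
    (hsA : sA = Spec.map (CommRingCat.ofHom σ) ≫ r₀)
    (ψ : AMonS U ↥Y ⊗ Over.mk tB ⟶ Over.mk sA)
    (hψ : MonAct.IsEquivariant ((subAct U Z Y).prod (MonAct.trivial (AMonS U Z) (Over.mk tB)))
      (a.restrict (AMonS.map U f)) ψ) :
    ∃ φ : AMonS U ↥(Y.comap f) ⊗ Over.mk tB ⟶ Over.mk sA,
      MonAct.IsEquivariant ((subAct U M (Y.comap f)).prod
        (MonAct.trivial (AMonS U M) (Over.mk tB))) a φ ∧ ev φ = ev ψ := by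
  have hvan : ∀ (b : A) (m : M), m ∉ Y.comap f →
      pre (ev ψ).left ((ρ sA a b).coeff (Multiplicative.ofAdd m)) = 0 := by
    intro b m hm
    exact vanishing sA a tB f Y ψ hψ b m hm
  have horb := φN_orbit sA a tB (Y.comap f) (ev ψ) hvan r₀ σ hsA
  exact ⟨φN sA a tB (Y.comap f) (ev ψ) hvan r₀ σ hsA,
    eqv_of_orbit sA a tB (Y.comap f) (ev ψ) _ horb, ev_of_orbit sA a tB (Y.comap f) (ev ψ) _ horb⟩

end Groth.Agent.Lib.Helper18.AttrAff
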