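import Mathlib
import Groth.Prelude.Def_Magnet3
import Groth.Agent.Lib.Helper5.AMonAttr

set_option autoImplicit false
set_option linter.unusedSectionVars false
universe u

open CategoryTheory CategoryTheory.Limits MonoidalCategory CartesianMonoidalCategory MonObj
  AlgebraicGeometry Opposite
open Magnet

noncomputable section

namespace Groth.Agent.Lib.Helper18.AttrClosed

open Groth.Agent.Lib.Helper5.AMonAttr Groth.Agent.Lib.Helper5.AMonDom

variable {S : Scheme.{u}} {M : Type} [AddCommMonoid M] (N : AddSubmonoid M) {X Y : Over S}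
  (aX : MonAct (AMonS S M) X) (aY : MonAct (AMonS S M) Y) (f : X ⟶ Y)
  (hf : MonAct.IsEquivariant aX aY f)

include hf in
/-- an attractor point of `Y` whose unit-section value lies in the closed equivariant subscheme
`X` is an attractor point of `X`. -/
theorem exists_attr_of_closed [IsClosedImmersion f.left] {T : Over S}
    (φ : AMonS S ↥N ⊗ T ⟶ Y)
    (hφ : MonAct.IsEquivariant ((subAct S M N).prod (MonAct.trivial (AMonS S M) T)) aY φ)
    (x : T ⟶ X) (hx : ev φ = x ≫ f) :
    ∃ ψ : AMonS S ↥N ⊗ T ⟶ X,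
      MonAct.IsEquivariant ((subAct S M N).prod (MonAct.trivial (AMonS S M) T)) aX ψ ∧
        ψ ≫ f = φ ∧ ev ψ = x := by
  have hmono : Mono f := by
    have : Mono f.left := inferInstance
    exact Over.mono_of_mono_left _
  have hfe : aX.act ≫ f = (AMonS S M ◁ f) ≫ aY.act := hf
  have hd := dominant_subtype (S := S) N T
  have key := map_whisker_comp_eq aY N φ hφ
  have h0 : ((AMonS S M ◁ x) ≫ aX.act) ≫ f = (AMonS.map S N.subtype ▷ T) ≫ φ := by
    rw [key, hx, Category.assoc, hfe, ← Category.assoc, ← MonoidalCategory.whiskerLeft_comp]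
  obtain ⟨ψ, hψ⟩ := exists_lift_of_dominant f (AMonS.map S N.subtype ▷ T).left φ
    ((AMonS S M ◁ x) ≫ aX.act).left (congrArg (fun k => k.left) h0)
  refine ⟨ψ, ?_, hψ, ?_⟩
  · rw [MonAct.mem_eqvHom_iff]
    intro T' g b t
    rw [← cancel_mono f, Category.assoc, hψ, Category.assoc, hfe, lift_whiskerLeft_assoc,
      Category.assoc, hψ]
    exact (MonAct.mem_eqvHom_iff φ).mp hφ T' g b t
  · rw [← cancel_mono f, ← hx, ← hψ]
    change (lift _ _ ≫ ψ) ≫ f = lift _ _ ≫ ψ ≫ f
    rw [Category.assoc]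

include hf in
theorem isPullback_attrToX [IsClosedImmersion f.left] :
    IsPullback (MonAct.eqvHom.postcomp (subAct S M N) f hf) (attrToX aX N)
      (attrToX aY N) (yoneda.map f) := by
  have hmono : Mono f := by
    have : Mono f.left := inferInstance
    exact Over.mono_of_mono_left _
  refine IsPullback.of_forall_isPullback_app fun T => ?_
  rw [Types.isPullback_iff]
  refine ⟨?_, ?_, ?_⟩
  · ext φ
    change lift _ _ ≫ φ.1 ≫ f = (lift _ _ ≫ φ.1) ≫ f
    rw [Category.assoc]
  · rintro φ₁ φ₂ ⟨h1, -⟩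
    apply Subtype.ext
    have h2 : φ₁.1 ≫ f = φ₂.1 ≫ f := congrArg Subtype.val h1
    exact (cancel_mono f).mp h2
  · intro φ x hx
    obtain ⟨ψ, hψe, hψf, hψx⟩ := exists_attr_of_closed N aX aY f hf φ.1 φ.2 x hx
    exact ⟨⟨ψ, hψe⟩, Subtype.ext hψf, hψx⟩

end Groth.Agent.Lib.Helper18.AttrClosed
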