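import Mathlib

set_option autoImplicit false
universe u

namespace Groth.Agent.Lib.Helper18.GrpAlgFree

open MonoidAlgebra

variable (R : Type*) [CommRing R] {Z M : Type*} [CommMonoid Z] [CommGroup M] (j : Z →* M)

theorem mapDomainRingHom_single (z : Z) (r : R) :
    mapDomainRingHom R j (single z r) = single (j z) r := by
  change mapDomain j (single z r) = _
  simp

theorem coeff_mapDomain_apply (hj : Function.Injective j) (x : MonoidAlgebra R Z) (z : Z) :
    (mapDomainRingHom R j x).coeff (j z) = x.coeff z := by
  change (mapDomain j x).coeff (j z) = _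
  rw [mapDomain]
  exact Finsupp.mapDomain_apply hj _ _

theorem coeff_mapDomain_notin (x : MonoidAlgebra R Z) (m : M) (hm : m ∉ Set.range j) :
    (mapDomainRingHom R j x).coeff m = 0 := by
  change (mapDomain j x).coeff m = _
  rw [mapDomain]
  exact Finsupp.mapDomain_of_notMem_range _ _ hm

def rangeSubgroup (hinv : ∀ z, ∃ z', j z' = (j z)⁻¹) : Subgroup M where
  carrier := Set.range j
  mul_mem' := by
    rintro _ _ ⟨a, rfl⟩ ⟨b, rfl⟩
    exact ⟨a * b, map_mul j a b⟩
  one_mem' := ⟨1, map_one j⟩
  inv_mem' := by
    rintro _ ⟨a, rfl⟩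
    exact hinv a

theorem mem_rangeSubgroup (hinv : ∀ z, ∃ z', j z' = (j z)⁻¹) (m : M) :
    m ∈ rangeSubgroup j hinv ↔ m ∈ Set.range j := Iff.rfl

theorem free (hj : Function.Injective j) (hinv : ∀ z, ∃ z', j z' = (j z)⁻¹) :
    letI := (mapDomainRingHom R j).toAlgebra
    Module.Free (MonoidAlgebra R Z) (MonoidAlgebra R M) := by
  let _ := (mapDomainRingHom R j).toAlgebra
  classical
  let Q := M ⧸ rangeSubgroup j hinv
  let s : Q → M := fun c => Quotient.out c
  have hs : ∀ c : Q, (QuotientGroup.mk (s c) : Q) = c := fun c => Quotient.out_eq c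
  let b : Q → MonoidAlgebra R M := fun c => single (s c) 1
  have hsmul : ∀ (p : MonoidAlgebra R Z) (y : MonoidAlgebra R M),
      p • y = mapDomainRingHom R j p * y := fun p y => rfl
  have hli : LinearIndependent (MonoidAlgebra R Z) b := by
    rw [linearIndependent_iff']
    intro t g hg c₀ hc₀
    rw [← coeff_inj]
    ext z
    have h1 := congrArg (fun y : MonoidAlgebra R M => y.coeff (j z * s c₀)) hg
    simp only [coeff_sum, Finsupp.coe_finsetSum, Finset.sum_apply, coeff_zero, Finsupp.coe_zero,
      Pi.zero_apply] at h1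
    rw [Finset.sum_eq_single c₀] at h1
    · rw [hsmul, coeff_mul_single_apply, mul_one, mul_inv_cancel_right,
        coeff_mapDomain_apply R j hj] at h1
      simpa using h1
    · intro c _ hc
      rw [hsmul, coeff_mul_single_apply, mul_one]
      apply coeff_mapDomain_notin
      rintro ⟨z', hz'⟩
      apply hc
      have h2 : (QuotientGroup.mk (j z * s c₀ * (s c)⁻¹) : Q) = 1 := by
        rw [QuotientGroup.eq_one_iff]
        exact ⟨z', hz'⟩
      rw [QuotientGroup.mk_mul, QuotientGroup.mk_mul, QuotientGroup.mk_inv, hs, hs] at h2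
      have h3 : (QuotientGroup.mk (j z) : Q) = 1 := by
        rw [QuotientGroup.eq_one_iff]
        exact ⟨z, rfl⟩
      rw [h3, one_mul, mul_inv_eq_one] at h2
      exact h2.symm
    · intro h
      exact absurd hc₀ h
  have hsp : ⊤ ≤ Submodule.span (MonoidAlgebra R Z) (Set.range b) := by
    intro x hx0
    clear hx0
    induction x using MonoidAlgebra.induction_linear with
    | zero => exact Submodule.zero_mem _
    | add x y hx hy => exact Submodule.add_mem _ hx hy
    | single m r =>
      have hmem : m * (s (QuotientGroup.mk m))⁻¹ ∈ rangeSubgroup j hinv := by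
        rw [← QuotientGroup.eq_one_iff, QuotientGroup.mk_mul, QuotientGroup.mk_inv, hs,
          mul_inv_cancel]
      obtain ⟨z, hz⟩ := hmem
      have : single m r = (single z r : MonoidAlgebra R Z) • b (QuotientGroup.mk m) := by
        rw [hsmul, mapDomainRingHom_single, single_mul_single, mul_one, hz, inv_mul_cancel_right]
      rw [this]
      exact Submodule.smul_mem _ _ (Submodule.subset_span ⟨_, rfl⟩)
  exact Module.Free.of_basis (Module.Basis.mk hli hsp)

end Groth.Agent.Lib.Helper18.GrpAlgFree
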