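import Mathlib
import Groth.Prelude.Def_Magnet3
import Groth.Agent.Lib.Helper5.AMonPts
import Groth.Agent.Lib.Helper18.GrpAlgFree
import Groth.Agent.Lib.Helper18.FpqcOver

set_option autoImplicit false
universe u

open CategoryTheory CategoryTheory.Limits MonoidalCategory CartesianMonoidalCategory MonObj AlgebraicGeometry Opposite
open Magnet Groth.Agent.Lib.Helper5.AMonPts Groth.Agent.Lib.Helper18.FpqcOver

noncomputable section

namespace Groth.Agent.Lib.Helper18.DiagQuot

section cov


variable {S : Scheme.{u}} {N M : Type} [AddCommMonoid N] [AddCommGroup M]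

theorem faithfullyFlat_mapDomain (f : N →+ M) (hf : Function.Injective f)
    (hneg : ∀ n, ∃ n', f n' = - f n) :
    (MonoidAlgebra.mapDomainBialgHom (ULift.{u} ℤ)
      (AddMonoidHom.toMultiplicative f)).toAlgHom.toRingHom.FaithfullyFlat := by
  have hj : Function.Injective (AddMonoidHom.toMultiplicative f) := fun a b h => hf h
  have heq : (MonoidAlgebra.mapDomainBialgHom (ULift.{u} ℤ)
      (AddMonoidHom.toMultiplicative f)).toAlgHom.toRingHom =
      MonoidAlgebra.mapDomainRingHom (ULift.{u} ℤ) (AddMonoidHom.toMultiplicative f) := by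
    apply MonoidAlgebra.ringHom_ext
    · intro r; simp
    · intro m; simp
  rw [heq]
  unfold RingHom.FaithfullyFlat
  let _ := (MonoidAlgebra.mapDomainRingHom (ULift.{u} ℤ) (AddMonoidHom.toMultiplicative f)).toAlgebra
  have := Groth.Agent.Lib.Helper18.GrpAlgFree.free (ULift.{u} ℤ) (AddMonoidHom.toMultiplicative f) hj
    (fun z => by
      obtain ⟨n', hn'⟩ := hneg (Multiplicative.toAdd z)
      exact ⟨Multiplicative.ofAdd n', congrArg Multiplicative.ofAdd hn'⟩)
  infer_instance

theorem isCov_map (f : N →+ M) (hf : Function.Injective f) (hneg : ∀ n, ∃ n', f n' = - f n) :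
    IsCov (AMonS.map S f) := by
  have h1 := (flat_and_surjective_SpecMap_iff (CommRingCat.ofHom (MonoidAlgebra.mapDomainBialgHom (ULift.{u} ℤ)
      (AddMonoidHom.toMultiplicative f)).toAlgHom.toRingHom)).mpr (faithfullyFlat_mapDomain f hf hneg)
  have hflat : Flat (AMon.map (ULift.{u} ℤ) f).left := by
    rw [AMon.map_left]; exact h1.1
  have hsurj : Surjective (AMon.map (ULift.{u} ℤ) f).left := by
    rw [AMon.map_left]; exact h1.2
  have hqc : QuasiCompact (AMon.map (ULift.{u} ℤ) f).left := by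
    have h2 : QuasiCompact (Spec.map (CommRingCat.ofHom (MonoidAlgebra.mapDomainBialgHom (ULift.{u} ℤ)
        (AddMonoidHom.toMultiplicative f)).toAlgHom.toRingHom)) :=
      @instQuasiCompactOfIsAffineHom _ _ _ (isAffineHom_of_isAffine _)
    exact h2
  exact ⟨prop_pullback_map @Flat _ _ hflat, prop_pullback_map @Surjective _ _ hsurj,
    prop_pullback_map @QuasiCompact _ _ hqc⟩


end cov

section basics

variable {S : Scheme.{u}} {N M : Type} [AddCommMonoid N] [AddCommMonoid M]

theorem map_zero' : AMonS.map S (0 : N →+ M) = (1 : AMonS S M ⟶ AMonS S N) := by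
  apply monHomOfPt_injective
  have := monHomOfPt_map (0 : N →+ M) (𝟙 (AMonS S M))
  rw [Category.id_comp] at this
  rw [this, monHomOfPt_one]
  refine MonoidHom.ext fun n => ?_
  change monHomOfPt (𝟙 (AMonS S M)) 1 = 1
  rw [map_one]

end basics

variable {S : Scheme.{u}} {M : Type} [AddCommGroup M] (Z : AddSubgroup M)

abbrev piZ : AMonS S M ⟶ AMonS S ↥Z.toAddSubmonoid := AMonS.map S Z.toAddSubmonoid.subtype

abbrev iotaZ : AMonS S (M ⧸ Z) ⟶ AMonS S M := AMonS.map S (QuotientAddGroup.mk' Z)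

theorem iota_pi : iotaZ (S := S) Z ≫ piZ Z = 1 := by
  rw [← AMonS.map_comp]
  have : (QuotientAddGroup.mk' Z).comp Z.toAddSubmonoid.subtype = 0 := by
    ext z
    simp only [AddMonoidHom.coe_comp, Function.comp_apply, AddMonoidHom.zero_apply]
    exact (QuotientAddGroup.eq_zero_iff _).mpr z.2
  rw [this, map_zero']

theorem exists_lift_of_comp_pi (T : Over S) (gam : T ⟶ AMonS S M) (h : gam ≫ piZ Z = 1) :
    ∃ κ : T ⟶ AMonS S (M ⧸ Z), κ ≫ iotaZ Z = gam := by
  have h1 : (monHomOfPt gam).comp (AddMonoidHom.toMultiplicative Z.toAddSubmonoid.subtype) = 1 := by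
    rw [← monHomOfPt_map, h, monHomOfPt_one]
  let φa : M →+ Additive Γ(T.left, ⊤) := MonoidHom.toAdditiveRight (monHomOfPt gam)
  have hker : Z ≤ φa.ker := by
    intro z hz
    rw [AddMonoidHom.mem_ker]
    have := congrArg (fun ψ => ψ (Multiplicative.ofAdd (⟨z, hz⟩ : ↥Z.toAddSubmonoid))) h1
    exact congrArg Additive.ofMul this
  let κa : M ⧸ Z →+ Additive Γ(T.left, ⊤) := QuotientAddGroup.lift Z φa hker
  let κm : Multiplicative (M ⧸ Z) →* Γ(T.left, ⊤) := AddMonoidHom.toMultiplicativeLeft κa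
  refine ⟨ptOfMonHom κm, ?_⟩
  apply monHomOfPt_injective
  rw [monHomOfPt_map, monHomOfPt_ptOfMonHom]
  refine MonoidHom.ext fun m => ?_
  rfl

theorem isCov_piZ : IsCov (piZ (S := S) Z) :=
  isCov_map _ Subtype.val_injective (fun n => ⟨⟨-n.1, Z.neg_mem n.2⟩, rfl⟩)

end Groth.Agent.Lib.Helper18.DiagQuot
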