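import Mathlib
import Groth.Agent.Lib.Helper18.GrpAlgFree

set_option autoImplicit false
universe u

namespace Groth.Agent.Lib.Helper18.MonAlgFree

open MonoidAlgebra Groth.Agent.Lib.Helper18.GrpAlgFree

variable (R : Type*) [CommRing R] {Z M : Type*} [CommMonoid Z] [CommMonoid M] (j : Z →* M)
  {I : Type*} (b : I → M)

theorem mapDomainRingHom_single' (z : Z) (r : R) :
    mapDomainRingHom R j (single z r) = single (j z) r := by
  change mapDomain j (single z r) = _
  simp

theorem coeff_smul_basis (hinj : Function.Injective (fun x : Z × I => j x.1 * b x.2))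
    (g : MonoidAlgebra R Z) (c c₀ : I) (z : Z) [DecidableEq I] :
    (mapDomainRingHom R j g * single (b c) 1).coeff (j z * b c₀) =
      if c = c₀ then g.coeff z else 0 := by
  classical
  induction g using MonoidAlgebra.induction_linear with
  | zero => simp
  | add x y hx hy =>
    rw [map_add, add_mul, coeff_add, Finsupp.add_apply, hx, hy, coeff_add, Finsupp.add_apply]
    split_ifs <;> simp
  | single n r =>
    rw [mapDomainRingHom_single', single_mul_single, mul_one, coeff_single, Finsupp.single_apply, coeff_single, Finsupp.single_apply]
    by_cases hc : c = c₀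
    · subst hc
      by_cases hn : n = z
      · subst hn; simp
      · have : ¬ (j n * b c = j z * b c) := fun h => hn (congrArg (fun x => x.1) (hinj (a₁ := (n, c)) (a₂ := (z, c)) h))
        simp [hn, this]
    · have : ¬ (j n * b c = j z * b c₀) := fun h => hc (congrArg (fun x => x.2) (hinj (a₁ := (n, c)) (a₂ := (z, c₀)) h))
      simp [hc, this]

theorem free (hbij : Function.Bijective (fun x : Z × I => j x.1 * b x.2)) :
    letI := (mapDomainRingHom R j).toAlgebra
    Module.Free (MonoidAlgebra R Z) (MonoidAlgebra R M) := by
  let _ := (mapDomainRingHom R j).toAlgebra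
  classical
  let b' : I → MonoidAlgebra R M := fun c => single (b c) 1
  have hsmul : ∀ (p : MonoidAlgebra R Z) (y : MonoidAlgebra R M),
      p • y = mapDomainRingHom R j p * y := fun p y => rfl
  have hli : LinearIndependent (MonoidAlgebra R Z) b' := by
    rw [linearIndependent_iff']
    intro t g hg c₀ hc₀
    rw [← coeff_inj]
    ext z
    have h1 := congrArg (fun y : MonoidAlgebra R M => y.coeff (j z * b c₀)) hg
    simp only [coeff_sum, Finsupp.coe_finsetSum, Finset.sum_apply, coeff_zero, Finsupp.coe_zero,
      Pi.zero_apply] at h1
    have h2 : ∀ c ∈ t, (g c • b' c).coeff (j z * b c₀) = if c = c₀ then (g c).coeff z else 0 := by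
      intro c _
      rw [hsmul]
      exact coeff_smul_basis R j b hbij.1 (g c) c c₀ z
    rw [Finset.sum_congr rfl h2, Finset.sum_ite_eq' t c₀ (fun c => (g c).coeff z), if_pos hc₀] at h1
    simpa using h1
  have hsp : ⊤ ≤ Submodule.span (MonoidAlgebra R Z) (Set.range b') := by
    intro x hx0
    clear hx0
    induction x using MonoidAlgebra.induction_linear with
    | zero => exact Submodule.zero_mem _
    | add x y hx hy => exact Submodule.add_mem _ hx hy
    | single m r =>
      obtain ⟨⟨z, c⟩, hz⟩ := hbij.2 m
      have : single m r = (single z r : MonoidAlgebra R Z) • b' c := by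
        rw [hsmul, mapDomainRingHom_single', single_mul_single, mul_one]
        exact congrArg (fun x => single x r) hz.symm
      rw [this]
      exact Submodule.smul_mem _ _ (Submodule.subset_span ⟨_, rfl⟩)
  exact Module.Free.of_basis (Module.Basis.mk hli hsp)

end Groth.Agent.Lib.Helper18.MonAlgFree
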