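import Mathlib
import Groth.Prelude.Def_Magnet3
import Groth.Agent.Lib.Helper18.DiagQuot
import Groth.Agent.Lib.Helper18.MonAlgFree

set_option autoImplicit false
set_option linter.unusedSectionVars false
universe u

open CategoryTheory CategoryTheory.Limits MonoidalCategory CartesianMonoidalCategory MonObj AlgebraicGeometry Opposite
open Magnet Groth.Agent.Lib.Helper5.AMonPts Groth.Agent.Lib.Helper18.FpqcOver

noncomputable section

namespace Groth.Agent.Lib.Helper18.AttrComap

section cov

variable {S : Scheme.{u}} {N M : Type} [AddCommMonoid N] [AddCommMonoid M]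

theorem faithfullyFlat_of_bijective (f : N →+ M) {I : Type} [Nonempty I] (b : I → M)
    (hbij : Function.Bijective (fun x : N × I => f x.1 + b x.2)) :
    (MonoidAlgebra.mapDomainBialgHom (ULift.{u} ℤ)
      (AddMonoidHom.toMultiplicative f)).toAlgHom.toRingHom.FaithfullyFlat := by
  have heq : (MonoidAlgebra.mapDomainBialgHom (ULift.{u} ℤ)
      (AddMonoidHom.toMultiplicative f)).toAlgHom.toRingHom =
      MonoidAlgebra.mapDomainRingHom (ULift.{u} ℤ) (AddMonoidHom.toMultiplicative f) := by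
    apply MonoidAlgebra.ringHom_ext
    · intro r; simp
    · intro m; simp
  rw [heq]
  unfold RingHom.FaithfullyFlat
  let _ := (MonoidAlgebra.mapDomainRingHom (ULift.{u} ℤ) (AddMonoidHom.toMultiplicative f)).toAlgebra
  have := Groth.Agent.Lib.Helper18.MonAlgFree.free (ULift.{u} ℤ) (AddMonoidHom.toMultiplicative f)
    (fun i : I => Multiplicative.ofAdd (b i))
    (by
      constructor
      · intro x y hxy
        have := hbij.1 (a₁ := (Multiplicative.toAdd x.1, x.2)) (a₂ := (Multiplicative.toAdd y.1, y.2))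
          (congrArg Multiplicative.toAdd hxy)
        have h1 : Multiplicative.toAdd x.1 = Multiplicative.toAdd y.1 := congrArg (fun p : N × I => p.1) this
        have h2 : x.2 = y.2 := congrArg (fun p : N × I => p.2) this
        exact Prod.ext h1 h2
      · intro m
        obtain ⟨⟨n, i⟩, hni⟩ := hbij.2 (Multiplicative.toAdd m)
        exact ⟨(Multiplicative.ofAdd n, i), congrArg Multiplicative.ofAdd hni⟩)
  have hne : Nonempty M := ⟨0⟩
  infer_instance

theorem isCov_of_faithfullyFlat (f : N →+ M)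
    (h : (MonoidAlgebra.mapDomainBialgHom (ULift.{u} ℤ)
      (AddMonoidHom.toMultiplicative f)).toAlgHom.toRingHom.FaithfullyFlat) :
    IsCov (AMonS.map S f) := by
  have h1 := (flat_and_surjective_SpecMap_iff (CommRingCat.ofHom (MonoidAlgebra.mapDomainBialgHom (ULift.{u} ℤ)
      (AddMonoidHom.toMultiplicative f)).toAlgHom.toRingHom)).mpr h
  have hflat : Flat (AMon.map (ULift.{u} ℤ) f).left := by
    rw [AMon.map_left]; exact h1.1
  have hsurj : Surjective (AMon.map (ULift.{u} ℤ) f).left := by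
    rw [AMon.map_left]; exact h1.2
  have hqc : QuasiCompact (AMon.map (ULift.{u} ℤ) f).left := by
    have h2 : QuasiCompact (Spec.map (CommRingCat.ofHom (MonoidAlgebra.mapDomainBialgHom (ULift.{u} ℤ)
        (AddMonoidHom.toMultiplicative f)).toAlgHom.toRingHom)) :=
      @instQuasiCompactOfIsAffineHom _ _ _ (isAffineHom_of_isAffine _)
    exact h2
  exact ⟨prop_pullback_map @Flat _ _ hflat, prop_pullback_map @Surjective _ _ hsurj,
    prop_pullback_map @QuasiCompact _ _ hqc⟩

theorem isCov_of_bijective (f : N →+ M) {I : Type} [Nonempty I] (b : I → M)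
    (hbij : Function.Bijective (fun x : N × I => f x.1 + b x.2)) : IsCov (AMonS.map S f) :=
  isCov_of_faithfullyFlat f (faithfullyFlat_of_bijective f b hbij)

theorem map_add' (f₁ f₂ : N →+ M) :
    AMonS.map S (f₁ + f₂) = (AMonS.map S f₁ * AMonS.map S f₂ : AMonS S M ⟶ AMonS S N) := by
  apply monHomOfPt_injective
  have h0 := monHomOfPt_map (f₁ + f₂) (𝟙 (AMonS S M))
  have h1 := monHomOfPt_map f₁ (𝟙 (AMonS S M))
  have h2 := monHomOfPt_map f₂ (𝟙 (AMonS S M))
  rw [Category.id_comp] at h0 h1 h2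
  rw [h0, monHomOfPt_mul, h1, h2]
  refine MonoidHom.ext fun n => ?_
  change monHomOfPt (𝟙 (AMonS S M)) (Multiplicative.ofAdd (f₁ (Multiplicative.toAdd n) + f₂ (Multiplicative.toAdd n))) = _
  rw [ofAdd_add, _root_.map_mul]
  rfl

theorem map_id' : AMonS.map S (AddMonoidHom.id M) = 𝟙 (AMonS S M) := by
  apply monHomOfPt_injective
  have h0 := monHomOfPt_map (AddMonoidHom.id M) (𝟙 (AMonS S M))
  rw [Category.id_comp] at h0
  rw [h0]
  rfl

end cov

section lift

variable {S : Scheme.{u}}

theorem exists_lift_of_isCov {A B : Over S} {f : A ⟶ B} (hf : IsCov f) {W : Over S} (k : W ⟶ B) :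
    ∃ (W' : Over S) (e : W' ⟶ W) (k' : W' ⟶ A), IsCov e ∧ k' ≫ f = e ≫ k := by
  have := hf.flat
  have := hf.surj
  have := hf.qc
  let W' : Over S := Over.mk (pullback.fst k.left f.left ≫ W.hom)
  let e : W' ⟶ W := Over.homMk (pullback.fst k.left f.left) rfl
  let k' : W' ⟶ A := Over.homMk (pullback.snd k.left f.left) (by
    change pullback.snd k.left f.left ≫ A.hom = pullback.fst k.left f.left ≫ W.hom
    rw [← Over.w f, ← Category.assoc, ← pullback.condition, Category.assoc, Over.w k])
  refine ⟨W', e, k', ⟨?_, ?_, ?_⟩, ?_⟩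
  · change Flat (pullback.fst k.left f.left); infer_instance
  · change Surjective (pullback.fst k.left f.left); infer_instance
  · change QuasiCompact (pullback.fst k.left f.left); infer_instance
  · ext
    exact pullback.condition.symm

end lift


section setup

variable {S : Scheme.{u}} {M Z : Type} [AddCommGroup M] [AddCommGroup Z] (f : M →+ Z) (Y : AddSubmonoid Z)

abbrev fN : ↥(Y.comap f) →+ ↥Y := (f.comp (Y.comap f).subtype).codRestrict Y (fun x => x.2)

abbrev cc : AMonS S ↥Y ⟶ AMonS S ↥(Y.comap f) := AMonS.map S (fN f Y)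

abbrev uu : AMonS S Z ⟶ AMonS S M := AMonS.map S f

abbrev piN : AMonS S M ⟶ AMonS S ↥(Y.comap f) := AMonS.map S (Y.comap f).subtype

abbrev piY : AMonS S Z ⟶ AMonS S ↥Y := AMonS.map S Y.subtype

def theta : ↥(Y.comap f) →+ M × ↥Y := AddMonoidHom.prod (Y.comap f).subtype (fN f Y)

abbrev qq : AMonS S (M × ↥Y) ⟶ AMonS S ↥(Y.comap f) := AMonS.map S (theta f Y)

abbrev prG : AMonS S (M × ↥Y) ⟶ AMonS S M := AMonS.map S (AddMonoidHom.inl M ↥Y)

abbrev prY : AMonS S (M × ↥Y) ⟶ AMonS S ↥Y := AMonS.map S (AddMonoidHom.inr M ↥Y)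

abbrev inG : AMonS S M ⟶ AMonS S (M × ↥Y) := AMonS.map S (AddMonoidHom.fst M ↥Y)

abbrev inY : AMonS S ↥Y ⟶ AMonS S (M × ↥Y) := AMonS.map S (AddMonoidHom.snd M ↥Y)

theorem theta_eq : theta f Y = (AddMonoidHom.inl M ↥Y).comp (Y.comap f).subtype +
    (AddMonoidHom.inr M ↥Y).comp (fN f Y) := by
  ext n <;> simp [theta]

theorem qq_eq : qq (S := S) f Y = (prG Y ≫ piN f Y) * (prY Y ≫ cc f Y) := by
  unfold qq
  rw [theta_eq, map_add', AMonS.map_comp, AMonS.map_comp]

theorem inG_prG : inG (S := S) (M := M) Y ≫ prG Y = 𝟙 _ := by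
  rw [← AMonS.map_comp, ← map_id']
  rfl

theorem inG_prY : inG (S := S) (M := M) Y ≫ prY Y = 1 := by
  rw [← AMonS.map_comp, ← DiagQuot.map_zero']
  congr 1

theorem inY_prG : inY (S := S) (M := M) Y ≫ prG Y = 1 := by
  rw [← AMonS.map_comp, ← DiagQuot.map_zero']
  congr 1

theorem inY_prY : inY (S := S) (M := M) Y ≫ prY Y = 𝟙 _ := by
  rw [← AMonS.map_comp, ← map_id']
  rfl

theorem inY_qq : inY (S := S) (M := M) Y ≫ qq f Y = cc f Y := by
  rw [← AMonS.map_comp]
  rfl

theorem inG_qq : inG (S := S) (M := M) Y ≫ qq f Y = piN f Y := by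
  rw [← AMonS.map_comp]
  rfl

theorem uu_piN : uu (S := S) f ≫ piN f Y = piY Y ≫ cc f Y := by
  rw [← AMonS.map_comp, ← AMonS.map_comp]
  rfl

theorem theta_bijective (hY : Y ≤ AddMonoidHom.mrange f) :
    Function.Bijective (fun x : ↥(Y.comap f) × (M ⧸ f.ker) =>
      theta f Y x.1 + ((Quotient.out x.2 : M), (0 : ↥Y))) := by
  have hs : ∀ c : M ⧸ f.ker, (QuotientAddGroup.mk (Quotient.out c) : M ⧸ f.ker) = c :=
    fun c => Quotient.out_eq c
  constructor
  · rintro ⟨n, c⟩ ⟨n', c'⟩ h
    have h1 : (n : M) + Quotient.out c = (n' : M) + Quotient.out c' := congrArg Prod.fst h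
    have h2 : f n = f n' := by
      have := congrArg (fun p : M × ↥Y => (p.2 : Z)) h
      simpa [theta] using this
    have hc : c = c' := by
      rw [← hs c, ← hs c', QuotientAddGroup.eq, AddMonoidHom.mem_ker, map_add, map_neg]
      have h3 := congrArg f h1
      rw [map_add, map_add, h2] at h3
      rw [add_left_cancel h3]
      simp
    subst hc
    have hn : (n : M) = n' := add_right_cancel h1
    exact Prod.ext (Subtype.ext hn) rfl
  · rintro ⟨m, y⟩
    obtain ⟨my, hmy⟩ := hY y.2
    let c : M ⧸ f.ker := QuotientAddGroup.mk (m - my)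
    have hfc : f (Quotient.out c) = f m - y := by
      have h3 : (QuotientAddGroup.mk (Quotient.out c) : M ⧸ f.ker) = QuotientAddGroup.mk (m - my) := hs c
      rw [QuotientAddGroup.eq, AddMonoidHom.mem_ker, map_add, map_neg, neg_add_eq_zero] at h3
      rw [h3, map_sub, hmy]
    have hn : m - Quotient.out c ∈ Y.comap f := by
      rw [AddSubmonoid.mem_comap, map_sub, hfc, sub_sub_cancel]
      exact y.2
    refine ⟨(⟨m - Quotient.out c, hn⟩, c), ?_⟩
    apply Prod.ext
    · simp [theta]
    · apply Subtype.ext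
      simp [theta, hfc]

theorem isCov_qq (hY : Y ≤ AddMonoidHom.mrange f) : IsCov (qq (S := S) f Y) :=
  isCov_of_bijective (theta f Y) (fun c : M ⧸ f.ker => ((Quotient.out c : M), (0 : ↥Y)))
    (theta_bijective f Y hY)

theorem lift_subAct' (N : AddSubmonoid M) {T' : Over S} (g : T' ⟶ AMonS S M) (b : T' ⟶ AMonS S ↥N) :
    lift g b ≫ (subAct S M N).act = (g ≫ AMonS.map S N.subtype) * b := by
  unfold subAct
  rw [MonAct.lift_restrict_act, MonAct.lift_regular_act]

end setup

end Groth.Agent.Lib.Helper18.AttrComap
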