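import Mathlib
import Groth.Prelude.Def_Magnet3
import Groth.Agent.Lib.Helper18.DiagQuot

set_option autoImplicit false
universe u

open CategoryTheory CategoryTheory.Limits MonoidalCategory CartesianMonoidalCategory MonObj AlgebraicGeometry Opposite
open Magnet Groth.Agent.Lib.Helper5.AMonPts Groth.Agent.Lib.Helper18.FpqcOver

noncomputable section

namespace Groth.Agent.Lib.Helper18.DiagQuot

variable {S : Scheme.{u}} {M : Type} [AddCommGroup M] (Z : AddSubgroup M) {X : Over S}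
  (a : MonAct (AMonS S M) X)

theorem lift_subAct {T' : Over S} (g : T' ⟶ AMonS S M) (b : T' ⟶ AMonS S ↥Z.toAddSubmonoid) :
    lift g b ≫ (subAct S M Z.toAddSubmonoid).act = (g ≫ piZ Z) * b := by
  unfold subAct
  rw [MonAct.lift_restrict_act, MonAct.lift_regular_act]

def evalX {T : Over S} (φ : AMonS S ↥Z.toAddSubmonoid ⊗ T ⟶ X) : T ⟶ X :=
  lift (1 : T ⟶ AMonS S ↥Z.toAddSubmonoid) (𝟙 T) ≫ φ

theorem comp_evalX {T T' : Over S} (t : T' ⟶ T) (φ : AMonS S ↥Z.toAddSubmonoid ⊗ T ⟶ X) :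
    t ≫ evalX Z φ = lift (1 : T' ⟶ AMonS S ↥Z.toAddSubmonoid) t ≫ φ := by
  unfold evalX
  rw [← Category.assoc, comp_lift, Category.comp_id, MonObj.comp_one]

theorem lift_pi_comp {T T' : Over S} (φ : AMonS S ↥Z.toAddSubmonoid ⊗ T ⟶ X)
    (hφ : MonAct.IsEquivariant ((subAct S M Z.toAddSubmonoid).prod (MonAct.trivial (AMonS S M) T)) a φ)
    (g : T' ⟶ AMonS S M) (t : T' ⟶ T) :
    lift (g ≫ piZ Z) t ≫ φ = lift g (t ≫ evalX Z φ) ≫ a.act := by
  rw [MonAct.mem_eqvHom_iff] at hφ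
  have h := hφ T' g 1 t
  have h2 := lift_subAct Z g (1 : T' ⟶ AMonS S ↥Z.toAddSubmonoid)
  rw [h2] at h
  have h3 : (g ≫ piZ Z) * (1 : T' ⟶ AMonS S ↥Z.toAddSubmonoid) = g ≫ piZ Z := mul_one _
  rw [h3] at h
  rw [h, comp_evalX]

theorem whisker_pi_comp {T : Over S} (φ : AMonS S ↥Z.toAddSubmonoid ⊗ T ⟶ X)
    (hφ : MonAct.IsEquivariant ((subAct S M Z.toAddSubmonoid).prod (MonAct.trivial (AMonS S M) T)) a φ) :
    (piZ Z ▷ T) ≫ φ = (AMonS S M ◁ evalX Z φ) ≫ a.act := by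
  apply hom_ext_lift₂
  intro T' g t
  rw [lift_whiskerRight_assoc, lift_whiskerLeft_assoc]
  exact lift_pi_comp Z a φ hφ g t

theorem evalX_fixed {T : Over S} (φ : AMonS S ↥Z.toAddSubmonoid ⊗ T ⟶ X)
    (hφ : MonAct.IsEquivariant ((subAct S M Z.toAddSubmonoid).prod (MonAct.trivial (AMonS S M) T)) a φ)
    (T' : Over S) (t : T' ⟶ T) (k : T' ⟶ AMonS S (M ⧸ Z)) :
    lift k (t ≫ evalX Z φ) ≫ (a.restrict (iotaZ Z)).act = t ≫ evalX Z φ := by
  rw [MonAct.lift_restrict_act, ← lift_pi_comp Z a φ hφ, Category.assoc, iota_pi, MonObj.comp_one,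
    comp_evalX]

theorem evalX_injective {T : Over S} (φ₁ φ₂ : AMonS S ↥Z.toAddSubmonoid ⊗ T ⟶ X)
    (h₁ : MonAct.IsEquivariant ((subAct S M Z.toAddSubmonoid).prod (MonAct.trivial (AMonS S M) T)) a φ₁)
    (h₂ : MonAct.IsEquivariant ((subAct S M Z.toAddSubmonoid).prod (MonAct.trivial (AMonS S M) T)) a φ₂)
    (h : evalX Z φ₁ = evalX Z φ₂) : φ₁ = φ₂ := by
  have := ((isCov_piZ (S := S) Z).whiskerRight T).epi
  rw [← cancel_epi (piZ Z ▷ T), whisker_pi_comp Z a φ₁ h₁, whisker_pi_comp Z a φ₂ h₂, h]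


theorem exists_mul_of_comp_pi_eq {W : Over S} (g₁ g₂ : W ⟶ AMonS S M)
    (h : g₁ ≫ piZ Z = g₂ ≫ piZ Z) : ∃ κ : W ⟶ AMonS S (M ⧸ Z), g₂ = g₁ * (κ ≫ iotaZ Z) := by
  have hφ : (monHomOfPt g₁).comp (AddMonoidHom.toMultiplicative Z.toAddSubmonoid.subtype) =
      (monHomOfPt g₂).comp (AddMonoidHom.toMultiplicative Z.toAddSubmonoid.subtype) := by
    rw [← monHomOfPt_map, ← monHomOfPt_map, h]
  let δm : Multiplicative M →* Γ(W.left, ⊤) :=
    ((monHomOfPt g₁).comp (invMonoidHom : Multiplicative M →* Multiplicative M)) * monHomOfPt g₂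
  have hδ1 : g₁ * ptOfMonHom δm = g₂ := by
    apply monHomOfPt_injective
    rw [monHomOfPt_mul, monHomOfPt_ptOfMonHom]
    refine MonoidHom.ext fun m => ?_
    change monHomOfPt g₁ m * (monHomOfPt g₁ m⁻¹ * monHomOfPt g₂ m) = monHomOfPt g₂ m
    rw [← _root_.mul_assoc, ← _root_.map_mul, _root_.mul_inv_cancel, _root_.map_one, _root_.one_mul]
  have hδ2 : ptOfMonHom δm ≫ piZ Z = 1 := by
    apply monHomOfPt_injective
    rw [monHomOfPt_map, monHomOfPt_ptOfMonHom, monHomOfPt_one]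
    refine MonoidHom.ext fun z => ?_
    have h1 := DFunLike.congr_fun hφ z
    change monHomOfPt g₁ ((AddMonoidHom.toMultiplicative Z.toAddSubmonoid.subtype) z)⁻¹ *
      monHomOfPt g₂ ((AddMonoidHom.toMultiplicative Z.toAddSubmonoid.subtype) z) = 1
    change monHomOfPt g₁ ((AddMonoidHom.toMultiplicative Z.toAddSubmonoid.subtype) z) =
      monHomOfPt g₂ ((AddMonoidHom.toMultiplicative Z.toAddSubmonoid.subtype) z) at h1
    rw [← h1, ← _root_.map_mul, _root_.inv_mul_cancel, _root_.map_one]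
  obtain ⟨κ, hκ⟩ := exists_lift_of_comp_pi Z W (ptOfMonHom δm) hδ2
  exact ⟨κ, by rw [hκ, hδ1]⟩

theorem desc_cond {T : Over S} (x : T ⟶ X)
    (hx : ∀ (T' : Over S) (t : T' ⟶ T) (k : T' ⟶ AMonS S (M ⧸ Z)),
      lift k (t ≫ x) ≫ (a.restrict (iotaZ Z)).act = t ≫ x)
    (W : Over S) (g₁ g₂ : W ⟶ AMonS S M ⊗ T) (h : g₁ ≫ (piZ Z ▷ T) = g₂ ≫ (piZ Z ▷ T)) :
    g₁ ≫ (AMonS S M ◁ x) ≫ a.act = g₂ ≫ (AMonS S M ◁ x) ≫ a.act := by
  rw [← lift_comp_fst_snd g₁, ← lift_comp_fst_snd g₂] at h ⊢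
  rw [lift_whiskerRight, lift_whiskerRight] at h
  have hg : (g₁ ≫ fst _ _) ≫ piZ Z = (g₂ ≫ fst _ _) ≫ piZ Z := by
    have := congrArg (fun k => k ≫ fst _ _) h
    simpa only [lift_fst] using this
  have ht : g₁ ≫ snd _ _ = g₂ ≫ snd _ _ := by
    have := congrArg (fun k => k ≫ snd _ _) h
    simpa only [lift_snd] using this
  obtain ⟨κ, hκ⟩ := exists_mul_of_comp_pi_eq Z _ _ hg
  rw [lift_whiskerLeft_assoc, lift_whiskerLeft_assoc, hκ, a.lift_mul_act, ← ht]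
  have := hx W (g₁ ≫ snd _ _) κ
  rw [MonAct.lift_restrict_act] at this
  rw [this]

theorem exists_phi {T : Over S} (x : T ⟶ X)
    (hx : ∀ (T' : Over S) (t : T' ⟶ T) (k : T' ⟶ AMonS S (M ⧸ Z)),
      lift k (t ≫ x) ≫ (a.restrict (iotaZ Z)).act = t ≫ x) :
    ∃ φ : AMonS S ↥Z.toAddSubmonoid ⊗ T ⟶ X,
      MonAct.IsEquivariant ((subAct S M Z.toAddSubmonoid).prod (MonAct.trivial (AMonS S M) T)) a φ ∧
        evalX Z φ = x := by
  have hcov := (isCov_piZ (S := S) Z).whiskerRight T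
  obtain ⟨φ, hφ⟩ := hcov.exists_desc ((AMonS S M ◁ x) ≫ a.act) (desc_cond Z a x hx)
  have key : ∀ (T' : Over S) (g : T' ⟶ AMonS S M) (t : T' ⟶ T),
      lift (g ≫ piZ Z) t ≫ φ = lift g (t ≫ x) ≫ a.act := by
    intro T' g t
    rw [← lift_whiskerRight_assoc, hφ, lift_whiskerLeft_assoc]
  refine ⟨φ, ?_, ?_⟩
  · have hepi := (hcov.whiskerLeft (AMonS S M)).epi
    unfold MonAct.IsEquivariant
    rw [← cancel_epi (AMonS S M ◁ (piZ Z ▷ T))]
    apply hom_ext_lift₂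
    intro T' g z
    have hz : z = lift (z ≫ fst _ _) (z ≫ snd _ _) := (lift_comp_fst_snd z).symm
    generalize z ≫ fst _ _ = g₂ at hz
    generalize z ≫ snd _ _ = t at hz
    subst hz
    have hA : lift g (lift g₂ t) ≫ (AMonS S M ◁ (piZ Z ▷ T)) = lift g (lift (g₂ ≫ piZ Z) t) := by
      rw [lift_whiskerLeft, lift_whiskerRight]
    have hB : lift g (lift (g₂ ≫ piZ Z) t) ≫
        ((subAct S M Z.toAddSubmonoid).prod (MonAct.trivial (AMonS S M) T)).act =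
        lift ((g * g₂) ≫ piZ Z) t := by
      rw [MonAct.lift_prod_act, MonAct.lift_trivial_act, lift_subAct]
      congr 1
      exact (MonObj.mul_comp g g₂ (piZ Z)).symm
    have hC : lift g (lift (g₂ ≫ piZ Z) t) ≫ (AMonS S M ◁ φ) = lift g (lift g₂ (t ≫ x) ≫ a.act) := by
      rw [lift_whiskerLeft, key]
    calc lift g (lift g₂ t) ≫ (AMonS S M ◁ (piZ Z ▷ T)) ≫
          ((subAct S M Z.toAddSubmonoid).prod (MonAct.trivial (AMonS S M) T)).act ≫ φ
        = (lift g (lift g₂ t) ≫ (AMonS S M ◁ (piZ Z ▷ T))) ≫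
          ((subAct S M Z.toAddSubmonoid).prod (MonAct.trivial (AMonS S M) T)).act ≫ φ := by
            rw [Category.assoc]
      _ = (lift g (lift (g₂ ≫ piZ Z) t) ≫
          ((subAct S M Z.toAddSubmonoid).prod (MonAct.trivial (AMonS S M) T)).act) ≫ φ := by
            rw [hA, Category.assoc]
      _ = lift (g * g₂) (t ≫ x) ≫ a.act := by rw [hB, key]
      _ = lift g (lift g₂ (t ≫ x) ≫ a.act) ≫ a.act := a.lift_mul_act g g₂ (t ≫ x)
      _ = (lift g (lift (g₂ ≫ piZ Z) t) ≫ (AMonS S M ◁ φ)) ≫ a.act := by rw [hC]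
      _ = lift g (lift g₂ t) ≫ (AMonS S M ◁ (piZ Z ▷ T)) ≫ (AMonS S M ◁ φ) ≫ a.act := by
            rw [← hA, Category.assoc, Category.assoc]
  · unfold evalX
    have h1 : (1 : T ⟶ AMonS S ↥Z.toAddSubmonoid) = (1 : T ⟶ AMonS S M) ≫ piZ Z :=
      (MonObj.one_comp (piZ Z)).symm
    rw [h1, key, a.lift_one_act, Category.id_comp]

def toFix : attr a Z.toAddSubmonoid ⟶ MonAct.fixedPsh (a.restrict (iotaZ Z)) where
  app T := TypeCat.ofHom fun φ => ⟨evalX Z φ.1, fun T' t k => evalX_fixed Z a φ.1 φ.2 T' t k⟩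
  naturality T T' t := ConcreteCategory.hom_ext _ _ fun φ => Subtype.ext (by
    change evalX Z ((AMonS S ↥Z.toAddSubmonoid ◁ t.unop) ≫ φ.1) = t.unop ≫ evalX Z φ.1
    rw [comp_evalX]
    unfold evalX
    rw [lift_whiskerLeft_assoc, Category.id_comp])

theorem toFix_comp : toFix Z a ≫ MonAct.fixedPshι _ = attrToX a Z.toAddSubmonoid := by
  ext T φ
  rfl

theorem isIso_toFix : IsIso (toFix Z a) := by
  have : ∀ T, IsIso ((toFix Z a).app T) := by
    intro T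
    rw [isIso_iff_bijective]
    constructor
    · intro φ₁ φ₂ h
      apply Subtype.ext
      apply evalX_injective Z a φ₁.1 φ₂.1 φ₁.2 φ₂.2
      exact congrArg Subtype.val h
    · intro x
      obtain ⟨φ, hφ1, hφ2⟩ := exists_phi Z a x.1 x.2
      exact ⟨⟨φ, hφ1⟩, Subtype.ext hφ2⟩
  exact NatIso.isIso_of_isIso_app _

theorem main : ∃ e : attr a Z.toAddSubmonoid ≅ MonAct.fixedPsh (a.restrict (iotaZ Z)),
    e.hom ≫ MonAct.fixedPshι _ = attrToX a Z.toAddSubmonoid := by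
  have := isIso_toFix Z a
  exact ⟨asIso (toFix Z a), toFix_comp Z a⟩


end Groth.Agent.Lib.Helper18.DiagQuot
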