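import Mathlib
import Groth.Prelude.Def_Magnet3
import Groth.Agent.Lib.Helper18.AttrComapBase
import Groth.Agent.Lib.Helper18.AttrFix

set_option autoImplicit false
set_option linter.unusedSectionVars false
universe u

open CategoryTheory CategoryTheory.Limits MonoidalCategory CartesianMonoidalCategory MonObj AlgebraicGeometry Opposite
open Magnet Groth.Agent.Lib.Helper5.AMonPts Groth.Agent.Lib.Helper18.FpqcOver

noncomputable section

namespace Groth.Agent.Lib.Helper18.AttrComap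

variable {S : Scheme.{u}} {M Z : Type} [AddCommGroup M] [AddCommGroup Z] (f : M →+ Z) (Y : AddSubmonoid Z)
  {X : Over S} (a : MonAct (AMonS S M) X)

theorem eqv_N {T : Over S} (φ : AMonS S ↥(Y.comap f) ⊗ T ⟶ X)
    (hφ : MonAct.IsEquivariant ((subAct S M (Y.comap f)).prod (MonAct.trivial (AMonS S M) T)) a φ)
    {T' : Over S} (g : T' ⟶ AMonS S M) (b : T' ⟶ AMonS S ↥(Y.comap f)) (t : T' ⟶ T) :
    lift ((g ≫ piN f Y) * b) t ≫ φ = lift g (lift b t ≫ φ) ≫ a.act := by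
  rw [MonAct.mem_eqvHom_iff] at hφ
  have h := hφ T' g b t
  have h2 := lift_subAct' (Y.comap f) g b
  rw [h2] at h
  exact h

theorem eqv_Y {T : Over S} (ψ : AMonS S ↥Y ⊗ T ⟶ X)
    (hψ : MonAct.IsEquivariant ((subAct S Z Y).prod (MonAct.trivial (AMonS S Z) T)) (a.restrict (uu f)) ψ)
    {T' : Over S} (h : T' ⟶ AMonS S Z) (y : T' ⟶ AMonS S ↥Y) (t : T' ⟶ T) :
    lift ((h ≫ piY Y) * y) t ≫ ψ = lift (h ≫ uu f) (lift y t ≫ ψ) ≫ a.act := by
  rw [MonAct.mem_eqvHom_iff] at hψ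
  have h1 := hψ T' h y t
  have h2 := lift_subAct' Y h y
  have h3 := MonAct.lift_restrict_act (uu f) a h (lift y t ≫ ψ)
  rw [h2, h3] at h1
  exact h1

theorem lift_qq_comp {T : Over S} (φ : AMonS S ↥(Y.comap f) ⊗ T ⟶ X)
    (hφ : MonAct.IsEquivariant ((subAct S M (Y.comap f)).prod (MonAct.trivial (AMonS S M) T)) a φ)
    {T' : Over S} (p : T' ⟶ AMonS S (M × ↥Y)) (t : T' ⟶ T) :
    lift (p ≫ qq f Y) t ≫ φ =
      lift (p ≫ prG Y) (lift (p ≫ prY Y) t ≫ (cc f Y ▷ T) ≫ φ) ≫ a.act := by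
  have h1 : p ≫ qq f Y = ((p ≫ prG Y) ≫ piN f Y) * ((p ≫ prY Y) ≫ cc f Y) := by
    rw [qq_eq, MonObj.comp_mul, Category.assoc, Category.assoc]
  rw [h1, eqv_N f Y a φ hφ, lift_whiskerRight_assoc]

theorem comap_injective (hY : Y ≤ AddMonoidHom.mrange f) {T : Over S}
    (φ₁ φ₂ : AMonS S ↥(Y.comap f) ⊗ T ⟶ X)
    (h₁ : MonAct.IsEquivariant ((subAct S M (Y.comap f)).prod (MonAct.trivial (AMonS S M) T)) a φ₁)
    (h₂ : MonAct.IsEquivariant ((subAct S M (Y.comap f)).prod (MonAct.trivial (AMonS S M) T)) a φ₂)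
    (h : (cc f Y ▷ T) ≫ φ₁ = (cc f Y ▷ T) ≫ φ₂) : φ₁ = φ₂ := by
  have := ((isCov_qq (S := S) f Y hY).whiskerRight T).epi
  rw [← cancel_epi (qq f Y ▷ T)]
  apply hom_ext_lift₂
  intro T' p t
  rw [lift_whiskerRight_assoc, lift_whiskerRight_assoc, lift_qq_comp f Y a φ₁ h₁,
    lift_qq_comp f Y a φ₂ h₂, h]


theorem ker_le_comap : f.ker.toAddSubmonoid ≤ Y.comap f := by
  intro k hk
  rw [AddSubmonoid.mem_comap]
  have : f k = 0 := hk
  rw [this]
  exact Y.zero_mem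

theorem qq_incl : qq (S := S) f Y ≫ AMonS.map S (AddSubmonoid.inclusion (ker_le_comap f Y)) =
    prG Y ≫ DiagQuot.piZ f.ker := by
  rw [← AMonS.map_comp, ← AMonS.map_comp]
  congr 1
  ext k
  · rfl
  · have hk : f k.1 = 0 := k.2
    exact hk

theorem uu_eq : uu (S := S) f = AMonS.map S (QuotientAddGroup.kerLift f) ≫ DiagQuot.iotaZ f.ker := by
  rw [← AMonS.map_comp]
  congr 1

theorem kernel_pair (hY : Y ≤ AddMonoidHom.mrange f) {W : Over S} (p₁ p₂ : W ⟶ AMonS S (M × ↥Y))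
    (h : p₁ ≫ qq f Y = p₂ ≫ qq f Y) :
    ∃ (W' : Over S) (e : W' ⟶ W) (h' : W' ⟶ AMonS S Z), IsCov e ∧
      (e ≫ p₂) ≫ prG Y = ((e ≫ p₁) ≫ prG Y) * (h' ≫ uu f) ∧
      (e ≫ p₁) ≫ prY Y = (h' ≫ piY Y) * ((e ≫ p₂) ≫ prY Y) := by
  have hK : (p₁ ≫ prG Y) ≫ DiagQuot.piZ f.ker = (p₂ ≫ prG Y) ≫ DiagQuot.piZ f.ker := by
    rw [Category.assoc, Category.assoc, ← qq_incl f Y, ← Category.assoc, h, Category.assoc]
  obtain ⟨κ, hκ⟩ := DiagQuot.exists_mul_of_comp_pi_eq f.ker (p₁ ≫ prG Y) (p₂ ≫ prG Y) hK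
  have hcov : IsCov (AMonS.map S (QuotientAddGroup.kerLift f)) :=
    DiagQuot.isCov_map (QuotientAddGroup.kerLift f) (QuotientAddGroup.kerLift_injective f)
      (fun c => ⟨-c, map_neg _ _⟩)
  obtain ⟨W', e, h', he, hh⟩ := exists_lift_of_isCov hcov κ
  have hG : (e ≫ p₂) ≫ prG Y = ((e ≫ p₁) ≫ prG Y) * (h' ≫ uu f) := by
    rw [Category.assoc, hκ, MonObj.comp_mul, uu_eq, ← Category.assoc h', hh, Category.assoc,
      Category.assoc]
  refine ⟨W', e, h', he, hG, ?_⟩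
  have hq : (e ≫ p₁) ≫ qq f Y = (e ≫ p₂) ≫ qq f Y := by
    rw [Category.assoc, h, Category.assoc]
  have F1 : ∀ n : ↥(Y.comap f), monHomOfPt (e ≫ p₁) (Multiplicative.ofAdd (theta f Y n)) =
      monHomOfPt (e ≫ p₂) (Multiplicative.ofAdd (theta f Y n)) := by
    intro n
    have h1 := congrArg (fun t => monHomOfPt t (Multiplicative.ofAdd n)) hq
    simp only [monHomOfPt_map] at h1
    exact h1
  have F2 : ∀ m : M, monHomOfPt (e ≫ p₂) (Multiplicative.ofAdd ((m, 0) : M × ↥Y)) =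
      monHomOfPt (e ≫ p₁) (Multiplicative.ofAdd ((m, 0) : M × ↥Y)) *
        monHomOfPt h' (Multiplicative.ofAdd (f m)) := by
    intro m
    have h1 := congrArg (fun t => monHomOfPt t (Multiplicative.ofAdd m)) hG
    simp only [monHomOfPt_map, monHomOfPt_mul] at h1
    exact h1
  apply monHomOfPt_injective
  rw [monHomOfPt_mul, monHomOfPt_map, monHomOfPt_map, monHomOfPt_map]
  refine MonoidHom.ext fun y => ?_
  obtain ⟨m, hm⟩ := hY (Multiplicative.toAdd y).2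
  have hm' : f m = (Multiplicative.toAdd y).1 := hm
  have hn : m ∈ Y.comap f := by
    rw [AddSubmonoid.mem_comap, hm']
    exact (Multiplicative.toAdd y).2
  have hθ : theta f Y ⟨m, hn⟩ = ((m, 0) : M × ↥Y) + ((0, Multiplicative.toAdd y) : M × ↥Y) := by
    apply Prod.ext
    · simp [theta]
    · apply Subtype.ext
      simp [theta, hm']
  have hA : monHomOfPt (e ≫ p₁) (Multiplicative.ofAdd ((-m, 0) : M × ↥Y)) *
      monHomOfPt (e ≫ p₁) (Multiplicative.ofAdd ((m, 0) : M × ↥Y)) = 1 := by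
    rw [← _root_.map_mul, ← ofAdd_add]
    have : ((-m, 0) : M × ↥Y) + ((m, 0) : M × ↥Y) = 0 := by
      apply Prod.ext <;> simp
    rw [this]
    exact _root_.map_one _
  have hF1 := F1 ⟨m, hn⟩
  rw [hθ, ofAdd_add, _root_.map_mul, _root_.map_mul] at hF1
  have hF2 := F2 m
  rw [hm'] at hF2
  change monHomOfPt (e ≫ p₁) (Multiplicative.ofAdd ((0, Multiplicative.toAdd y) : M × ↥Y)) =
    monHomOfPt h' (Multiplicative.ofAdd (Multiplicative.toAdd y).1) *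
      monHomOfPt (e ≫ p₂) (Multiplicative.ofAdd ((0, Multiplicative.toAdd y) : M × ↥Y))
  linear_combination (monHomOfPt (e ≫ p₁) (Multiplicative.ofAdd ((-m, 0) : M × ↥Y))) * hF1 +
    (monHomOfPt (e ≫ p₁) (Multiplicative.ofAdd ((-m, 0) : M × ↥Y))) *
      (monHomOfPt (e ≫ p₂) (Multiplicative.ofAdd ((0, Multiplicative.toAdd y) : M × ↥Y))) * hF2 -
    (monHomOfPt (e ≫ p₁) (Multiplicative.ofAdd ((0, Multiplicative.toAdd y) : M × ↥Y)) -
      monHomOfPt h' (Multiplicative.ofAdd (Multiplicative.toAdd y).1) *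
        monHomOfPt (e ≫ p₂) (Multiplicative.ofAdd ((0, Multiplicative.toAdd y) : M × ↥Y))) * hA


def Psi {T : Over S} (ψ : AMonS S ↥Y ⊗ T ⟶ X) : AMonS S (M × ↥Y) ⊗ T ⟶ X :=
  lift (fst _ T ≫ prG Y) ((prY Y ▷ T) ≫ ψ) ≫ a.act

theorem lift_Psi {T T' : Over S} (ψ : AMonS S ↥Y ⊗ T ⟶ X) (p : T' ⟶ AMonS S (M × ↥Y)) (t : T' ⟶ T) :
    lift p t ≫ Psi Y a ψ = lift (p ≫ prG Y) (lift (p ≫ prY Y) t ≫ ψ) ≫ a.act := by
  unfold Psi
  rw [← Category.assoc, comp_lift, ← Category.assoc, lift_fst, lift_whiskerRight_assoc]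

theorem desc_cond_pts (hY : Y ≤ AddMonoidHom.mrange f) {T : Over S} (ψ : AMonS S ↥Y ⊗ T ⟶ X)
    (hψ : MonAct.IsEquivariant ((subAct S Z Y).prod (MonAct.trivial (AMonS S Z) T)) (a.restrict (uu f)) ψ)
    {W : Over S} (p₁ p₂ : W ⟶ AMonS S (M × ↥Y)) (t : W ⟶ T) (hp : p₁ ≫ qq f Y = p₂ ≫ qq f Y) :
    lift p₁ t ≫ Psi Y a ψ = lift p₂ t ≫ Psi Y a ψ := by
  obtain ⟨W', e, h', he, hG, hYY⟩ := kernel_pair f Y hY p₁ p₂ hp
  have := he.epi
  rw [← cancel_epi e]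
  have e1 : ∀ p : W ⟶ AMonS S (M × ↥Y), e ≫ lift p t ≫ Psi Y a ψ =
      lift ((e ≫ p) ≫ prG Y) (lift ((e ≫ p) ≫ prY Y) (e ≫ t) ≫ ψ) ≫ a.act := by
    intro p
    rw [← Category.assoc, comp_lift, lift_Psi]
  rw [e1, e1, hYY, eqv_Y f Y a ψ hψ, ← a.lift_mul_act, ← hG]

theorem desc_cond (hY : Y ≤ AddMonoidHom.mrange f) {T : Over S} (ψ : AMonS S ↥Y ⊗ T ⟶ X)
    (hψ : MonAct.IsEquivariant ((subAct S Z Y).prod (MonAct.trivial (AMonS S Z) T)) (a.restrict (uu f)) ψ)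
    (W : Over S) (w₁ w₂ : W ⟶ AMonS S (M × ↥Y) ⊗ T) (h : w₁ ≫ (qq f Y ▷ T) = w₂ ≫ (qq f Y ▷ T)) :
    w₁ ≫ Psi Y a ψ = w₂ ≫ Psi Y a ψ := by
  rw [← lift_comp_fst_snd w₁, ← lift_comp_fst_snd w₂] at h ⊢
  rw [lift_whiskerRight, lift_whiskerRight] at h
  have hp : (w₁ ≫ fst _ _) ≫ qq f Y = (w₂ ≫ fst _ _) ≫ qq f Y := by
    have := congrArg (fun k => k ≫ fst _ _) h
    simpa only [lift_fst] using this
  have ht : w₁ ≫ snd _ _ = w₂ ≫ snd _ _ := by
    have := congrArg (fun k => k ≫ snd _ _) h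
    simpa only [lift_snd] using this
  rw [ht]
  exact desc_cond_pts f Y a hY ψ hψ _ _ _ hp

theorem exists_phi (hY : Y ≤ AddMonoidHom.mrange f) {T : Over S} (ψ : AMonS S ↥Y ⊗ T ⟶ X)
    (hψ : MonAct.IsEquivariant ((subAct S Z Y).prod (MonAct.trivial (AMonS S Z) T)) (a.restrict (uu f)) ψ) :
    ∃ φ : AMonS S ↥(Y.comap f) ⊗ T ⟶ X,
      MonAct.IsEquivariant ((subAct S M (Y.comap f)).prod (MonAct.trivial (AMonS S M) T)) a φ ∧
        (cc f Y ▷ T) ≫ φ = ψ := by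
  have hcov := (isCov_qq (S := S) f Y hY).whiskerRight T
  obtain ⟨φ, hφ⟩ := hcov.exists_desc (Psi Y a ψ) (desc_cond f Y a hY ψ hψ)
  have key : ∀ (T' : Over S) (p : T' ⟶ AMonS S (M × ↥Y)) (t : T' ⟶ T),
      lift (p ≫ qq f Y) t ≫ φ = lift (p ≫ prG Y) (lift (p ≫ prY Y) t ≫ ψ) ≫ a.act := by
    intro T' p t
    rw [← lift_whiskerRight_assoc, hφ, lift_Psi]
  refine ⟨φ, ?_, ?_⟩
  · have hepi := (hcov.whiskerLeft (AMonS S M)).epi
    unfold MonAct.IsEquivariant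
    rw [← cancel_epi (AMonS S M ◁ (qq f Y ▷ T))]
    apply hom_ext_lift₂
    intro T' g z
    have hz : z = lift (z ≫ fst _ _) (z ≫ snd _ _) := (lift_comp_fst_snd z).symm
    generalize z ≫ fst _ _ = p at hz
    generalize z ≫ snd _ _ = t at hz
    subst hz
    have hA : lift g (lift p t) ≫ (AMonS S M ◁ (qq f Y ▷ T)) = lift g (lift (p ≫ qq f Y) t) := by
      rw [lift_whiskerLeft, lift_whiskerRight]
    have hmul : (g ≫ piN f Y) * (p ≫ qq f Y) = ((g ≫ inG Y) * p) ≫ qq f Y := by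
      rw [MonObj.mul_comp, Category.assoc, inG_qq]
    have hB : lift g (lift (p ≫ qq f Y) t) ≫
        ((subAct S M (Y.comap f)).prod (MonAct.trivial (AMonS S M) T)).act =
        lift (((g ≫ inG Y) * p) ≫ qq f Y) t := by
      have h2 := lift_subAct' (Y.comap f) g (p ≫ qq f Y)
      rw [MonAct.lift_prod_act, MonAct.lift_trivial_act, h2, hmul]
    have hG : ((g ≫ inG Y) * p) ≫ prG Y = g * (p ≫ prG Y) := by
      rw [MonObj.mul_comp, Category.assoc, inG_prG, Category.comp_id]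
    have hYp : ((g ≫ inG Y) * p) ≫ prY Y = p ≫ prY Y := by
      rw [MonObj.mul_comp, Category.assoc, inG_prY, MonObj.comp_one]
      exact _root_.one_mul _
    have hC : lift g (lift (p ≫ qq f Y) t) ≫ (AMonS S M ◁ φ) =
        lift g (lift (p ≫ prG Y) (lift (p ≫ prY Y) t ≫ ψ) ≫ a.act) := by
      rw [lift_whiskerLeft, key]
    calc lift g (lift p t) ≫ (AMonS S M ◁ (qq f Y ▷ T)) ≫
          ((subAct S M (Y.comap f)).prod (MonAct.trivial (AMonS S M) T)).act ≫ φ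
        = (lift g (lift p t) ≫ (AMonS S M ◁ (qq f Y ▷ T))) ≫
          ((subAct S M (Y.comap f)).prod (MonAct.trivial (AMonS S M) T)).act ≫ φ := by
            rw [Category.assoc]
      _ = (lift g (lift (p ≫ qq f Y) t) ≫
          ((subAct S M (Y.comap f)).prod (MonAct.trivial (AMonS S M) T)).act) ≫ φ := by
            rw [hA, Category.assoc]
      _ = lift (g * (p ≫ prG Y)) (lift (p ≫ prY Y) t ≫ ψ) ≫ a.act := by rw [hB, key, hG, hYp]
      _ = lift g (lift (p ≫ prG Y) (lift (p ≫ prY Y) t ≫ ψ) ≫ a.act) ≫ a.act :=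
            a.lift_mul_act g (p ≫ prG Y) _
      _ = (lift g (lift (p ≫ qq f Y) t) ≫ (AMonS S M ◁ φ)) ≫ a.act := by rw [hC]
      _ = lift g (lift p t) ≫ (AMonS S M ◁ (qq f Y ▷ T)) ≫ (AMonS S M ◁ φ) ≫ a.act := by
            rw [← hA, Category.assoc, Category.assoc]
  · apply hom_ext_lift₂
    intro T' y t
    rw [lift_whiskerRight_assoc]
    have h1 : y ≫ cc f Y = (y ≫ inY Y) ≫ qq f Y := by rw [Category.assoc, inY_qq]
    have h2 : (y ≫ inY (M := M) Y) ≫ prG Y = (1 : T' ⟶ AMonS S M) := by rw [Category.assoc, inY_prG, MonObj.comp_one]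
    have h3 : (y ≫ inY (M := M) Y) ≫ prY Y = y := by rw [Category.assoc, inY_prY, Category.comp_id]
    rw [h1, key, h2, h3, a.lift_one_act]

theorem isIso_attrComap (hY : Y ≤ AddMonoidHom.mrange f) : IsIso (attrComap a f Y) := by
  have : ∀ T, IsIso ((attrComap a f Y).app T) := by
    intro T
    rw [isIso_iff_bijective]
    constructor
    · intro φ₁ φ₂ h
      apply Subtype.ext
      apply comap_injective f Y a hY φ₁.1 φ₂.1 φ₁.2 φ₂.2
      exact congrArg Subtype.val h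
    · intro ψ
      obtain ⟨φ, hφ1, hφ2⟩ := exists_phi f Y a hY ψ.1 ψ.2
      exact ⟨⟨φ, hφ1⟩, Subtype.ext hφ2⟩
  exact NatIso.isIso_of_isIso_app _

end Groth.Agent.Lib.Helper18.AttrComap
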