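import Mathlib

set_option autoImplicit false
set_option linter.unusedSectionVars false
universe u

open CategoryTheory CategoryTheory.Limits AlgebraicGeometry Opposite

noncomputable section

namespace Groth.Agent.Lib.Helper18.AttrConn

theorem specMap_appTop_inv {R R' : CommRingCat.{u}} (φ : R ⟶ R') (c : R) :
    (Spec.map φ).appTop ((Scheme.ΓSpecIso R).inv c) = (Scheme.ΓSpecIso R').inv (φ c) := by
  have h := congrArg (fun ψ => (ConcreteCategory.hom ψ) c) (Scheme.ΓSpecIso_inv_naturality φ)
  exact h.symm

variable {S : Scheme.{u}} {ZN Z0 : Over S} (j : ZN ⟶ Z0) (s : Z0 ⟶ ZN) (hs : s ≫ j = 𝟙 Z0)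
  (H : ∀ (T : Over S), (T ⟶ ZN) → Γ(T.left, ⊤) → (T ⟶ ZN))
  (H1 : ∀ (T : Over S) (z : T ⟶ ZN), H T z 1 = z)
  (H0 : ∀ (T : Over S) (z : T ⟶ ZN), H T z 0 = z ≫ j ≫ s)
  (Hj : ∀ (T : Over S) (z : T ⟶ ZN) (c : Γ(T.left, ⊤)), H T z c ≫ j = z ≫ j)
  (Hnat : ∀ (T T' : Over S) (t : T' ⟶ T) (z : T ⟶ ZN) (c : Γ(T.left, ⊤)),
    t ≫ H T z c = H T' (t ≫ z) (t.left.appTop c))

include hs H1 H0 Hj Hnat in
theorem connected_fibre (K : Type u) [Field K] (k : Spec (CommRingCat.of K) ⟶ Z0.left) :
    ConnectedSpace ↥(Limits.pullback j.left k) := by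
  have hsl : s.left ≫ j.left = 𝟙 Z0.left := by
    rw [← Over.comp_left, hs]; rfl
  let Fib := Limits.pullback j.left k
  let σ : Spec (CommRingCat.of K) ⟶ Fib :=
    pullback.lift (k ≫ s.left) (𝟙 _) (by rw [Category.assoc, hsl, Category.comp_id, Category.id_comp])
  have hσ1 : σ ≫ pullback.fst j.left k = k ≫ s.left := pullback.lift_fst _ _ _
  have hσ2 : σ ≫ pullback.snd j.left k = 𝟙 _ := pullback.lift_snd _ _ _
  let q₀ : Spec (CommRingCat.of K) := (default : PrimeSpectrum K)
  have hK : ∀ q : Spec (CommRingCat.of K), q = q₀ := fun q =>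
    Subsingleton.elim (α := PrimeSpectrum K) q q₀
  let p₀ : Fib := σ q₀
  rw [connectedSpace_iff_connectedComponent]
  refine ⟨p₀, Set.eq_univ_of_forall fun p => ?_⟩
  -- the residue field point
  let L := Fib.residueField p
  let ιp : Spec (CommRingCat.of L) ⟶ Fib := Fib.fromSpecResidueField p
  let zL : Spec (CommRingCat.of L) ⟶ ZN.left := ιp ≫ pullback.fst j.left k
  let TL : Over S := Over.mk (zL ≫ ZN.hom)
  let z : TL ⟶ ZN := Over.homMk zL rfl
  let A : Scheme.{u} := Spec (CommRingCat.of (Polynomial L))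
  let π : A ⟶ Spec (CommRingCat.of L) := Spec.map (CommRingCat.ofHom (Polynomial.C : L →+* Polynomial L))
  let TA : Over S := Over.mk (π ≫ zL ≫ ZN.hom)
  let πo : TA ⟶ TL := Over.homMk π rfl
  let c : Γ(TA.left, ⊤) := (Scheme.ΓSpecIso (CommRingCat.of (Polynomial L))).inv Polynomial.X
  let e : L → (Spec (CommRingCat.of L) ⟶ A) := fun i =>
    Spec.map (CommRingCat.ofHom (Polynomial.evalRingHom i))
  have heπ : ∀ i, e i ≫ π = 𝟙 _ := by
    intro i
    change Spec.map _ ≫ Spec.map _ = _
    rw [← Spec.map_comp]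
    have : CommRingCat.ofHom (Polynomial.C : L →+* Polynomial L) ≫
        CommRingCat.ofHom (Polynomial.evalRingHom i) = 𝟙 _ := by
      ext x
      simp
    rw [this, Spec.map_id]
  let ε : ∀ i : L, TL ⟶ TA := fun i => Over.homMk (e i) (by
    change e i ≫ π ≫ zL ≫ ZN.hom = zL ≫ ZN.hom
    rw [← Category.assoc, heπ, Category.id_comp])
  have hεπ : ∀ i, ε i ≫ πo = 𝟙 TL := by
    intro i
    ext1
    exact heπ i
  have hεc : ∀ i : L, (ε i).left.appTop c =
      (Scheme.ΓSpecIso (CommRingCat.of L)).inv i := by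
    intro i
    change (Spec.map (CommRingCat.ofHom (Polynomial.evalRingHom i))).appTop
      ((Scheme.ΓSpecIso (CommRingCat.of (Polynomial L))).inv Polynomial.X) = _
    rw [specMap_appTop_inv]
    congr 1
    simp
  let h : TA ⟶ ZN := H TA (πo ≫ z) c
  have hh1 : ε 1 ≫ h = z := by
    rw [Hnat, ← Category.assoc, hεπ, Category.id_comp, hεc, map_one, H1]
  have hh0 : ε 0 ≫ h = z ≫ j ≫ s := by
    rw [Hnat, ← Category.assoc, hεπ, Category.id_comp, hεc, map_zero, H0]
  have hhj : h ≫ j = πo ≫ z ≫ j := by
    rw [Hj, Category.assoc]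
  -- the path in the fibre
  have hcond : h.left ≫ j.left = (π ≫ ιp ≫ pullback.snd j.left k) ≫ k := by
    have h1 : h.left ≫ j.left = π ≫ zL ≫ j.left := congrArg (fun m => m.left) hhj
    rw [h1]
    simp only [zL, Category.assoc, pullback.condition]
  let h' : A ⟶ Fib := pullback.lift h.left (π ≫ ιp ≫ pullback.snd j.left k) hcond
  have h'1 : h' ≫ pullback.fst j.left k = h.left := pullback.lift_fst _ _ _
  have h'2 : h' ≫ pullback.snd j.left k = π ≫ ιp ≫ pullback.snd j.left k := pullback.lift_snd _ _ _
  have he1 : e 1 ≫ h' = ιp := by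
    apply pullback.hom_ext
    · rw [Category.assoc, h'1]
      exact congrArg (fun m => m.left) hh1
    · rw [Category.assoc, h'2, ← Category.assoc, heπ, Category.id_comp]
  have he0 : e 0 ≫ h' = (ιp ≫ pullback.snd j.left k) ≫ σ := by
    apply pullback.hom_ext
    · rw [Category.assoc, h'1, Category.assoc, hσ1]
      have h2 : (ε 0 ≫ h).left = zL ≫ j.left ≫ s.left := congrArg (fun m => m.left) hh0
      refine h2.trans ?_
      simp only [zL, Category.assoc]
      rw [pullback.condition_assoc]
    · rw [Category.assoc, h'2, ← Category.assoc, heπ, Category.id_comp, Category.assoc, hσ2,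
        Category.comp_id]
  -- topology
  have : PreconnectedSpace A := by
    have : IrreducibleSpace (PrimeSpectrum (Polynomial L)) := inferInstance
    have : ConnectedSpace (PrimeSpectrum (Polynomial L)) := inferInstance
    exact (inferInstance : PreconnectedSpace (PrimeSpectrum (Polynomial L)))
  have hpre : _root_.IsPreconnected (Set.range h') := isPreconnected_range h'.continuous
  let r : Spec (CommRingCat.of L) := (default : PrimeSpectrum L)
  have hp : p ∈ Set.range h' := by
    refine ⟨e 1 r, ?_⟩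
    rw [← Scheme.Hom.comp_apply, he1]
    exact Scheme.fromSpecResidueField_apply _ _
  have hp₀ : p₀ ∈ Set.range h' := by
    refine ⟨e 0 r, ?_⟩
    rw [← Scheme.Hom.comp_apply, he0, Scheme.Hom.comp_apply, hK ((ιp ≫ pullback.snd j.left k) r)]
  exact hpre.subset_connectedComponent hp₀ hp

include hs H1 H0 Hj Hnat in
theorem bijective_connectedComponentsMap :
    Function.Bijective (Continuous.connectedComponentsMap (Scheme.Hom.continuous j.left)) := by
  have hsl : s.left ≫ j.left = 𝟙 Z0.left := by
    rw [← Over.comp_left, hs]; rfl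
  have hsj : ∀ y : Z0.left, j.left (s.left y) = y := by
    intro y
    rw [← Scheme.Hom.comp_apply, hsl]
    rfl
  -- every point is connected to the section point of its image
  have stepA : ∀ x : ZN.left, s.left (j.left x) ∈ connectedComponent x := by
    intro x
    let y := j.left x
    let k := Z0.left.fromSpecResidueField y
    have := connected_fibre j s hs H H1 H0 Hj Hnat (Z0.left.residueField y) k
    let q₀ : Spec (CommRingCat.of (Z0.left.residueField y)) :=
      (default : PrimeSpectrum (Z0.left.residueField y))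
    have hk : k q₀ = y := Scheme.fromSpecResidueField_apply _ _
    obtain ⟨p, hp1, hp2⟩ := Scheme.Pullback.exists_preimage_pullback x q₀ (by rw [hk])
    let σ : Spec (CommRingCat.of (Z0.left.residueField y)) ⟶ Limits.pullback j.left k :=
      pullback.lift (k ≫ s.left) (𝟙 _)
        (by rw [Category.assoc, hsl, Category.comp_id, Category.id_comp])
    have hσ1 : σ ≫ pullback.fst j.left k = k ≫ s.left := pullback.lift_fst _ _ _
    have h1 : (pullback.fst j.left k) (σ q₀) = s.left y := by
      rw [← Scheme.Hom.comp_apply, hσ1, Scheme.Hom.comp_apply, hk]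
    have hpre : _root_.IsPreconnected (Set.range (pullback.fst j.left k)) :=
      isPreconnected_range (pullback.fst j.left k).continuous
    have := hpre.subset_connectedComponent (x := x) ⟨p, hp1⟩ ⟨σ q₀, h1⟩
    exact this
  constructor
  · intro a b hab
    obtain ⟨x, rfl⟩ := ConnectedComponents.surjective_coe a
    obtain ⟨x', rfl⟩ := ConnectedComponents.surjective_coe b
    have h1 : ((j.left x : Z0.left) : _root_.ConnectedComponents Z0.left) = (j.left x' : Z0.left) := hab
    rw [ConnectedComponents.coe_eq_coe'] at h1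
    have h2 : s.left (j.left x) ∈ connectedComponent (s.left (j.left x')) :=
      (Scheme.Hom.continuous s.left).image_connectedComponent_subset _ ⟨_, h1, rfl⟩
    have e1 : ((s.left (j.left x) : ZN.left) : _root_.ConnectedComponents ZN.left) = (x : ZN.left) :=
      ConnectedComponents.coe_eq_coe'.mpr (stepA x)
    have e2 : ((s.left (j.left x') : ZN.left) : _root_.ConnectedComponents ZN.left) = (x' : ZN.left) :=
      ConnectedComponents.coe_eq_coe'.mpr (stepA x')
    have e3 : ((s.left (j.left x) : ZN.left) : _root_.ConnectedComponents ZN.left) =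
        (s.left (j.left x') : ZN.left) := ConnectedComponents.coe_eq_coe'.mpr h2
    rw [← e1, e3, e2]
  · intro b
    obtain ⟨y, rfl⟩ := ConnectedComponents.surjective_coe b
    refine ⟨(s.left y : ZN.left), ?_⟩
    change ((j.left (s.left y) : Z0.left) : _root_.ConnectedComponents Z0.left) = _
    rw [hsj]

end Groth.Agent.Lib.Helper18.AttrConn
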