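import Mathlib

set_option autoImplicit false
set_option linter.unusedSectionVars false
universe u

noncomputable section

open scoped Classical

namespace Groth.Agent.Lib.Helper18.DiagAlg

variable {R A : Type u} [CommRing R] [CommRing A] (σ : R →+* A) (I : Ideal R)
  {G : Type} [CommGroup G]
  (ρ : A →+* MonoidAlgebra A G)

/-- coefficient of `ρ a` at `m`. -/
def cf (m : G) (a : A) : A := (ρ a).coeff m

theorem cf_add (m : G) (a b : A) : cf ρ m (a + b) = cf ρ m a + cf ρ m b := by
  simp [cf, map_add]

theorem cf_zero (m : G) : cf ρ m 0 = 0 := by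
  simp [cf]

variable (hlin : ∀ r : R, ρ (σ r) = MonoidAlgebra.single 1 (σ r))

include hlin in
theorem cf_smul (m : G) (r : R) (a : A) : cf ρ m (σ r * a) = σ r * cf ρ m a := by
  unfold cf
  rw [map_mul, hlin]
  simp

include hlin in
theorem cf_base (m : G) (hm : m ≠ 1) (r : R) : cf ρ m (σ r) = 0 := by
  unfold cf
  rw [hlin]
  simp [hm.symm]

variable (hco : ∀ (a : A) (n m : G), cf ρ m (cf ρ n a) = if m = n then cf ρ n a else 0)
  (htriv : ∀ (a : A) (m : G), m ≠ 1 → cf ρ m a ∈ I.map σ)

include hlin hco htriv in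
theorem cf_mem_pow (k : ℕ) : ∀ (a : A) (m : G), m ≠ 1 → cf ρ m a ∈ (I ^ k).map σ := by
  induction k with
  | zero =>
    intro a m _
    simp [Ideal.one_eq_top, Ideal.map_top]
  | succ k ih =>
    intro a m hm
    have hb : cf ρ m a ∈ I.map σ := htriv a m hm
    have key : ∀ b ∈ I.map σ, ∀ a' : A, cf ρ m (a' * b) ∈ (I ^ (k + 1)).map σ := by
      intro b hb
      unfold Ideal.map at hb
      induction hb using Submodule.span_induction with
      | mem x hx =>
        obtain ⟨r, hr, rfl⟩ := hx
        intro a'
        rw [mul_comm, cf_smul σ ρ hlin]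
        rw [pow_succ', Ideal.map_mul]
        exact Ideal.mul_mem_mul (Ideal.mem_map_of_mem σ hr) (ih a' m hm)
      | zero =>
        intro a'
        rw [mul_zero, cf_zero]
        exact Ideal.zero_mem _
      | add x y _ _ hx hy =>
        intro a'
        rw [mul_add, cf_add]
        exact Ideal.add_mem _ (hx a') (hy a')
      | smul c x _ hx =>
        intro a'
        rw [smul_eq_mul, ← mul_assoc]
        exact hx (a' * c)
    have h1 := key _ hb 1
    rw [one_mul, hco a m m, if_pos rfl] at h1
    exact h1

variable (hI : IsNilpotent I) (ε : MonoidAlgebra A G → A)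
  (hε : ∀ (m : G) (c : A), ε (MonoidAlgebra.single m c) = c) (hcounit : ∀ a : A, ε (ρ a) = a)

include hlin hco htriv hI hε hcounit in
theorem rho_eq (a : A) : ρ a = MonoidAlgebra.single 1 a := by
  obtain ⟨n, hn⟩ := hI
  have h0 : ∀ (a : A) (m : G), m ≠ 1 → cf ρ m a = 0 := by
    intro a m hm
    have := cf_mem_pow σ I ρ hlin hco htriv n a m hm
    rw [hn] at this
    simpa using this
  have h1 : ρ a = MonoidAlgebra.single 1 (cf ρ 1 a) := by
    apply MonoidAlgebra.coeff_injective
    ext m
    by_cases hm : m = 1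
    · subst hm
      simp [cf]
    · have := h0 a m hm
      unfold cf at this
      rw [this]
      simp [Ne.symm hm]
  have h2 := hcounit a
  rw [h1, hε] at h2
  rw [h1, h2]

end Groth.Agent.Lib.Helper18.DiagAlg
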