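import Mathlib
import Groth.Agent.Lib.Helper5.DSPts

set_option autoImplicit false
set_option linter.unusedSectionVars false
universe u

open CategoryTheory CategoryTheory.Limits MonoidalCategory CartesianMonoidalCategory MonObj
  AlgebraicGeometry Opposite

noncomputable section

namespace Groth.Agent.Lib.Helper18.DiagPts

open Groth.Agent.Lib.Helper5.DSPts

variable {U : Scheme.{u}} {M : Type} [AddCommGroup M]

section

variable {A : Type u} [CommRing A] {t₀ : Spec (CommRingCat.of A) ⟶ U}

/-- character of a point of `D_U(M)` over `Spec A`, valued in `A`. -/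
def chr (g : Over.mk t₀ ⟶ Red.DS U M) : Multiplicative M →* A :=
  ((Scheme.ΓSpecIso (CommRingCat.of A)).hom.hom :
    Γ(Spec (CommRingCat.of A), ⊤) →* A).comp (charOfPt g)

variable (t₀) in
/-- the point of a character. -/
def ptc (χ : Multiplicative M →* A) : Over.mk t₀ ⟶ Red.DS U M :=
  ptOfChar (T := Over.mk t₀) (((Scheme.ΓSpecIso (CommRingCat.of A)).inv.hom :
    A →* Γ(Spec (CommRingCat.of A), ⊤)).comp χ)

theorem chr_apply (g : Over.mk t₀ ⟶ Red.DS U M) (m : Multiplicative M) :
    chr g m = (Scheme.ΓSpecIso (CommRingCat.of A)).hom (charOfPt g m) := rfl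

theorem chr_ptc (χ : Multiplicative M →* A) : chr (ptc t₀ χ) = χ := by
  refine MonoidHom.ext fun m => ?_
  rw [chr_apply, ptc, charOfPt_ptOfChar]
  change (Scheme.ΓSpecIso (CommRingCat.of A)).hom
    ((Scheme.ΓSpecIso (CommRingCat.of A)).inv (χ m)) = χ m
  rw [← CommRingCat.comp_apply, Iso.inv_hom_id]
  rfl

theorem chr_injective : Function.Injective (chr : (Over.mk t₀ ⟶ Red.DS U M) → _) := by
  intro g g' h
  apply charOfPt_injective
  refine MonoidHom.ext fun m => ?_
  have := congrArg (fun χ => (Scheme.ΓSpecIso (CommRingCat.of A)).inv (χ m)) h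
  simp only [chr_apply] at this
  rw [← CommRingCat.comp_apply, ← CommRingCat.comp_apply, Iso.hom_inv_id] at this
  exact this

theorem ptc_chr (g : Over.mk t₀ ⟶ Red.DS U M) : ptc t₀ (chr g) = g :=
  chr_injective (chr_ptc _)

theorem chr_mul (g h : Over.mk t₀ ⟶ Red.DS U M) : chr (g * h) = chr g * chr h := by
  refine MonoidHom.ext fun m => ?_
  rw [chr_apply, charOfPt_mul]
  simp [chr_apply]

theorem chr_one : chr (1 : Over.mk t₀ ⟶ Red.DS U M) = 1 := by
  refine MonoidHom.ext fun m => ?_
  rw [chr_apply, charOfPt_one]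
  simp

end

theorem chr_comp {A A' : Type u} [CommRing A] [CommRing A'] {t₀ : Spec (CommRingCat.of A) ⟶ U}
    {t₀' : Spec (CommRingCat.of A') ⟶ U} (φ : A →+* A')
    (f : Over.mk t₀' ⟶ Over.mk t₀) (hf : f.left = Spec.map (CommRingCat.ofHom φ))
    (g : Over.mk t₀ ⟶ Red.DS U M) : chr (f ≫ g) = (φ : A →* A').comp (chr g) := by
  refine MonoidHom.ext fun m => ?_
  rw [chr_apply, charOfPt_comp]
  change (Scheme.ΓSpecIso (CommRingCat.of A')).hom (f.left.appTop (charOfPt g m)) =
    φ ((Scheme.ΓSpecIso (CommRingCat.of A)).hom (charOfPt g m))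
  rw [hf, ← CommRingCat.comp_apply, Scheme.ΓSpecIso_naturality]
  rfl

end Groth.Agent.Lib.Helper18.DiagPts
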