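import Mathlib
import Groth.Prelude.Def_Magnet2
import Groth.Agent.Lib.Helper18.DiagPts
import Groth.Agent.Lib.Helper18.DiagAlg
import Groth.Agent.Lib.Helper18.EqvHomSheaf

set_option autoImplicit false
set_option linter.unusedSectionVars false
universe u

open CategoryTheory CategoryTheory.Limits MonoidalCategory CartesianMonoidalCategory MonObj
  AlgebraicGeometry Opposite
open Magnet

noncomputable section

open scoped Classical

namespace Groth.Agent.Lib.Helper18.DiagAff

open Groth.Agent.Lib.Helper18.DiagPts Groth.Agent.Lib.Helper18.DiagAlg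

variable {U : Scheme.{u}} {M : Type} [AddCommGroup M]
  {A : Type u} [CommRing A] (sA : Spec (CommRingCat.of A) ⟶ U)
  (a : MonAct (Red.DS U M) (Over.mk sA))

/-- the ring hom underlying a morphism of spectra. -/
def pre {A' : Type u} [CommRing A'] (f : Spec (CommRingCat.of A') ⟶ Spec (CommRingCat.of A)) :
    A →+* A' := (Spec.preimage f).hom

theorem map_pre {A' : Type u} [CommRing A']
    (f : Spec (CommRingCat.of A') ⟶ Spec (CommRingCat.of A)) :
    Spec.map (CommRingCat.ofHom (pre f)) = f := Spec.map_preimage f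

theorem pre_map {A' : Type u} [CommRing A'] (φ : A →+* A') :
    pre (Spec.map (CommRingCat.ofHom φ)) = φ := by
  unfold pre
  rw [Spec.preimage_map]
  rfl

theorem pre_injective {A' : Type u} [CommRing A']
    {f f' : Spec (CommRingCat.of A') ⟶ Spec (CommRingCat.of A)} (h : pre f = pre f') : f = f' := by
  rw [← map_pre f, ← map_pre f', h]

abbrev AM (A : Type u) [CommRing A] (M : Type) [AddCommGroup M] : Type u :=
  MonoidAlgebra A (Multiplicative M)

abbrev ιA : A →+* AM A M := MonoidAlgebra.singleOneRingHom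

/-- the universal test object `Spec A[M]`. -/
abbrev Tu : Over U := Over.mk (Spec.map (CommRingCat.ofHom (ιA (A := A) (M := M))) ≫ sA)

abbrev xu : Tu (M := M) sA ⟶ Over.mk sA :=
  Over.homMk (Spec.map (CommRingCat.ofHom (ιA (A := A) (M := M)))) rfl

abbrev gu : Tu (M := M) sA ⟶ Red.DS U M :=
  ptc _ (MonoidAlgebra.of A (Multiplicative M))

/-- the coaction. -/
def ρ : A →+* AM A M := pre (lift (gu sA) (xu sA) ≫ a.act).left

theorem map_ρ : Spec.map (CommRingCat.ofHom (ρ sA a)) = (lift (gu sA) (xu sA) ≫ a.act).left :=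
  map_pre _

/-- the classifying ring hom of a pair (point, character). -/
abbrev φc {A' : Type u} [CommRing A'] (ξ : A →+* A') (χ : Multiplicative M →* A') :
    AM A M →+* A' :=
  MonoidAlgebra.liftNCRingHom ξ χ (fun _ _ => Commute.all _ _)

theorem φc_comp_ι {A' : Type u} [CommRing A'] (ξ : A →+* A') (χ : Multiplicative M →* A') :
    (φc ξ χ).comp (ιA (A := A) (M := M)) = ξ := by
  ext b
  simp [φc, MonoidAlgebra.singleOneRingHom]

theorem φc_of {A' : Type u} [CommRing A'] (ξ : A →+* A') (χ : Multiplicative M →* A')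
    (m : Multiplicative M) : φc ξ χ (MonoidAlgebra.of A (Multiplicative M) m) = χ m := by
  simp [φc, MonoidAlgebra.of_apply]

/-- Key formula: the action on an affine test object is computed by the coaction. -/
theorem act_left {A' : Type u} [CommRing A'] (t₀ : Spec (CommRingCat.of A') ⟶ U)
    (g : Over.mk t₀ ⟶ Red.DS U M) (x : Over.mk t₀ ⟶ Over.mk sA) :
    (lift g x ≫ a.act).left =
      Spec.map (CommRingCat.ofHom ((φc (pre x.left) (chr g)).comp (ρ sA a))) := by
  have hw : Spec.map (CommRingCat.ofHom (φc (pre x.left) (chr g))) ≫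
      (Spec.map (CommRingCat.ofHom (ιA (A := A) (M := M))) ≫ sA) = t₀ := by
    rw [← Category.assoc, ← Spec.map_comp, ← CommRingCat.ofHom_comp, φc_comp_ι, map_pre]
    exact Over.w x
  let f : Over.mk t₀ ⟶ Tu (M := M) sA :=
    Over.homMk (Spec.map (CommRingCat.ofHom (φc (pre x.left) (chr g)))) hw
  have hfx : f ≫ xu sA = x := by
    ext : 1
    change Spec.map _ ≫ Spec.map _ = x.left
    rw [← Spec.map_comp, ← CommRingCat.ofHom_comp, φc_comp_ι, map_pre]
  have hfg : f ≫ gu sA = g := by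
    apply chr_injective
    rw [chr_comp (φc (pre x.left) (chr g)) f rfl, gu, chr_ptc]
    refine MonoidHom.ext fun m => ?_
    exact φc_of _ _ m
  have h1 : lift g x ≫ a.act = f ≫ (lift (gu sA) (xu sA) ≫ a.act) := by
    rw [← Category.assoc, comp_lift, hfx, hfg]
  rw [h1, Over.comp_left, ← map_ρ, CommRingCat.ofHom_comp, Spec.map_comp]
  rfl

/-- coefficient extraction as an additive map. -/
def cfHom {B : Type u} [CommRing B] (m : Multiplicative M) : AM B M →+ B :=
  (Finsupp.applyAddHom m).comp MonoidAlgebra.coeffAddEquiv.toAddMonoidHom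

theorem cfHom_apply {B : Type u} [CommRing B] (m : Multiplicative M) (z : AM B M) :
    cfHom m z = z.coeff m := rfl

theorem cfHom_single {B : Type u} [CommRing B] (m k : Multiplicative M) (c : B) :
    cfHom m (MonoidAlgebra.single k c) = if k = m then c else 0 := by
  rw [cfHom_apply, MonoidAlgebra.coeff_single, Finsupp.single_apply]

/-- `φc (ι ∘ ξ) of` is coefficientwise `ξ`. -/
theorem cf_φc_of {A' : Type u} [CommRing A'] (ξ : A →+* A') (m : Multiplicative M)
    (z : AM A M) :
    (φc ((ιA (A := A') (M := M)).comp ξ) (MonoidAlgebra.of A' (Multiplicative M)) z).coeff m =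
      ξ (z.coeff m) := by
  have h : (cfHom m).comp ((φc ((ιA (A := A') (M := M)).comp ξ)
      (MonoidAlgebra.of A' (Multiplicative M)) : AM A M →+* AM A' M) : AM A M →+ AM A' M) =
      (ξ : A →+ A').comp (cfHom m) := by
    apply MonoidAlgebra.addMonoidHom_ext
    intro k c
    change cfHom m (φc ((ιA (A := A') (M := M)).comp ξ)
      (MonoidAlgebra.of A' (Multiplicative M)) (MonoidAlgebra.single k c)) =
      ξ (cfHom m (MonoidAlgebra.single k c))
    rw [φc, MonoidAlgebra.liftNCRingHom_single, cfHom_single]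
    have e1 : ((ιA (A := A') (M := M)).comp ξ) c = MonoidAlgebra.single 1 (ξ c) := rfl
    rw [e1, MonoidAlgebra.of_apply, MonoidAlgebra.single_mul_single, _root_.one_mul,
      _root_.mul_one, cfHom_single]
    split_ifs <;> simp
  exact congrArg (fun F => F z) h

section hyp

variable {R : Type u} [CommRing R] (r₀ : Spec (CommRingCat.of R) ⟶ U) [Mono r₀] (σ : R →+* A)
  (hsA : sA = Spec.map (CommRingCat.ofHom σ) ≫ r₀)

include hsA in
theorem ρ_lin (r : R) : ρ sA a (σ r) = MonoidAlgebra.single 1 (σ r) := by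
  have hw := Over.w (lift (gu sA) (xu sA) ≫ a.act)
  change (lift (gu sA) (xu sA) ≫ a.act).left ≫ sA =
    Spec.map (CommRingCat.ofHom (ιA (A := A) (M := M))) ≫ sA at hw
  rw [← map_ρ] at hw
  have hw' : Spec.map (CommRingCat.ofHom (ρ sA a)) ≫ (Spec.map (CommRingCat.ofHom σ) ≫ r₀) =
      Spec.map (CommRingCat.ofHom (ιA (A := A) (M := M))) ≫
        (Spec.map (CommRingCat.ofHom σ) ≫ r₀) := by
    rw [← hsA]
    exact hw
  rw [← Category.assoc, ← Category.assoc, cancel_mono, ← Spec.map_comp, ← Spec.map_comp] at hw'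
  have h2 := Spec.map_injective hw'
  have h3 := congrArg (fun f => f.hom r) h2
  exact h3

theorem ρ_counit (b : A) :
    φc (RingHom.id A) (1 : Multiplicative M →* A) (ρ sA a b) = b := by
  have h1 := act_left sA a sA (1 : Over.mk sA ⟶ Red.DS U M) (𝟙 (Over.mk sA))
  rw [a.lift_one_act, chr_one] at h1
  have h3 : Over.Hom.left (𝟙 (Over.mk sA)) = Spec.map (CommRingCat.ofHom (RingHom.id A)) := by
    rw [Over.id_left]
    exact (Spec.map_id _).symm
  rw [h3, pre_map] at h1
  have h4 := Spec.map_injective h1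
  have h5 := congrArg (fun f => f.hom b) h4
  exact h5.symm

theorem φc_id_one_single (m : Multiplicative M) (c : A) :
    φc (RingHom.id A) (1 : Multiplicative M →* A) (MonoidAlgebra.single m c) = c := by
  rw [φc, MonoidAlgebra.liftNCRingHom_single]
  simp

end hyp

section coassoc

abbrev A₂ (A : Type u) [CommRing A] (M : Type) [AddCommGroup M] : Type u := AM (AM A M) M

abbrev ξ₂ : A →+* A₂ A M := (ιA (A := AM A M) (M := M)).comp (ιA (A := A) (M := M))

abbrev χ₁ : Multiplicative M →* A₂ A M :=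
  ((ιA (A := AM A M) (M := M) : AM A M →+* A₂ A M) : AM A M →* A₂ A M).comp
    (MonoidAlgebra.of A (Multiplicative M))

abbrev χ₂ : Multiplicative M →* A₂ A M := MonoidAlgebra.of (AM A M) (Multiplicative M)

theorem L1 (m n : Multiplicative M) (z : AM A M) :
    ((φc (ξ₂ (A := A) (M := M)) (χ₁ * χ₂) z).coeff m).coeff n =
      if n = m then z.coeff m else 0 := by
  have h : ((cfHom n).comp (cfHom m)).comp
      ((φc (ξ₂ (A := A) (M := M)) (χ₁ * χ₂) : AM A M →+* A₂ A M) : AM A M →+ A₂ A M) =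
      if n = m then cfHom m else 0 := by
    apply MonoidAlgebra.addMonoidHom_ext
    intro k c
    change cfHom n (cfHom m (φc (ξ₂ (A := A) (M := M)) (χ₁ * χ₂) (MonoidAlgebra.single k c))) =
      (if n = m then cfHom m else 0) (MonoidAlgebra.single k c)
    rw [φc, MonoidAlgebra.liftNCRingHom_single]
    have e1 : (ξ₂ (A := A) (M := M)) c = MonoidAlgebra.single 1 (MonoidAlgebra.single 1 c) := rfl
    have e2 : (χ₁ * χ₂ : Multiplicative M →* A₂ A M) k =
        MonoidAlgebra.single k (MonoidAlgebra.single k 1) := by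
      rw [MonoidHom.mul_apply]
      change (MonoidAlgebra.single 1 (MonoidAlgebra.single k 1) : A₂ A M) *
        MonoidAlgebra.single k 1 = _
      rw [MonoidAlgebra.single_mul_single, _root_.one_mul, _root_.mul_one]
    rw [e1, e2, MonoidAlgebra.single_mul_single, _root_.one_mul, MonoidAlgebra.single_mul_single,
      _root_.one_mul, _root_.mul_one, cfHom_single]
    by_cases hkm : k = m
    · by_cases hnm : n = m
      · rw [if_pos hkm, if_pos hnm, cfHom_single, cfHom_single, if_pos hkm, hkm, hnm, if_pos rfl]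
      · rw [if_pos hkm, if_neg hnm, cfHom_single, hkm, if_neg (Ne.symm hnm)]
        rfl
    · by_cases hnm : n = m
      · rw [if_neg hkm, if_pos hnm, cfHom_single, if_neg hkm, map_zero]
      · rw [if_neg hkm, if_neg hnm, map_zero]
        rfl
  have := congrArg (fun F => F z) h
  simp only [AddMonoidHom.comp_apply] at this
  rw [show ((φc (ξ₂ (A := A) (M := M)) (χ₁ * χ₂) z).coeff m).coeff n =
    cfHom n (cfHom m (φc (ξ₂ (A := A) (M := M)) (χ₁ * χ₂) z)) from rfl]
  refine this.trans ?_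
  split_ifs <;> rfl

theorem L2 (m n : Multiplicative M) (z : AM A M) :
    ((φc ((φc (ξ₂ (A := A) (M := M)) χ₂).comp (ρ sA a)) χ₁ z).coeff m).coeff n =
      (ρ sA a (z.coeff n)).coeff m := by
  have h : ((cfHom n).comp (cfHom m)).comp
      ((φc ((φc (ξ₂ (A := A) (M := M)) χ₂).comp (ρ sA a)) χ₁ : AM A M →+* A₂ A M) :
        AM A M →+ A₂ A M) =
      ((cfHom m).comp ((ρ sA a : A →+* AM A M) : A →+ AM A M)).comp (cfHom n) := by
    apply MonoidAlgebra.addMonoidHom_ext
    intro k c
    change cfHom n (cfHom m (φc ((φc (ξ₂ (A := A) (M := M)) χ₂).comp (ρ sA a)) χ₁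
      (MonoidAlgebra.single k c))) = cfHom m (ρ sA a (cfHom n (MonoidAlgebra.single k c)))
    rw [φc, MonoidAlgebra.liftNCRingHom_single]
    have e2 : (χ₁ : Multiplicative M →* A₂ A M) k =
        MonoidAlgebra.single 1 (MonoidAlgebra.single k 1) := rfl
    rw [e2, RingHom.comp_apply, cfHom_apply m, MonoidAlgebra.coeff_mul_single_one]
    have e3 := cf_φc_of (A := A) (A' := AM A M) (M := M) (ιA (A := A) (M := M)) m (ρ sA a c)
    rw [e3]
    have e4 : (ιA (A := A) (M := M)) ((ρ sA a c).coeff m) =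
        MonoidAlgebra.single 1 ((ρ sA a c).coeff m) := rfl
    rw [e4, MonoidAlgebra.single_mul_single, _root_.one_mul, _root_.mul_one, cfHom_single,
      cfHom_single]
    split_ifs
    · rfl
    · rw [map_zero]
      rfl
  have := congrArg (fun F => F z) h
  exact this

theorem ρ_coassoc (b : A) (n m : Multiplicative M) :
    (ρ sA a ((ρ sA a b).coeff n)).coeff m = if m = n then (ρ sA a b).coeff n else 0 := by
  let t₀ : Spec (CommRingCat.of (A₂ A M)) ⟶ U :=
    Spec.map (CommRingCat.ofHom (ξ₂ (A := A) (M := M))) ≫ sA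
  let x : Over.mk t₀ ⟶ Over.mk sA :=
    Over.homMk (Spec.map (CommRingCat.ofHom (ξ₂ (A := A) (M := M)))) rfl
  let g : Over.mk t₀ ⟶ Red.DS U M := ptc t₀ χ₁
  let h : Over.mk t₀ ⟶ Red.DS U M := ptc t₀ χ₂
  have hx : pre x.left = ξ₂ (A := A) (M := M) := pre_map _
  have e0 := a.lift_mul_act g h x
  have eL := act_left sA a t₀ (g * h) x
  have ey := act_left sA a t₀ h x
  have eR := act_left sA a t₀ g (lift h x ≫ a.act)
  rw [ey, pre_map] at eR
  rw [e0, eR, chr_mul, chr_ptc, chr_ptc, hx] at eL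
  have e1 := Spec.map_injective eL
  have e2 := congrArg (fun f => ((f.hom b).coeff m).coeff n) e1
  simp only [CommRingCat.hom_ofHom, RingHom.comp_apply] at e2
  rw [L2 sA a m n (ρ sA a b), L1 m n (ρ sA a b)] at e2
  rw [e2]
  split_ifs with h1 h2 h2
  · rw [h1]
  · exact absurd h1.symm h2
  · exact absurd h2.symm h1
  · rfl

end coassoc

section triv

variable {R : Type u} [CommRing R] (r₀ : Spec (CommRingCat.of R) ⟶ U) [Mono r₀] (σ : R →+* A)
  (hsA : sA = Spec.map (CommRingCat.ofHom σ) ≫ r₀) (I : Ideal R)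
  (h0 : ∀ (Y : Over U)
    (_ : Y ⟶ Over.mk (Spec.map (CommRingCat.ofHom (Ideal.Quotient.mk I)) ≫ r₀))
    (g : Y ⟶ Red.DS U M) (x : Y ⟶ Over.mk sA), lift g x ≫ a.act = x)

include hsA h0 in
theorem ρ_triv (b : A) (m : Multiplicative M) (hm : m ≠ 1) :
    (ρ sA a b).coeff m ∈ I.map σ := by
  let π : A →+* A ⧸ I.map σ := Ideal.Quotient.mk (I.map σ)
  let ξ : A →+* AM (A ⧸ I.map σ) M := (ιA (A := A ⧸ I.map σ) (M := M)).comp π
  let t₀ : Spec (CommRingCat.of (AM (A ⧸ I.map σ) M)) ⟶ U :=
    Spec.map (CommRingCat.ofHom ξ) ≫ sA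
  let x : Over.mk t₀ ⟶ Over.mk sA := Over.homMk (Spec.map (CommRingCat.ofHom ξ)) rfl
  let g : Over.mk t₀ ⟶ Red.DS U M :=
    ptc t₀ (MonoidAlgebra.of (A ⧸ I.map σ) (Multiplicative M))
  have hq : ∀ r ∈ I, (ξ.comp σ) r = 0 := by
    intro r hr
    change (ιA (A := A ⧸ I.map σ) (M := M)) (π (σ r)) = 0
    have : π (σ r) = 0 := Ideal.Quotient.eq_zero_iff_mem.mpr (Ideal.mem_map_of_mem σ hr)
    rw [this, map_zero]
  let q : R ⧸ I →+* AM (A ⧸ I.map σ) M := Ideal.Quotient.lift I (ξ.comp σ) hq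
  have hqm : q.comp (Ideal.Quotient.mk I) = ξ.comp σ := by
    ext r
    rfl
  have hpw : Spec.map (CommRingCat.ofHom q) ≫
      (Spec.map (CommRingCat.ofHom (Ideal.Quotient.mk I)) ≫ r₀) = t₀ := by
    change _ = Spec.map (CommRingCat.ofHom ξ) ≫ sA
    rw [hsA, ← Category.assoc, ← Category.assoc, ← Spec.map_comp, ← Spec.map_comp,
      ← CommRingCat.ofHom_comp, ← CommRingCat.ofHom_comp, hqm]
  let p : Over.mk t₀ ⟶ Over.mk (Spec.map (CommRingCat.ofHom (Ideal.Quotient.mk I)) ≫ r₀) :=
    Over.homMk (Spec.map (CommRingCat.ofHom q)) hpw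
  have hx : pre x.left = ξ := pre_map _
  have e0 := h0 (Over.mk t₀) p g x
  have eL := act_left sA a t₀ g x
  rw [e0, chr_ptc, hx] at eL
  have e1 := Spec.map_injective eL
  have e2 := congrArg (fun f => (f.hom b).coeff m) e1
  simp only [CommRingCat.hom_ofHom, RingHom.comp_apply] at e2
  have e3 := cf_φc_of (A := A) (A' := A ⧸ I.map σ) (M := M) π m (ρ sA a b)
  rw [e3] at e2
  have e4 : (ξ b).coeff m = 0 := by
    change (MonoidAlgebra.single 1 (π b)).coeff m = 0
    rw [MonoidAlgebra.coeff_single, Finsupp.single_apply, if_neg (Ne.symm hm)]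
  rw [e4] at e2
  exact Ideal.Quotient.eq_zero_iff_mem.mp e2.symm

end triv

section aff

open Groth.Agent.Lib.Helper18.EqvHomSheaf Groth.Agent.Lib.Helper18.RepOver

variable {R : Type u} [CommRing R] (r₀ : Spec (CommRingCat.of R) ⟶ U) [Mono r₀] (σ : R →+* A)
  (hsA : sA = Spec.map (CommRingCat.ofHom σ) ≫ r₀) (I : Ideal R) (hI : IsNilpotent I)
  (h0 : ∀ (Y : Over U)
    (_ : Y ⟶ Over.mk (Spec.map (CommRingCat.ofHom (Ideal.Quotient.mk I)) ≫ r₀))
    (g : Y ⟶ Red.DS U M) (x : Y ⟶ Over.mk sA), lift g x ≫ a.act = x)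

include hsA hI h0 in
theorem ρ_eq : ρ sA a = ιA (A := A) (M := M) := by
  have h1 : ∀ r : R, ρ sA a (σ r) = MonoidAlgebra.single 1 (σ r) := ρ_lin sA a r₀ σ hsA
  have h2 : ∀ (b : A) (n m : Multiplicative M),
      cf (G := Multiplicative M) (ρ sA a) m (cf (G := Multiplicative M) (ρ sA a) n b) =
      if m = n then cf (G := Multiplicative M) (ρ sA a) n b else 0 :=
    fun b n m => ρ_coassoc sA a b n m
  have h3 : ∀ (b : A) (m : Multiplicative M), m ≠ 1 →
      cf (G := Multiplicative M) (ρ sA a) m b ∈ I.map σ :=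
    fun b m hm => ρ_triv sA a r₀ σ hsA I h0 b m hm
  have h4 : ∀ (m : Multiplicative M) (c : A),
      (fun z : MonoidAlgebra A (Multiplicative M) =>
        φc (RingHom.id A) (1 : Multiplicative M →* A) z) (MonoidAlgebra.single m c) = c :=
    fun m c => φc_id_one_single m c
  have h5 : ∀ b : A, (fun z : MonoidAlgebra A (Multiplicative M) =>
        φc (RingHom.id A) (1 : Multiplicative M →* A) z) (ρ sA a b) = b :=
    fun b => ρ_counit sA a b
  refine RingHom.ext fun b => ?_
  exact rho_eq (G := Multiplicative M) σ I (ρ sA a) h1 h2 h3 hI _ h4 h5 b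

include hsA hI h0 in
theorem act_affine {A' : Type u} [CommRing A'] (t₀ : Spec (CommRingCat.of A') ⟶ U)
    (g : Over.mk t₀ ⟶ Red.DS U M) (x : Over.mk t₀ ⟶ Over.mk sA) :
    lift g x ≫ a.act = x := by
  ext : 1
  rw [act_left, ρ_eq sA a r₀ σ hsA I hI h0, φc_comp_ι, map_pre]

include hsA hI h0 in
theorem act_all (Y : Over U) (g : Y ⟶ Red.DS U M) (x : Y ⟶ Over.mk sA) :
    lift g x ≫ a.act = x := by
  have hc := isZarCov_of_cover Y.hom Y.left.affineCover
  refine hc.hom_ext (T := Over.mk Y.hom) (lift g x ≫ a.act) x fun i => ?_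
  rw [← Category.assoc, comp_lift]
  exact act_affine sA a r₀ σ hsA I hI h0 _ _ _

end aff

end Groth.Agent.Lib.Helper18.DiagAff


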