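import Mathlib
import Groth.Prelude.Def_Magnet2
import Groth.Agent.Lib.Helper18.DiagAff

set_option autoImplicit false
set_option linter.unusedSectionVars false
universe u

open CategoryTheory CategoryTheory.Limits MonoidalCategory CartesianMonoidalCategory MonObj
  AlgebraicGeometry Opposite
open Magnet

noncomputable section

namespace Groth.Agent.Lib.Helper18.DiagTriv

open Groth.Agent.Lib.Helper18.DiagAff Groth.Agent.Lib.Helper18.EqvHomSheaf
  Groth.Agent.Lib.Helper18.RepOver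

section general

variable {C : Type*} [Category C] [CartesianMonoidalCategory C] {A X Y : C} [MonObj A]

def actOfMono (a : MonAct A X) (j : Y ⟶ X) [Mono j] (act' : A ⊗ Y ⟶ Y)
    (h : act' ≫ j = (A ◁ j) ≫ a.act) : MonAct A Y :=
  MonAct.mk' act'
    (fun T x => by
      rw [← cancel_mono j, Category.assoc, h, lift_whiskerLeft_assoc, a.lift_one_act])
    (fun T g g' x => by
      rw [← cancel_mono j]
      simp only [Category.assoc, h, lift_whiskerLeft_assoc]
      rw [a.lift_mul_act])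

theorem actOfMono_act (a : MonAct A X) (j : Y ⟶ X) [Mono j] (act' : A ⊗ Y ⟶ Y)
    (h : act' ≫ j = (A ◁ j) ≫ a.act) : (actOfMono a j act' h).act = act' := rfl

end general

variable {U : Scheme.{u}} {M : Type} [AddCommGroup M] {X : Over U} (a : MonAct (Red.DS U M) X)
  (𝒴 : Over U → Prop) (h𝒴 : ∀ {Y Y' : Over U} (_ : Y' ⟶ Y), 𝒴 Y → 𝒴 Y')
  (h0 : ∀ Y, 𝒴 Y → ∀ (g : Y ⟶ Red.DS U M) (x : Y ⟶ X), lift g x ≫ a.act = x)
  (hNT : ∀ u : U, ∃ (W : U.Opens) (hW : IsAffineOpen W) (I : Ideal Γ(U, W)), u ∈ W ∧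
    IsNilpotent I ∧
    𝒴 (Over.mk (Spec.map (CommRingCat.ofHom (Ideal.Quotient.mk I)) ≫ hW.fromSpec)))

/-- a residue field point over a point of `W` factors through `Spec (Γ(U,W)/I)` for nilpotent `I`. -/
theorem exists_factor_field {W : U.Opens} (hW : IsAffineOpen W) (I : Ideal Γ(U, W))
    (hI : IsNilpotent I) (κ : CommRingCat.{u}) [IsReduced κ] (t : Spec κ ⟶ U)
    (ht : Set.range t ⊆ (W : Set U)) :
    ∃ l : Spec κ ⟶ Spec (CommRingCat.of (Γ(U, W) ⧸ I)),
      l ≫ Spec.map (CommRingCat.ofHom (Ideal.Quotient.mk I)) ≫ hW.fromSpec = t := by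
  have hr : Set.range t ⊆ Set.range hW.fromSpec := by
    rw [hW.range_fromSpec]
    exact ht
  let l₀ := IsOpenImmersion.lift hW.fromSpec t hr
  have hl₀ : l₀ ≫ hW.fromSpec = t := IsOpenImmersion.lift_fac _ _ _
  let ψ : Γ(U, W) →+* κ := (Spec.preimage l₀).hom
  have hψ : Spec.map (CommRingCat.ofHom ψ) = l₀ := Spec.map_preimage l₀
  have hk : ∀ r ∈ I, ψ r = 0 := by
    intro r hr
    obtain ⟨n, hn⟩ := hI
    have h1 : r ^ n ∈ I ^ n := Ideal.pow_mem_pow hr n
    rw [hn] at h1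
    have h2 : r ^ n = 0 := h1
    have h3 : IsNilpotent (ψ r) := ⟨n, by rw [← map_pow, h2, map_zero]⟩
    exact h3.eq_zero
  let ψ' : Γ(U, W) ⧸ I →+* κ := Ideal.Quotient.lift I ψ hk
  have hψ' : ψ'.comp (Ideal.Quotient.mk I) = ψ := by
    ext r
    rfl
  refine ⟨Spec.map (CommRingCat.ofHom ψ'), ?_⟩
  rw [← Category.assoc, ← Spec.map_comp, ← CommRingCat.ofHom_comp, hψ', hψ, hl₀]

include h𝒴 h0 hNT in
theorem act_apply (Y : Over U) (g : Y ⟶ Red.DS U M) (x : Y ⟶ X) (y : Y.left) :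
    (lift g x ≫ a.act).left y = x.left y := by
  obtain ⟨W, hW, I, huW, hI, hWI⟩ := hNT (Y.hom y)
  let ιy : Spec (Y.left.residueField y) ⟶ Y.left := Y.left.fromSpecResidueField y
  have ht : Set.range (ιy ≫ Y.hom) ⊆ (W : Set U) := by
    rintro _ ⟨p, rfl⟩
    rw [Scheme.Hom.comp_apply]
    have : ιy p = y := Scheme.fromSpecResidueField_apply _ _
    rw [this]
    exact huW
  obtain ⟨l, hl⟩ := exists_factor_field hW I hI (Y.left.residueField y) (ιy ≫ Y.hom) ht
  let Yκ : Over U := Over.mk (ιy ≫ Y.hom)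
  let jy : Yκ ⟶ Y := Over.homMk ιy rfl
  let p : Yκ ⟶ Over.mk (Spec.map (CommRingCat.ofHom (Ideal.Quotient.mk I)) ≫ hW.fromSpec) :=
    Over.homMk l hl
  have h1 := h0 Yκ (h𝒴 p hWI) (jy ≫ g) (jy ≫ x)
  rw [← comp_lift, Category.assoc] at h1
  have h2 := congrArg (fun k => k.left) h1
  simp only [Over.comp_left] at h2
  have pt : Spec (Y.left.residueField y) := Classical.arbitrary _
  have h3 := congrArg (fun k : Spec (Y.left.residueField y) ⟶ X.left => k pt) h2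
  simp only [Scheme.Hom.comp_apply] at h3
  have hpt : jy.left pt = y := Scheme.fromSpecResidueField_apply _ _
  rw [hpt] at h3
  rw [Over.comp_left, Scheme.Hom.comp_apply]
  exact h3

include h𝒴 h0 hNT in
theorem exists_chart (x₀ : X.left) :
    ∃ (A : Type u) (_ : CommRing A) (sA : Spec (CommRingCat.of A) ⟶ U) (j : Over.mk sA ⟶ X),
      IsOpenImmersion j.left ∧ x₀ ∈ Set.range j.left ∧
      ∀ (Y' : Over U) (g' : Y' ⟶ Red.DS U M) (x' : Y' ⟶ Over.mk sA),
        lift g' (x' ≫ j) ≫ a.act = x' ≫ j := by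
  obtain ⟨W, hW, I, huW, hI, hWI⟩ := hNT (X.hom x₀)
  have hx₀ : x₀ ∈ X.hom ⁻¹ᵁ W := huW
  obtain ⟨V, hV, hx₀V, hVW⟩ := exists_isAffineOpen_mem_and_subset hx₀
  have hVW' : V ≤ X.hom ⁻¹ᵁ W := hVW
  let sA : Spec (CommRingCat.of Γ(X.left, V)) ⟶ U := hV.fromSpec ≫ X.hom
  let j : Over.mk sA ⟶ X := Over.homMk hV.fromSpec rfl
  have hjo : IsOpenImmersion j.left := (inferInstance : IsOpenImmersion hV.fromSpec)
  have hjm : Mono j := by
    have : Mono j.left := inferInstance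
    exact Over.mono_of_mono_left _
  let σ : Γ(U, W) →+* Γ(X.left, V) := (X.hom.appLE W V hVW').hom
  have hsA : sA = Spec.map (CommRingCat.ofHom σ) ≫ hW.fromSpec :=
    (IsAffineOpen.SpecMap_appLE_fromSpec X.hom hW hV hVW').symm
  -- the restricted action
  have hr : Set.range ((Red.DS U M ◁ j) ≫ a.act).left ⊆ Set.range j.left := by
    rintro _ ⟨z, rfl⟩
    have h1 : (Red.DS U M ◁ j) = lift (fst _ _) (snd _ _ ≫ j) := by
      apply CartesianMonoidalCategory.hom_ext <;> simp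
    rw [h1, act_apply a 𝒴 h𝒴 h0 hNT, Over.comp_left, Scheme.Hom.comp_apply]
    exact ⟨_, rfl⟩
  let act₀ := IsOpenImmersion.lift j.left ((Red.DS U M ◁ j) ≫ a.act).left hr
  have hact₀ : act₀ ≫ j.left = ((Red.DS U M ◁ j) ≫ a.act).left := IsOpenImmersion.lift_fac _ _ _
  have hw : act₀ ≫ (Over.mk sA).hom = (Red.DS U M ⊗ Over.mk sA).hom := by
    rw [← Over.w j, ← Category.assoc, hact₀, Over.w]
  let actV : Red.DS U M ⊗ Over.mk sA ⟶ Over.mk sA := Over.homMk act₀ hw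
  have hactV : actV ≫ j = (Red.DS U M ◁ j) ≫ a.act := by
    ext : 1
    exact hact₀
  let aV : MonAct (Red.DS U M) (Over.mk sA) := actOfMono a j actV hactV
  have h0V : ∀ (Y : Over U)
      (_ : Y ⟶ Over.mk (Spec.map (CommRingCat.ofHom (Ideal.Quotient.mk I)) ≫ hW.fromSpec))
      (g : Y ⟶ Red.DS U M) (x : Y ⟶ Over.mk sA), lift g x ≫ aV.act = x := by
    intro Y p g x
    rw [← cancel_mono j, Category.assoc]
    change lift g x ≫ actV ≫ j = x ≫ j
    rw [hactV, lift_whiskerLeft_assoc]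
    exact h0 Y (h𝒴 p hWI) g (x ≫ j)
  have hall := act_all sA aV hW.fromSpec σ hsA I hI h0V
  refine ⟨Γ(X.left, V), inferInstance, sA, j, hjo, ?_, ?_⟩
  · change x₀ ∈ Set.range hV.fromSpec
    rw [hV.range_fromSpec]
    exact hx₀V
  · intro Y' g' x'
    have h1 := hall Y' g' x'
    have h2 : lift g' x' ≫ actV ≫ j = x' ≫ j := by
      rw [← Category.assoc]
      exact congrArg (· ≫ j) h1
    rw [hactV, lift_whiskerLeft_assoc] at h2
    exact h2

include h𝒴 h0 hNT in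
theorem act_trivial (Y : Over U) (g : Y ⟶ Red.DS U M) (x : Y ⟶ X) : lift g x ≫ a.act = x := by
  choose A instA sA j hjo hjx hj using exists_chart a 𝒴 h𝒴 h0 hNT
  let O : X.left → Y.left.Opens := fun x₀ => x.left ⁻¹ᵁ (j x₀).left.opensRange
  have hc : IsZarCov (fun x₀ : X.left => resOv Y (O x₀)) (fun x₀ => resι Y (O x₀)) :=
    { isOpen := fun x₀ => (inferInstance : IsOpenImmersion (O x₀).ι)
      surj := fun y => by
        refine ⟨x.left y, ⟨y, ?_⟩, rfl⟩
        exact hjx (x.left y) }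
  refine hc.hom_ext _ _ fun x₀ => ?_
  have hr : Set.range ((O x₀).ι ≫ x.left) ⊆ Set.range (j x₀).left := by
    rintro _ ⟨z, rfl⟩
    rw [Scheme.Hom.comp_apply]
    exact z.2
  have := hjo x₀
  let x₁ := IsOpenImmersion.lift (j x₀).left ((O x₀).ι ≫ x.left) hr
  have hx₁ : x₁ ≫ (j x₀).left = (O x₀).ι ≫ x.left := IsOpenImmersion.lift_fac _ _ _
  have hw : x₁ ≫ (Over.mk (sA x₀)).hom = (resOv Y (O x₀)).hom := by
    rw [← Over.w (j x₀), ← Category.assoc, hx₁]
    change (O x₀).ι ≫ x.left ≫ X.hom = (O x₀).ι ≫ Y.hom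
    rw [Over.w]
  let x' : resOv Y (O x₀) ⟶ Over.mk (sA x₀) := Over.homMk x₁ hw
  have hx' : x' ≫ j x₀ = resι Y (O x₀) ≫ x := by
    ext : 1
    exact hx₁
  rw [← Category.assoc, comp_lift, ← hx']
  exact hj x₀ _ _ _

end Groth.Agent.Lib.Helper18.DiagTriv
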