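import Mathlib
import Groth.Prelude.Def_Magnet3
import Groth.Agent.Lib.Helper18.AttrAff
import Groth.Agent.Lib.Helper18.DiagTriv

set_option autoImplicit false
set_option linter.unusedSectionVars false
universe u

open CategoryTheory CategoryTheory.Limits MonoidalCategory CartesianMonoidalCategory MonObj
  AlgebraicGeometry Opposite
open Magnet

noncomputable section

namespace Groth.Agent.Lib.Helper18.AttrGlob

open Groth.Agent.Lib.Helper18.AttrAff Groth.Agent.Lib.Helper18.DiagTriv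
  Groth.Agent.Lib.Helper18.EqvHomSheaf Groth.Agent.Lib.Helper18.RepOver
  Groth.Agent.Lib.Helper5.AMonAttr

section factor

variable {S : Scheme.{u}} {X' X : Over S} (j : X' ⟶ X) [IsOpenImmersion j.left] (W : S.Opens)
  (hj : Set.range j.left = X.hom ⁻¹' (W : Set S))

include hj in
theorem exists_factor {P : Over S} (hP : ∀ z : P.left, P.hom z ∈ W) (g : P ⟶ X) :
    ∃ g' : P ⟶ X', g' ≫ j = g := by
  have hr : Set.range g.left ⊆ Set.range j.left := by
    rw [hj]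
    rintro _ ⟨z, rfl⟩
    change X.hom (g.left z) ∈ W
    rw [← Scheme.Hom.comp_apply, Over.w]
    exact hP z
  let g₀ := IsOpenImmersion.lift j.left g.left hr
  have hg₀ : g₀ ≫ j.left = g.left := IsOpenImmersion.lift_fac _ _ _
  refine ⟨Over.homMk g₀ ?_, ?_⟩
  · rw [← Over.w j, ← Category.assoc, hg₀, Over.w]
  · ext : 1
    exact hg₀

include hj in
theorem hom_mem (z : X'.left) : X'.hom z ∈ W := by
  rw [← Over.w j, Scheme.Hom.comp_apply]
  have : j.left z ∈ X.hom ⁻¹' (W : Set S) := by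
    rw [← hj]
    exact ⟨z, rfl⟩
  exact this

theorem mono_of_open : Mono j := by
  have : Mono j.left := inferInstance
  exact Over.mono_of_mono_left _

end factor

section loc

variable {S : Scheme.{u}} {M Z : Type} [AddCommMonoid M] [AddCommMonoid Z] (f : M →+ Z)
  (Y : AddSubmonoid Z) {X : Over S} (a : MonAct (AMonS S M) X)

abbrev EqvN (T : Over S) (φ : AMonS S ↥(Y.comap f) ⊗ T ⟶ X) : Prop :=
  MonAct.IsEquivariant ((subAct S M (Y.comap f)).prod (MonAct.trivial (AMonS S M) T)) a φ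

abbrev EqvY (T : Over S) (ψ : AMonS S ↥Y ⊗ T ⟶ X) : Prop :=
  MonAct.IsEquivariant ((subAct S Z Y).prod (MonAct.trivial (AMonS S Z) T))
    (a.restrict (AMonS.map S f)) ψ

variable [IsAffineHom X.hom]

theorem exists_affine_local {B : Type u} [CommRing B] (tB : Spec (CommRingCat.of B) ⟶ S)
    (W : S.Opens) (hW : IsAffineOpen W) (htB : ∀ z, tB z ∈ W)
    (ψ : AMonS S ↥Y ⊗ Over.mk tB ⟶ X) (hψ : EqvY f Y a (Over.mk tB) ψ) :
    ∃ φ : AMonS S ↥(Y.comap f) ⊗ Over.mk tB ⟶ X, EqvN f Y a (Over.mk tB) φ ∧ ev φ = ev ψ := by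
  have hXW : IsAffineOpen (X.hom ⁻¹ᵁ W) := hW.preimage X.hom
  let sA : Spec (CommRingCat.of Γ(X.left, X.hom ⁻¹ᵁ W)) ⟶ S := hXW.fromSpec ≫ X.hom
  let j : Over.mk sA ⟶ X := Over.homMk hXW.fromSpec rfl
  have hjo : IsOpenImmersion j.left := (inferInstance : IsOpenImmersion hXW.fromSpec)
  have hjm : Mono j := mono_of_open j
  have hjr : Set.range j.left = X.hom ⁻¹' (W : Set S) := hXW.range_fromSpec
  let σ : Γ(S, W) →+* Γ(X.left, X.hom ⁻¹ᵁ W) := (X.hom.appLE W (X.hom ⁻¹ᵁ W) le_rfl).hom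
  have hsA : sA = Spec.map (CommRingCat.ofHom σ) ≫ hW.fromSpec :=
    (IsAffineOpen.SpecMap_appLE_fromSpec X.hom hW hXW le_rfl).symm
  -- restricted action
  have hP1 : ∀ z : (AMonS S M ⊗ Over.mk sA).left, (AMonS S M ⊗ Over.mk sA).hom z ∈ W := by
    intro z
    rw [← Over.w (snd (AMonS S M) (Over.mk sA)), Scheme.Hom.comp_apply]
    exact hom_mem j W hjr _
  obtain ⟨act', hact'⟩ := exists_factor j W hjr hP1 ((AMonS S M ◁ j) ≫ a.act)
  let a' : MonAct (AMonS S M) (Over.mk sA) := actOfMono a j act' hact'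
  have ha' : ∀ {T' : Over S} (g : T' ⟶ AMonS S M) (x' : T' ⟶ Over.mk sA),
      lift g x' ≫ a'.act ≫ j = lift g (x' ≫ j) ≫ a.act := by
    intro T' g x'
    change lift g x' ≫ act' ≫ j = _
    rw [hact', lift_whiskerLeft_assoc]
  -- factor ψ
  have hP2 : ∀ z : (AMonS S ↥Y ⊗ Over.mk tB).left, (AMonS S ↥Y ⊗ Over.mk tB).hom z ∈ W := by
    intro z
    rw [← Over.w (snd (AMonS S ↥Y) (Over.mk tB)), Scheme.Hom.comp_apply]
    exact htB _
  obtain ⟨ψ'', hψ''⟩ := exists_factor j W hjr hP2 ψ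
  have hψeq : MonAct.IsEquivariant ((subAct S Z Y).prod (MonAct.trivial (AMonS S Z) (Over.mk tB)))
      (a'.restrict (AMonS.map S f)) ψ'' := by
    rw [MonAct.mem_eqvHom_iff]
    intro T' g b t
    rw [← cancel_mono j, Category.assoc, hψ'', MonAct.lift_restrict_act, Category.assoc, ha',
      Category.assoc, hψ'']
    have h1 := (MonAct.mem_eqvHom_iff ψ).mp hψ T' g b t
    rw [MonAct.lift_restrict_act] at h1
    exact h1
  obtain ⟨φ'', hφeq, hφev⟩ := exists_attr_local sA a' tB f Y hW.fromSpec σ hsA ψ'' hψeq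
  refine ⟨φ'' ≫ j, ?_, ?_⟩
  · change MonAct.IsEquivariant _ a (φ'' ≫ j)
    rw [MonAct.mem_eqvHom_iff]
    intro T' g b t
    have h1 := (MonAct.mem_eqvHom_iff φ'').mp hφeq T' g b t
    rw [← Category.assoc, h1, Category.assoc, ha', Category.assoc]
  · change lift _ _ ≫ φ'' ≫ j = lift _ _ ≫ ψ
    rw [← hψ'', ← Category.assoc, ← Category.assoc]
    exact congrArg (· ≫ j) hφev

omit [IsAffineHom X.hom] in
theorem ev_whiskerLeft {K : AddSubmonoid M} {T T' : Over S} (t : T' ⟶ T)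
    (φ : AMonS S ↥K ⊗ T ⟶ X) : ev ((AMonS S ↥K ◁ t) ≫ φ) = t ≫ ev φ := by
  change lift _ _ ≫ (AMonS S ↥K ◁ t) ≫ φ = t ≫ lift _ _ ≫ φ
  rw [lift_whiskerLeft_assoc, Category.id_comp, ← Category.assoc t, comp_lift, Category.comp_id,
    ← Category.assoc, toUnit_unique (t ≫ toUnit T) (toUnit T')]

theorem exists_local (T : Over S) (ψ : AMonS S ↥Y ⊗ T ⟶ X) (hψ : EqvY f Y a T ψ) (p : T.left) :
    ∃ V : T.left.Opens, p ∈ V ∧ ∃ φ : AMonS S ↥(Y.comap f) ⊗ resOv T V ⟶ X,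
      EqvN f Y a (resOv T V) φ ∧ ev φ = resι T V ≫ ev ψ := by
  obtain ⟨W, hW, hpW, -⟩ := exists_isAffineOpen_mem_and_subset (x := T.hom p) (U := ⊤) trivial
  have hp' : p ∈ T.hom ⁻¹ᵁ W := hpW
  obtain ⟨V, hV, hpV, hVW⟩ := exists_isAffineOpen_mem_and_subset hp'
  let tB : Spec (CommRingCat.of Γ(T.left, V)) ⟶ S := hV.fromSpec ≫ T.hom
  let ι' : Over.mk tB ⟶ T := Over.homMk hV.fromSpec rfl
  have hcw : hV.isoSpec.hom ≫ (Over.mk tB).hom = (resOv T V).hom := by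
    change hV.isoSpec.hom ≫ hV.fromSpec ≫ T.hom = V.ι ≫ T.hom
    rw [← Category.assoc, hV.isoSpec_hom_fromSpec]
  let c : resOv T V ⟶ Over.mk tB := Over.homMk hV.isoSpec.hom hcw
  have hc : c ≫ ι' = resι T V := by
    ext : 1
    exact hV.isoSpec_hom_fromSpec
  have htB : ∀ z, tB z ∈ W := by
    intro z
    change (hV.fromSpec ≫ T.hom) z ∈ W
    rw [Scheme.Hom.comp_apply]
    have h1 : hV.fromSpec z ∈ (V : Set T.left) := by
      rw [← hV.range_fromSpec]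
      exact ⟨z, rfl⟩
    exact hVW h1
  let ψB : (MonAct.eqvHom (subAct S Z Y) (a.restrict (AMonS.map S f))).obj (op (Over.mk tB)) :=
    (MonAct.eqvHom (subAct S Z Y) (a.restrict (AMonS.map S f))).map ι'.op ⟨ψ, hψ⟩
  obtain ⟨φB, hφB, hevB⟩ := exists_affine_local f Y a tB W hW htB ψB.1 ψB.2
  let φV : (MonAct.eqvHom (subAct S M (Y.comap f)) a).obj (op (resOv T V)) :=
    (MonAct.eqvHom (subAct S M (Y.comap f)) a).map c.op ⟨φB, hφB⟩
  refine ⟨V, hpV, φV.1, φV.2, ?_⟩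
  change ev ((AMonS S ↥(Y.comap f) ◁ c) ≫ φB) = _
  rw [ev_whiskerLeft, hevB]
  change c ≫ ev ((AMonS S ↥Y ◁ ι') ≫ ψ) = _
  rw [ev_whiskerLeft, ← Category.assoc, hc]

theorem exists_global (T : Over S) (ψ : AMonS S ↥Y ⊗ T ⟶ X) (hψ : EqvY f Y a T ψ) :
    ∃ φ : AMonS S ↥(Y.comap f) ⊗ T ⟶ X, EqvN f Y a T φ ∧ ev φ = ev ψ := by
  choose V hpV φV hφV hevV using exists_local f Y a T ψ hψ
  have hcov : TopologicalSpace.IsOpenCover V := by
    apply TopologicalSpace.IsOpenCover.mk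
    rw [eq_top_iff]
    intro p _
    exact TopologicalSpace.Opens.mem_iSup.mpr ⟨p, hpV p⟩
  let 𝒰 : T.left.OpenCover := T.left.openCoverOfIsOpenCover V hcov
  have hsepX : IsSeparated X.hom := IsSeparated.of_isAffineHom _
  let D := MonAct.eqvHom (subAct S M (Y.comap f)) a
  let d : ∀ i, D.obj (op (Over.mk (𝒰.f i ≫ T.hom))) := fun i => ⟨φV i, hφV i⟩
  have hcompat : ∀ i j, D.map (ovHom (pullback.fst (𝒰.f i) (𝒰.f j)) (𝒰.f i ≫ T.hom)).op (d i) =
      D.map (sndHom T.hom 𝒰 i j).op (d j) := by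
    intro (i : T.left) (j : T.left)
    apply Subtype.ext
    apply eq_of_ev_eq a (Y.comap f) _ _ (D.map _ (d i)).2 (D.map _ (d j)).2
    change ev ((AMonS S ↥(Y.comap f) ◁ (ovHom (pullback.fst (V i).ι (V j).ι) ((V i).ι ≫ T.hom))) ≫
      φV i) = ev ((AMonS S ↥(Y.comap f) ◁ (sndHom T.hom 𝒰 i j)) ≫ φV j)
    have hi : ev ((AMonS S ↥(Y.comap f) ◁
        (ovHom (pullback.fst (V i).ι (V j).ι) ((V i).ι ≫ T.hom))) ≫ φV i) =
        ovHom (pullback.fst (V i).ι (V j).ι) ((V i).ι ≫ T.hom) ≫ resι T (V i) ≫ ev ψ := by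
      rw [ev_whiskerLeft, hevV i]
    have hj : ev ((AMonS S ↥(Y.comap f) ◁ (sndHom T.hom 𝒰 i j)) ≫ φV j) =
        sndHom T.hom 𝒰 i j ≫ resι T (V j) ≫ ev ψ := by
      rw [ev_whiskerLeft]
      exact congrArg (sndHom T.hom 𝒰 i j ≫ ·) (hevV j)
    refine hi.trans (Eq.trans ?_ hj.symm)
    have hk : ovHom (pullback.fst (V i).ι (V j).ι) ((V i).ι ≫ T.hom) ≫ resι T (V i) =
        sndHom T.hom 𝒰 i j ≫ resι T (V j) := by
      ext : 1
      exact pullback.condition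
    exact (Category.assoc _ _ _).symm.trans
      ((congrArg (· ≫ ev ψ) hk).trans (Category.assoc _ _ _))
  obtain ⟨e, he⟩ := hglue (subAct S M (Y.comap f)) a T.left T.hom 𝒰 d hcompat
  refine ⟨e.1, e.2, ?_⟩
  refine (isZarCov_of_cover T.hom 𝒰).hom_ext (T := Over.mk T.hom) _ _ fun (i : T.left) => ?_
  have h1 := congrArg Subtype.val (he i)
  change (AMonS S ↥(Y.comap f) ◁ ovHom (V i).ι T.hom) ≫ e.1 = φV i at h1
  change ovHom (V i).ι T.hom ≫ ev e.1 = ovHom (V i).ι T.hom ≫ ev ψ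
  rw [← ev_whiskerLeft, h1, hevV i]
  rfl

omit [IsAffineHom X.hom] in
theorem ev_comap (T : Over S) (φ : AMonS S ↥(Y.comap f) ⊗ T ⟶ X) :
    ev ((AMonS.map S ((f.comp (Y.comap f).subtype).codRestrict Y (fun x => x.2)) ▷ T) ≫ φ) =
      ev φ := by
  change lift _ _ ≫ (_ ▷ T) ≫ φ = lift _ _ ≫ φ
  rw [lift_whiskerRight_assoc, Category.assoc, IsMonHom.one_hom]

theorem isIso_attrComap : IsIso (attrComap a f Y) := by
  have hsepX : IsSeparated X.hom := IsSeparated.of_isAffineHom _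
  have : ∀ T, IsIso ((attrComap a f Y).app T) := by
    intro T
    rw [isIso_iff_bijective]
    constructor
    · intro φ₁ φ₂ h
      apply Subtype.ext
      apply eq_of_ev_eq a (Y.comap f) φ₁.1 φ₂.1 φ₁.2 φ₂.2
      have h1 := congrArg (fun k => ev k.1) h
      simp only [attrComap_app_coe] at h1
      rw [ev_comap, ev_comap] at h1
      exact h1
    · intro ψ
      obtain ⟨φ, hφ1, hφ2⟩ := exists_global f Y a (unop T) ψ.1 ψ.2
      refine ⟨⟨φ, hφ1⟩, ?_⟩
      apply Subtype.ext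
      apply eq_of_ev_eq (a.restrict (AMonS.map S f)) Y _ _
        ((attrComap a f Y).app T ⟨φ, hφ1⟩).2 ψ.2
      rw [attrComap_app_coe, ev_comap]
      exact hφ2
  exact NatIso.isIso_of_isIso_app _

end loc

end Groth.Agent.Lib.Helper18.AttrGlob
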