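import Mathlib
import Groth.Prelude.Def_Magnet3
import Groth.Agent.Lib.Helper18.AttrGlob

set_option autoImplicit false
set_option linter.unusedSectionVars false
universe u

open CategoryTheory CategoryTheory.Limits MonoidalCategory CartesianMonoidalCategory MonObj
  AlgebraicGeometry Opposite
open Magnet

noncomputable section

open scoped Classical

namespace Groth.Agent.Lib.Helper18.AttrRep

open Groth.Agent.Lib.Helper18.MonPts Groth.Agent.Lib.Helper18.MonAff
  Groth.Agent.Lib.Helper18.AttrAff Groth.Agent.Lib.Helper18.AttrGlob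
  Groth.Agent.Lib.Helper5.AMonPts Groth.Agent.Lib.Helper5.AMonCoord Groth.Agent.Lib.Helper5.AMonAttr
  Groth.Agent.Lib.Helper5.AMonDom Groth.Agent.Lib.Helper18.EqvHomSheaf
  Groth.Agent.Lib.Helper18.RepOver

section affine

variable {U : Scheme.{u}} {M : Type} [AddCommMonoid M] (N : AddSubmonoid M)
  {A : Type u} [CommRing A] (sA : Spec (CommRingCat.of A) ⟶ U)
  (a : MonAct (AMonS U M) (Over.mk sA))

/-- vanishing of the non-magnet components at a point of the attractor (unrestricted action). -/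
theorem vanishing₀ {B : Type u} [CommRing B] (tB : Spec (CommRingCat.of B) ⟶ U)
    (ψ : AMonS U ↥N ⊗ Over.mk tB ⟶ Over.mk sA)
    (hψ : MonAct.IsEquivariant ((subAct U M N).prod (MonAct.trivial (AMonS U M) (Over.mk tB))) a ψ)
    (b₀ : A) (m : M) (hm : m ∉ N) :
    pre (ev ψ).left ((ρ sA a b₀).coeff (Multiplicative.ofAdd m)) = 0 := by
  have key := map_whisker_comp_eq a N ψ hψ
  have h1 : e₀ M (CommRingCat.of B) tB ≫ (AMonS.map U N.subtype ▷ Over.mk tB) ≫ ψ =
      e₀ M (CommRingCat.of B) tB ≫ (AMonS U M ◁ ev ψ) ≫ a.act := by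
    rw [key]
  rw [← Category.assoc, e₀_naturality, Category.assoc] at h1
  have h2 : (sE (CommRingCat.of B) tB N.subtype ≫ e₀ (↥N) (CommRingCat.of B) tB ≫ ψ).left =
      (e₀ M (CommRingCat.of B) tB ≫ (AMonS U M ◁ ev ψ) ≫ a.act).left :=
    congrArg (fun k => k.left) h1
  rw [orbit_left₀, Over.comp_left, sE_left] at h2
  set Ψ : A →+* MonoidAlgebra B (Multiplicative ↥N) :=
    pre (e₀ (↥N) (CommRingCat.of B) tB ≫ ψ).left with hΨ
  have h3 : (e₀ (↥N) (CommRingCat.of B) tB ≫ ψ).left = Spec.map (CommRingCat.ofHom Ψ) :=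
    (map_pre _).symm
  rw [h3, ← Spec.map_comp] at h2
  have h4 := Spec.map_injective h2
  set c := (ρ sA a b₀).coeff (Multiplicative.ofAdd m) with hc
  have h5 := congrArg (fun F => (F.hom c).coeff (Multiplicative.ofAdd m)) h4
  simp only [CommRingCat.hom_comp, CommRingCat.hom_ofHom, RingHom.comp_apply] at h5
  rw [hc, ρ_homog, φc_single] at h5
  rw [← hc] at h5
  have h6 : ((MonoidAlgebra.mapDomainRingHom B (AddMonoidHom.toMultiplicative N.subtype)) (Ψ c)).coeff
      (Multiplicative.ofAdd m) = 0 := by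
    change (Finsupp.mapDomain (AddMonoidHom.toMultiplicative N.subtype) (Ψ c).coeff)
      (Multiplicative.ofAdd m) = 0
    apply Finsupp.mapDomain_of_notMem_range
    rintro ⟨y, hy⟩
    apply hm
    have : ((Multiplicative.toAdd y : ↥N) : M) = m := congrArg Multiplicative.toAdd hy
    rw [← this]
    exact (Multiplicative.toAdd y).2
  rw [h6] at h5
  have h7 : ((ιA (A := B) (M := M)).comp (pre (ev ψ).left)) c *
      (MonoidAlgebra.of B (Multiplicative M)) (Multiplicative.ofAdd m) =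
      MonoidAlgebra.single (Multiplicative.ofAdd m) (pre (ev ψ).left c) := by
    change MonoidAlgebra.single 1 (pre (ev ψ).left c) *
      MonoidAlgebra.single (Multiplicative.ofAdd m) 1 = _
    rw [MonoidAlgebra.single_mul_single, _root_.one_mul, _root_.mul_one]
  rw [h7, MonoidAlgebra.coeff_single, Finsupp.single_apply, if_pos rfl] at h5
  exact h5.symm

theorem appTop_eq_zero_of_pre {A B : Type u} [CommRing A] [CommRing B]
    (h : Spec (CommRingCat.of B) ⟶ Spec (CommRingCat.of A)) (c : A) (hc : pre h c = 0) :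
    h.appTop ((Scheme.ΓSpecIso (CommRingCat.of A)).inv c) = 0 := by
  have h1 := Scheme.ΓSpecIso_naturality (CommRingCat.ofHom (pre h))
  rw [map_pre] at h1
  have h2 := congrArg (fun F => F.hom ((Scheme.ΓSpecIso (CommRingCat.of A)).inv c)) h1
  simp only [CommRingCat.hom_comp, RingHom.comp_apply] at h2
  have h3 : (Scheme.ΓSpecIso (CommRingCat.of A)).hom.hom
      ((Scheme.ΓSpecIso (CommRingCat.of A)).inv.hom c) = c := by
    change ((Scheme.ΓSpecIso (CommRingCat.of A)).inv ≫ (Scheme.ΓSpecIso (CommRingCat.of A)).hom).hom c = c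
    rw [Iso.inv_hom_id]
    rfl
  rw [h3] at h2
  change (Scheme.ΓSpecIso (CommRingCat.of B)).hom.hom (h.appTop.hom _) = pre h c at h2
  rw [hc] at h2
  have hinj : Function.Injective (Scheme.ΓSpecIso (CommRingCat.of B)).hom.hom := by
    intro p q hpq
    have := congrArg (Scheme.ΓSpecIso (CommRingCat.of B)).inv.hom hpq
    change ((Scheme.ΓSpecIso (CommRingCat.of B)).hom ≫ (Scheme.ΓSpecIso (CommRingCat.of B)).inv).hom p =
      ((Scheme.ΓSpecIso (CommRingCat.of B)).hom ≫ (Scheme.ΓSpecIso (CommRingCat.of B)).inv).hom q at this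
    rw [Iso.hom_inv_id] at this
    exact this
  apply hinj
  rw [map_zero]
  exact h2

/-- the ideal generated by the components of degree outside `N`. -/
def IN : Ideal A :=
  Ideal.span {c | ∃ (b : A) (m : M), m ∉ N ∧ c = (ρ sA a b).coeff (Multiplicative.ofAdd m)}

abbrev tZ : Spec (CommRingCat.of (A ⧸ IN N sA a)) ⟶ U :=
  Spec.map (CommRingCat.ofHom (Ideal.Quotient.mk (IN N sA a))) ≫ sA

abbrev zloc : Over.mk (tZ N sA a) ⟶ Over.mk sA :=
  Over.homMk (Spec.map (CommRingCat.ofHom (Ideal.Quotient.mk (IN N sA a)))) rfl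

theorem hvan_zloc (b : A) (m : M) (hm : m ∉ N) :
    pre (zloc N sA a).left ((ρ sA a b).coeff (Multiplicative.ofAdd m)) = 0 := by
  change pre (Spec.map (CommRingCat.ofHom (Ideal.Quotient.mk (IN N sA a)))) _ = 0
  rw [pre_map]
  exact Ideal.Quotient.eq_zero_iff_mem.mpr (Ideal.subset_span ⟨b, m, hm, rfl⟩)

/-- every point of the attractor factors through `zloc`. -/
theorem fac_loc (T : Over U) (φ : AMonS U ↥N ⊗ T ⟶ Over.mk sA)
    (hφ : MonAct.IsEquivariant ((subAct U M N).prod (MonAct.trivial (AMonS U M) T)) a φ) :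
    ∃ z : T ⟶ Over.mk (tZ N sA a), z ≫ zloc N sA a = ev φ := by
  let g : T.left ⟶ Spec (CommRingCat.of A) := (ev φ).left
  let α : CommRingCat.of A ⟶ Γ(T.left, ⊤) := (Scheme.ΓSpecIso (CommRingCat.of A)).inv ≫ g.appTop
  have hg : g = T.left.toSpecΓ ≫ Spec.map α := by
    have h1 := Scheme.toSpecΓ_naturality g
    have h2 : g = (g ≫ (Spec (CommRingCat.of A)).toSpecΓ) ≫
        Spec.map (Scheme.ΓSpecIso (CommRingCat.of A)).inv := by
      rw [Category.assoc, toSpecΓ_SpecMap_ΓSpecIso_inv, Category.comp_id]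
    rw [h2, h1, Category.assoc, ← Spec.map_comp]
  have hker : ∀ c ∈ IN N sA a, α.hom c = 0 := by
    intro c hc
    have hle : IN N sA a ≤ RingHom.ker α.hom := by
      unfold IN
      rw [Ideal.span_le]
      rintro _ ⟨b, m, hm, rfl⟩
      rw [SetLike.mem_coe, RingHom.mem_ker]
      apply Scheme.zero_of_zero_cover _ T.left.affineCover
      intro i
      let q : Over.mk (T.left.affineCover.f i ≫ T.hom) ⟶ T := ovHom (T.left.affineCover.f i) T.hom
      let φi : (MonAct.eqvHom (subAct U M N) a).obj (op (Over.mk (T.left.affineCover.f i ≫ T.hom))) :=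
        (MonAct.eqvHom (subAct U M N) a).map q.op ⟨φ, hφ⟩
      have h0 := vanishing₀ N sA a _ φi.1 φi.2 b m hm
      have h2 : ev φi.1 = q ≫ ev φ := ev_whiskerLeft q φ
      have h1 : pre (q ≫ ev φ).left ((ρ sA a b).coeff (Multiplicative.ofAdd m)) = 0 := by
        have h2' : (ev φi.1).left = (q ≫ ev φ).left := congrArg (fun k => k.left) h2
        exact (congrArg (fun k => pre k ((ρ sA a b).coeff (Multiplicative.ofAdd m))) h2').symm.trans h0
      have h3 := appTop_eq_zero_of_pre (q ≫ ev φ).left _ h1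
      rw [Over.comp_left, Scheme.Hom.comp_appTop] at h3
      exact h3
    exact hle hc
  let ᾱ : A ⧸ IN N sA a →+* Γ(T.left, ⊤) := Ideal.Quotient.lift (IN N sA a) α.hom hker
  have hᾱ : CommRingCat.ofHom (Ideal.Quotient.mk (IN N sA a)) ≫ CommRingCat.ofHom ᾱ = α := by
    refine CommRingCat.hom_ext (RingHom.ext fun c => ?_)
    rfl
  let z₀ : T.left ⟶ Spec (CommRingCat.of (A ⧸ IN N sA a)) :=
    T.left.toSpecΓ ≫ Spec.map (CommRingCat.ofHom ᾱ)
  have hz₀ : z₀ ≫ Spec.map (CommRingCat.ofHom (Ideal.Quotient.mk (IN N sA a))) = g := by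
    rw [hg, Category.assoc, ← Spec.map_comp, hᾱ]
  have hw : z₀ ≫ (Over.mk (tZ N sA a)).hom = T.hom := by
    change z₀ ≫ Spec.map _ ≫ sA = T.hom
    rw [← Category.assoc, hz₀]
    exact Over.w (ev φ)
  refine ⟨Over.homMk z₀ hw, ?_⟩
  ext : 1
  exact hz₀

end affine

section glob

variable {S : Scheme.{u}} {M : Type} [AddCommMonoid M] (N : AddSubmonoid M)
  {X : Over S} [IsAffineHom X.hom] (a : MonAct (AMonS S M) X)

omit [IsAffineHom X.hom] in
theorem ev_comp {T X' : Over S} (φ : AMonS S ↥N ⊗ T ⟶ X') (j : X' ⟶ X) :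
    ev (φ ≫ j) = ev φ ≫ j := by
  change lift _ _ ≫ φ ≫ j = (lift _ _ ≫ φ) ≫ j
  rw [Category.assoc]

theorem exists_loc (W : S.Opens) (hW : IsAffineOpen W) :
    ∃ (ZW : Over S) (iW : ZW ⟶ X) (dW : (attr a N).obj (op ZW)),
      Mono iW ∧ ev dW.1 = iW ∧ (∀ z : ZW.left, ZW.hom z ∈ W) ∧
      (∃ c : ZW.left ⟶ ((X.hom ⁻¹ᵁ W : X.left.Opens) : Scheme.{u}),
        IsClosedImmersion c ∧ c ≫ (X.hom ⁻¹ᵁ W).ι = iW.left) ∧
      (∀ (T : Over S), (∀ t : T.left, T.hom t ∈ W) → ∀ d : (attr a N).obj (op T),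
        ∃ z : T ⟶ ZW, (attr a N).map z.op dW = d) := by
  have hsepX : IsSeparated X.hom := IsSeparated.of_isAffineHom _
  have hXW : IsAffineOpen (X.hom ⁻¹ᵁ W) := hW.preimage X.hom
  let sA : Spec (CommRingCat.of Γ(X.left, X.hom ⁻¹ᵁ W)) ⟶ S := hXW.fromSpec ≫ X.hom
  let j : Over.mk sA ⟶ X := Over.homMk hXW.fromSpec rfl
  have hjo : IsOpenImmersion j.left := (inferInstance : IsOpenImmersion hXW.fromSpec)
  have hjm : Mono j := mono_of_open j
  have hjr : Set.range j.left = X.hom ⁻¹' (W : Set S) := hXW.range_fromSpec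
  let σ : Γ(S, W) →+* Γ(X.left, X.hom ⁻¹ᵁ W) := (X.hom.appLE W (X.hom ⁻¹ᵁ W) le_rfl).hom
  have hsA : sA = Spec.map (CommRingCat.ofHom σ) ≫ hW.fromSpec :=
    (IsAffineOpen.SpecMap_appLE_fromSpec X.hom hW hXW le_rfl).symm
  have hP1 : ∀ z : (AMonS S M ⊗ Over.mk sA).left, (AMonS S M ⊗ Over.mk sA).hom z ∈ W := by
    intro z
    rw [← Over.w (snd (AMonS S M) (Over.mk sA)), Scheme.Hom.comp_apply]
    exact hom_mem j W hjr _
  obtain ⟨act', hact'⟩ := exists_factor j W hjr hP1 ((AMonS S M ◁ j) ≫ a.act)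
  let a' : MonAct (AMonS S M) (Over.mk sA) := DiagTriv.actOfMono a j act' hact'
  have ha' : ∀ {T' : Over S} (g : T' ⟶ AMonS S M) (x' : T' ⟶ Over.mk sA),
      lift g x' ≫ a'.act ≫ j = lift g (x' ≫ j) ≫ a.act := by
    intro T' g x'
    change lift g x' ≫ act' ≫ j = _
    rw [hact', lift_whiskerLeft_assoc]
  have hcomp : ∀ {T : Over S} (φ' : AMonS S ↥N ⊗ T ⟶ Over.mk sA),
      MonAct.IsEquivariant ((subAct S M N).prod (MonAct.trivial (AMonS S M) T)) a' φ' →
      MonAct.IsEquivariant ((subAct S M N).prod (MonAct.trivial (AMonS S M) T)) a (φ' ≫ j) := by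
    intro T φ' h
    rw [MonAct.mem_eqvHom_iff]
    intro T' g b t
    have h1 := (MonAct.mem_eqvHom_iff φ').mp h T' g b t
    rw [← Category.assoc, h1, Category.assoc, ha', Category.assoc]
  let ZW : Over S := Over.mk (tZ N sA a')
  let dloc : AMonS S ↥N ⊗ ZW ⟶ Over.mk sA :=
    φN sA a' (tZ N sA a') N (zloc N sA a') (hvan_zloc N sA a') hW.fromSpec σ hsA
  have horb := φN_orbit sA a' (tZ N sA a') N (zloc N sA a') (hvan_zloc N sA a') hW.fromSpec σ hsA
  have hdeq := eqv_of_orbit sA a' (tZ N sA a') N (zloc N sA a') dloc horb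
  have hdev : ev dloc = zloc N sA a' := ev_of_orbit sA a' (tZ N sA a') N (zloc N sA a') dloc horb
  have hzm : Mono (zloc N sA a') := by
    have : Mono (zloc N sA a').left := by
      change Mono (Spec.map (CommRingCat.ofHom (Ideal.Quotient.mk (IN N sA a'))))
      have : IsClosedImmersion (Spec.map (CommRingCat.ofHom (Ideal.Quotient.mk (IN N sA a')))) :=
        IsClosedImmersion.spec_of_surjective _ Ideal.Quotient.mk_surjective
      infer_instance
    exact Over.mono_of_mono_left _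
  refine ⟨ZW, zloc N sA a' ≫ j, ⟨dloc ≫ j, hcomp dloc hdeq⟩, mono_comp _ _, ?_, ?_, ?_, ?_⟩
  · change ev (dloc ≫ j) = _
    rw [ev_comp, hdev]
  · intro z
    rw [← Over.w (zloc N sA a'), Scheme.Hom.comp_apply]
    exact hom_mem j W hjr _
  · have hci : IsClosedImmersion (Spec.map (CommRingCat.ofHom (Ideal.Quotient.mk (IN N sA a')))) :=
      IsClosedImmersion.spec_of_surjective _ Ideal.Quotient.mk_surjective
    refine ⟨Spec.map (CommRingCat.ofHom (Ideal.Quotient.mk (IN N sA a'))) ≫ hXW.isoSpec.inv,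
      inferInstance, ?_⟩
    rw [Category.assoc, hXW.isoSpec_inv_ι]
    rfl
  · intro T hT d
    have hP2 : ∀ z : (AMonS S ↥N ⊗ T).left, (AMonS S ↥N ⊗ T).hom z ∈ W := by
      intro z
      rw [← Over.w (snd (AMonS S ↥N) T), Scheme.Hom.comp_apply]
      exact hT _
    obtain ⟨φ', hφ'⟩ := exists_factor j W hjr hP2 d.1
    have hφeq : MonAct.IsEquivariant ((subAct S M N).prod (MonAct.trivial (AMonS S M) T)) a' φ' := by
      rw [MonAct.mem_eqvHom_iff]
      intro T' g b t
      rw [← cancel_mono j, Category.assoc, hφ', Category.assoc, ha', Category.assoc, hφ']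
      exact (MonAct.mem_eqvHom_iff d.1).mp d.2 T' g b t
    obtain ⟨z, hz⟩ := fac_loc N sA a' T φ' hφeq
    refine ⟨z, ?_⟩
    apply Subtype.ext
    apply eq_of_ev_eq a N _ _ ((attr a N).map z.op ⟨dloc ≫ j, hcomp dloc hdeq⟩).2 d.2
    change ev ((AMonS S ↥N ◁ z) ≫ dloc ≫ j) = ev d.1
    rw [ev_whiskerLeft, ev_comp, hdev, ← Category.assoc, hz, ← ev_comp, hφ']

omit [IsAffineHom X.hom] in
theorem ev_map {T T' : Over S} (z : T' ⟶ T) (d : (attr a N).obj (op T)) :
    ev ((attr a N).map z.op d).1 = z ≫ ev d.1 :=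
  ev_whiskerLeft z d.1

theorem exists_rep : ∃ (Z : Over S) (i : Z ⟶ X) (e : (attr a N).RepresentableBy Z),
    IsClosedImmersion i.left ∧
      ∀ (T : Over S) (z : T ⟶ Z), (attrToX a N).app (op T) (e.homEquiv z) = z ≫ i := by
  have hsepX : IsSeparated X.hom := IsSeparated.of_isAffineHom _
  choose ZW iW dW hmonoW hevW hlandW hcW hfacW using
    fun (W : S.affineOpens) => exists_loc N a W.1 W.2
  let D := attr a N
  have hmono : ∀ (W : S.affineOpens) (T : Over S) (z z' : T ⟶ ZW W),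
      D.map z.op (dW W) = D.map z'.op (dW W) → z = z' := by
    intro W T z z' h
    have h1 := congrArg (fun k => ev k.1) h
    simp only at h1
    rw [ev_map, ev_map, hevW] at h1
    have := hmonoW W
    exact (cancel_mono (iW W)).mp h1
  have hrep : ∃ Z : Over S, Nonempty (D.RepresentableBy Z) := by
    apply representable_of_local' (D := D) ZW dW (hsep _ _) (hglue _ _) hmono
      (fun W T _ => T.hom ⁻¹ᵁ W.1)
    · intro W T d
      exact hfacW W (resOv T (T.hom ⁻¹ᵁ W.1)) (fun t => t.2) (D.map (resι T (T.hom ⁻¹ᵁ W.1)).op d)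
    · intro W T d W' w a' _ x
      change T.hom (w.left x) ∈ W.1
      rw [← Scheme.Hom.comp_apply, Over.w w, ← Over.w a', Scheme.Hom.comp_apply]
      exact hlandW W _
    · intro T d t
      obtain ⟨W, hW, htW, -⟩ := exists_isAffineOpen_mem_and_subset (x := T.hom t) (U := ⊤) trivial
      exact ⟨⟨W, hW⟩, htW⟩
  obtain ⟨Z, ⟨e⟩⟩ := hrep
  let univ : D.obj (op Z) := e.homEquiv (𝟙 Z)
  let i : Z ⟶ X := ev univ.1
  have hcompat : ∀ (T : Over S) (z : T ⟶ Z), ev (e.homEquiv z).1 = z ≫ i := by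
    intro T z
    have h1 : e.homEquiv z = D.map z.op univ := by
      rw [← e.homEquiv_comp, Category.comp_id]
    rw [h1]
    exact ev_map N a z univ
  refine ⟨Z, i, e, ?_, hcompat⟩
  -- closed immersion, locally on the target
  have hU : (⨆ W : S.affineOpens, X.hom ⁻¹ᵁ W.1) = ⊤ := by
    rw [eq_top_iff]
    intro x _
    obtain ⟨W, hW, hxW, -⟩ := exists_isAffineOpen_mem_and_subset (x := X.hom x) (U := ⊤) trivial
    exact TopologicalSpace.Opens.mem_iSup.mpr ⟨⟨W, hW⟩, hxW⟩
  apply IsZariskiLocalAtTarget.of_iSup_eq_top (P := @IsClosedImmersion)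
    (fun W : S.affineOpens => X.hom ⁻¹ᵁ W.1) hU
  intro W
  let O : Z.left.Opens := i.left ⁻¹ᵁ (X.hom ⁻¹ᵁ W.1)
  have hO : ∀ t : (resOv Z O).left, (resOv Z O).hom t ∈ W.1 := by
    intro t
    change (O.ι ≫ Z.hom) t ∈ W.1
    rw [← Over.w i, Scheme.Hom.comp_apply, Scheme.Hom.comp_apply]
    exact t.2
  let uW : ZW W ⟶ Z := e.homEquiv.symm (dW W)
  have huW : e.homEquiv uW = dW W := e.homEquiv.apply_symm_apply _
  have huWi : uW ≫ i = iW W := by
    rw [← hcompat, huW, hevW]
  obtain ⟨v, hv⟩ := hfacW W (resOv Z O) hO (D.map (resι Z O).op univ)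
  have hvu : v ≫ uW = resι Z O := by
    apply e.homEquiv.injective
    rw [e.homEquiv_comp, huW, hv, ← e.homEquiv_comp, Category.comp_id]
  have hjr : Set.range (resι Z O).left = Z.hom ⁻¹' (W.1 : Set S) := by
    change Set.range O.ι = _
    rw [Scheme.Opens.range_ι]
    ext t
    change i.left t ∈ X.hom ⁻¹ᵁ W.1 ↔ Z.hom t ∈ W.1
    rw [← Over.w i, Scheme.Hom.comp_apply]
    rfl
  have hjo : IsOpenImmersion (resι Z O).left := (inferInstance : IsOpenImmersion O.ι)
  obtain ⟨u', hu'⟩ := exists_factor (resι Z O) W.1 hjr (hlandW W) uW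
  have hmres : Mono (resι Z O) := mono_of_open _
  have h1 : u' ≫ v = 𝟙 _ := by
    apply hmono W
    rw [op_comp, Functor.map_comp]
    change D.map u'.op (D.map v.op (dW W)) = _
    rw [hv]
    change (D.map (resι Z O).op ≫ D.map u'.op) univ = _
    rw [← Functor.map_comp, ← op_comp, hu']
    change D.map uW.op (e.homEquiv (𝟙 Z)) = _
    rw [← e.homEquiv_comp, Category.comp_id, huW, op_id]
    exact (FunctorToTypes.map_id_apply D (dW W)).symm
  have h2 : v ≫ u' = 𝟙 _ := by
    rw [← cancel_mono (resι Z O), Category.assoc, hu', hvu, Category.id_comp]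
  have hiso : IsIso u' := ⟨v, h1, h2⟩
  have hisol : IsIso u'.left := by
    change IsIso ((Over.forget S).map u')
    infer_instance
  obtain ⟨c, hc, hcι⟩ := hcW W
  have hkey : u'.left ≫ (i.left ∣_ (X.hom ⁻¹ᵁ W.1)) = c := by
    rw [← cancel_mono (X.hom ⁻¹ᵁ W.1).ι, Category.assoc, morphismRestrict_ι, hcι]
    have h3 : u' ≫ resι Z O ≫ i = iW W := by rw [← Category.assoc, hu', huWi]
    exact congrArg (fun k => k.left) h3
  rw [← hkey] at hc
  exact (MorphismProperty.cancel_left_of_respectsIso @IsClosedImmersion u'.left _).mp hc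

end glob

end Groth.Agent.Lib.Helper18.AttrRep
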