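import Mathlib
import Groth.Prelude.Def_Magnet3
import Groth.Agent.Lib.Helper18.AttrRep

set_option autoImplicit false
set_option linter.unusedSectionVars false
universe u

open CategoryTheory CategoryTheory.Limits MonoidalCategory CartesianMonoidalCategory MonObj
  AlgebraicGeometry Opposite
open Magnet

noncomputable section

open scoped Classical

namespace Groth.Agent.Lib.Helper18.AttrPure

open Groth.Agent.Lib.Helper18.MonPts Groth.Agent.Lib.Helper18.MonAff
  Groth.Agent.Lib.Helper18.AttrAff Groth.Agent.Lib.Helper18.AttrGlob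
  Groth.Agent.Lib.Helper18.AttrRep
  Groth.Agent.Lib.Helper5.AMonPts Groth.Agent.Lib.Helper5.AMonCoord Groth.Agent.Lib.Helper5.AMonAttr
  Groth.Agent.Lib.Helper5.AMonDom Groth.Agent.Lib.Helper18.EqvHomSheaf
  Groth.Agent.Lib.Helper18.RepOver

section affine

variable {U : Scheme.{u}} {M : Type} [AddCommMonoid M] (N N' : AddSubmonoid M)
  {A : Type u} [CommRing A] (sA : Spec (CommRingCat.of A) ⟶ U)
  (a : MonAct (AMonS U M) (Over.mk sA))
  {B : Type u} [CommRing B] (tB : Spec (CommRingCat.of B) ⟶ U)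
  (x : Over.mk tB ⟶ Over.mk sA)
  {R : Type u} [CommRing R] (r₀ : Spec (CommRingCat.of R) ⟶ U) [Mono r₀] (σ : R →+* A)
  (hsA : sA = Spec.map (CommRingCat.ofHom σ) ≫ r₀)

include hsA in
theorem Θ_lin (r : R) : Θ sA a tB x (σ r) = MonoidAlgebra.single 1 (pre x.left (σ r)) := by
  change φc ((ιA (A := B) (M := M)).comp (pre x.left)) (MonoidAlgebra.of B (Multiplicative M))
    (ρ sA a (σ r)) = _
  rw [ρ_lin sA a r₀ σ hsA, φc_single]
  change MonoidAlgebra.single 1 (pre x.left (σ r)) * MonoidAlgebra.single 1 1 = _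
  rw [MonoidAlgebra.single_mul_single, _root_.one_mul, _root_.mul_one]

include hsA in
/-- the vanishing condition for `N` implies the one for `N'` when `N'` contains the degrees in `N`
of a finite set of algebra generators. -/
theorem hvan_of_gen (s : Set A) (hs : Subring.closure (Set.range σ ∪ s) = ⊤)
    (D : Set M) (hD : ∀ b ∈ s, ∀ m : M, (ρ sA a b).coeff (Multiplicative.ofAdd m) ≠ 0 → m ∈ D)
    (hDN : ∀ d ∈ D, d ∈ N → d ∈ N')
    (hvan : ∀ (b : A) (m : M), m ∉ N → pre x.left ((ρ sA a b).coeff (Multiplicative.ofAdd m)) = 0)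
    (b : A) (m : M) (hm : m ∉ N') :
    pre x.left ((ρ sA a b).coeff (Multiplicative.ofAdd m)) = 0 := by
  let K : Subring A := (MonoidAlgebra.mapDomainRingHom B (jN N')).range.comap (Θ sA a tB x)
  have hK : ∀ b : A, b ∈ K := by
    have hle : Subring.closure (Set.range σ ∪ s) ≤ K := by
      rw [Subring.closure_le]
      rintro c (⟨r, rfl⟩ | hc)
      · change Θ sA a tB x (σ r) ∈ (MonoidAlgebra.mapDomainRingHom B (jN N')).range
        rw [Θ_lin sA a tB x r₀ σ hsA]
        refine ⟨MonoidAlgebra.single 1 (pre x.left (σ r)), ?_⟩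
        change MonoidAlgebra.mapDomain (jN N') (MonoidAlgebra.single 1 (pre x.left (σ r))) = _
        rw [MonoidAlgebra.mapDomain_single, map_one]
      · change Θ sA a tB x c ∈ (MonoidAlgebra.mapDomainRingHom B (jN N')).range
        have hsupp : ↑(Θ sA a tB x c).coeff.support ⊆ Set.range (jN N') := by
          intro m' hm'
          rw [Finset.mem_coe, Finsupp.mem_support_iff] at hm'
          have h1 : (Θ sA a tB x c).coeff m' = pre x.left ((ρ sA a c).coeff m') :=
            cf_φc_of (pre x.left) m' (ρ sA a c)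
          rw [h1] at hm'
          by_contra hr
          have h2 : Multiplicative.toAdd m' ∉ N' := by
            intro hmem
            exact hr ⟨Multiplicative.ofAdd ⟨Multiplicative.toAdd m', hmem⟩, rfl⟩
          have h3 : (ρ sA a c).coeff m' ≠ 0 := by
            intro h0
            rw [h0, map_zero] at hm'
            exact hm' rfl
          have h4 : Multiplicative.toAdd m' ∈ D := hD c hc (Multiplicative.toAdd m') h3
          have h5 : Multiplicative.toAdd m' ∉ N := fun h => h2 (hDN _ h4 h)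
          exact hm' (hvan c (Multiplicative.toAdd m') h5)
        exact ⟨MonoidAlgebra.comapDomain (jN N') (jN_injective N') (Θ sA a tB x c),
          MonoidAlgebra.mapDomain_comapDomain hsupp (jN_injective N')⟩
    intro b
    have : b ∈ Subring.closure (Set.range σ ∪ s) := by rw [hs]; trivial
    exact hle this
  obtain ⟨y, hy⟩ := hK b
  have h1 : (Θ sA a tB x b).coeff (Multiplicative.ofAdd m) =
      pre x.left ((ρ sA a b).coeff (Multiplicative.ofAdd m)) :=
    cf_φc_of (pre x.left) (Multiplicative.ofAdd m) (ρ sA a b)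
  rw [← h1, ← hy]
  change (Finsupp.mapDomain (jN N') y.coeff) (Multiplicative.ofAdd m) = 0
  apply Finsupp.mapDomain_of_notMem_range
  rintro ⟨n, hn⟩
  apply hm
  have : ((Multiplicative.toAdd n : ↥N') : M) = m := congrArg Multiplicative.toAdd hn
  rw [← this]
  exact (Multiplicative.toAdd n).2

end affine

theorem exists_gens {R A : Type u} [CommRing R] [CommRing A] (σ : R →+* A) (hσ : σ.FiniteType) :
    ∃ s : Finset A, Subring.closure (Set.range σ ∪ (s : Set A)) = ⊤ := by
  letI := σ.toAlgebra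
  have h : Algebra.FiniteType R A := hσ
  obtain ⟨s, hs⟩ := h.out
  refine ⟨s, ?_⟩
  have h1 := Algebra.adjoin_eq_ring_closure (R := R) (s : Set A)
  rw [hs] at h1
  have h2 : Subring.closure (Set.range σ ∪ (s : Set A)) = (⊤ : Subalgebra R A).toSubring := h1.symm
  rw [h2]
  rfl


section glob

variable {S : Scheme.{u}} {M : Type} [AddCommMonoid M]
  {X : Over S} (a : MonAct (AMonS S M) X)

theorem exists_degrees_aux (W : S.Opens) {A : Type u} [CommRing A]
    (sA : Spec (CommRingCat.of A) ⟶ S)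
    (j : Over.mk sA ⟶ X) [IsOpenImmersion j.left] (hjr : Set.range j.left = X.hom ⁻¹' (W : Set S))
    {R : Type u} [CommRing R] (r₀ : Spec (CommRingCat.of R) ⟶ S) [Mono r₀] (σ : R →+* A)
    (hsA : sA = Spec.map (CommRingCat.ofHom σ) ≫ r₀) (hσ : σ.FiniteType) :
    ∃ D : Set M, D.Finite ∧ ∀ (N N' : AddSubmonoid M), (∀ d ∈ D, d ∈ N → d ∈ N') →
      ∀ {B : Type u} [CommRing B] (tB : Spec (CommRingCat.of B) ⟶ S), (∀ z, tB z ∈ W) →
      ∀ φ : AMonS S ↥N ⊗ Over.mk tB ⟶ X,
        MonAct.IsEquivariant ((subAct S M N).prod (MonAct.trivial (AMonS S M) (Over.mk tB))) a φ →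
        ∃ φ' : AMonS S ↥N' ⊗ Over.mk tB ⟶ X,
          MonAct.IsEquivariant ((subAct S M N').prod (MonAct.trivial (AMonS S M) (Over.mk tB)))
            a φ' ∧ ev φ' = ev φ := by
  have hjm : Mono j := mono_of_open j
  obtain ⟨s, hs⟩ := exists_gens σ hσ
  have hP1 : ∀ z : (AMonS S M ⊗ Over.mk sA).left, (AMonS S M ⊗ Over.mk sA).hom z ∈ W := by
    intro z
    rw [← Over.w (snd (AMonS S M) (Over.mk sA)), Scheme.Hom.comp_apply]
    exact hom_mem j W hjr _
  obtain ⟨act', hact'⟩ := exists_factor j W hjr hP1 ((AMonS S M ◁ j) ≫ a.act)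
  obtain ⟨a', ha'⟩ : ∃ a' : MonAct (AMonS S M) (Over.mk sA),
      ∀ {T' : Over S} (g : T' ⟶ AMonS S M) (x' : T' ⟶ Over.mk sA),
      lift g x' ≫ a'.act ≫ j = lift g (x' ≫ j) ≫ a.act := by
    refine ⟨DiagTriv.actOfMono a j act' hact', ?_⟩
    intro T' g x'
    change lift g x' ≫ act' ≫ j = _
    rw [hact', lift_whiskerLeft_assoc]
  let D : Set M := {m | ∃ b ∈ s, (ρ sA a' b).coeff (Multiplicative.ofAdd m) ≠ 0}
  have hDfin : D.Finite := by
    have h1 : D ⊆ ⋃ b ∈ (s : Set _), Multiplicative.toAdd '' ((ρ sA a' b).coeff.support : Set _) := by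
      rintro m ⟨b, hb, hm⟩
      refine Set.mem_biUnion hb ⟨Multiplicative.ofAdd m, ?_, rfl⟩
      rw [Finset.mem_coe, Finsupp.mem_support_iff]
      exact hm
    refine Set.Finite.subset ?_ h1
    exact Set.Finite.biUnion s.finite_toSet (fun b _ => (Finset.finite_toSet _).image _)
  refine ⟨D, hDfin, ?_⟩
  intro N N' hDN B _ tB htB φ hφ
  have hP2 : ∀ z : (AMonS S ↥N ⊗ Over.mk tB).left, (AMonS S ↥N ⊗ Over.mk tB).hom z ∈ W := by
    intro z
    rw [← Over.w (snd (AMonS S ↥N) (Over.mk tB)), Scheme.Hom.comp_apply]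
    exact htB _
  obtain ⟨φ'', hφ''⟩ := exists_factor j W hjr hP2 φ
  have hφeq : MonAct.IsEquivariant
      ((subAct S M N).prod (MonAct.trivial (AMonS S M) (Over.mk tB))) a' φ'' := by
    rw [MonAct.mem_eqvHom_iff]
    intro T' g b t
    rw [← cancel_mono j, Category.assoc, hφ'', Category.assoc, ha', Category.assoc, hφ'']
    exact (MonAct.mem_eqvHom_iff φ).mp hφ T' g b t
  have hvan : ∀ (b : A) (m : M), m ∉ N →
      pre (ev φ'').left ((ρ sA a' b).coeff (Multiplicative.ofAdd m)) = 0 :=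
    fun b m hm => vanishing₀ N sA a' tB φ'' hφeq b m hm
  have hD : ∀ b ∈ (s : Set A), ∀ m : M, (ρ sA a' b).coeff (Multiplicative.ofAdd m) ≠ 0 → m ∈ D :=
    fun b hb m hm => ⟨b, hb, hm⟩
  have hvan' : ∀ (b : A) (m : M), m ∉ N' →
      pre (ev φ'').left ((ρ sA a' b).coeff (Multiplicative.ofAdd m)) = 0 :=
    hvan_of_gen N N' sA a' tB (ev φ'') r₀ σ hsA (s : Set A) hs D hD hDN hvan
  have horb := φN_orbit sA a' tB N' (ev φ'') hvan' r₀ σ hsA
  have hdeq := eqv_of_orbit sA a' tB N' (ev φ'') _ horb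
  have hdev := ev_of_orbit sA a' tB N' (ev φ'') _ horb
  refine ⟨φN sA a' tB N' (ev φ'') hvan' r₀ σ hsA ≫ j, ?_, ?_⟩
  · rw [MonAct.mem_eqvHom_iff]
    intro T' g b t
    have h1 := (MonAct.mem_eqvHom_iff _).mp hdeq T' g b t
    rw [← Category.assoc, h1, Category.assoc, ha', Category.assoc]
  · rw [ev_comp, hdev, ← ev_comp, hφ'']

variable [IsAffineHom X.hom] [LocallyOfFinitePresentation X.hom]

theorem fin_appLE (W : S.Opens) (hW : IsAffineOpen W) (hXW : IsAffineOpen (X.hom ⁻¹ᵁ W)) :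
    (X.hom.appLE W (X.hom ⁻¹ᵁ W) le_rfl).hom.FiniteType := by
  have h1 := HasRingHomProperty.appLE (P := @LocallyOfFinitePresentation) X.hom inferInstance
      ⟨W, hW⟩ ⟨X.hom ⁻¹ᵁ W, hXW⟩ le_rfl
  exact RingHom.FiniteType.of_finitePresentation h1

theorem exists_degrees (W : S.Opens) (hW : IsAffineOpen W) :
    ∃ D : Set M, D.Finite ∧ ∀ (N N' : AddSubmonoid M), (∀ d ∈ D, d ∈ N → d ∈ N') →
      ∀ {B : Type u} [CommRing B] (tB : Spec (CommRingCat.of B) ⟶ S), (∀ z, tB z ∈ W) →
      ∀ φ : AMonS S ↥N ⊗ Over.mk tB ⟶ X,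
        MonAct.IsEquivariant ((subAct S M N).prod (MonAct.trivial (AMonS S M) (Over.mk tB))) a φ →
        ∃ φ' : AMonS S ↥N' ⊗ Over.mk tB ⟶ X,
          MonAct.IsEquivariant ((subAct S M N').prod (MonAct.trivial (AMonS S M) (Over.mk tB)))
            a φ' ∧ ev φ' = ev φ := by
  have hXW : IsAffineOpen (X.hom ⁻¹ᵁ W) := hW.preimage X.hom
  have hjo : IsOpenImmersion (Over.homMk (U := Over.mk (hXW.fromSpec ≫ X.hom)) (V := X)
      hXW.fromSpec rfl).left := (inferInstance : IsOpenImmersion hXW.fromSpec)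
  exact exists_degrees_aux a W (hXW.fromSpec ≫ X.hom)
    (Over.homMk (U := Over.mk (hXW.fromSpec ≫ X.hom)) (V := X) hXW.fromSpec rfl)
    hXW.range_fromSpec hW.fromSpec (X.hom.appLE W (X.hom ⁻¹ᵁ W) le_rfl).hom
    (IsAffineOpen.SpecMap_appLE_fromSpec X.hom hW hXW le_rfl).symm (fin_appLE W hW hXW)

end glob


end Groth.Agent.Lib.Helper18.AttrPure
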