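import Mathlib
import Groth.Prelude.Def_Magnet3
import Groth.Agent.Lib.Helper18.AttrPure

set_option autoImplicit false
set_option linter.unusedSectionVars false
universe u

open CategoryTheory CategoryTheory.Limits MonoidalCategory CartesianMonoidalCategory MonObj
  AlgebraicGeometry Opposite
open Magnet

noncomputable section

open scoped Classical

namespace Groth.Agent.Lib.Helper18.AttrPureFin

open Groth.Agent.Lib.Helper18.MonPts Groth.Agent.Lib.Helper18.MonAff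
  Groth.Agent.Lib.Helper18.AttrAff Groth.Agent.Lib.Helper18.AttrGlob
  Groth.Agent.Lib.Helper18.AttrRep Groth.Agent.Lib.Helper18.AttrPure
  Groth.Agent.Lib.Helper5.AMonPts Groth.Agent.Lib.Helper5.AMonCoord Groth.Agent.Lib.Helper5.AMonAttr
  Groth.Agent.Lib.Helper5.AMonDom Groth.Agent.Lib.Helper18.EqvHomSheaf
  Groth.Agent.Lib.Helper18.RepOver

section glob

variable {S : Scheme.{u}} {M : Type} [AddCommMonoid M]
  {X : Over S} (a : MonAct (AMonS S M) X)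

abbrev Eqv (N : AddSubmonoid M) (T : Over S) (φ : AMonS S ↥N ⊗ T ⟶ X) : Prop :=
  MonAct.IsEquivariant ((subAct S M N).prod (MonAct.trivial (AMonS S M) T)) a φ

/-- the finite set `D` of degrees controls lifting of attractor points over `W`. -/
def DegOK (W : S.Opens) (D : Set M) : Prop :=
  ∀ (N N' : AddSubmonoid M), (∀ d ∈ D, d ∈ N → d ∈ N') →
      ∀ {B : Type u} [CommRing B] (tB : Spec (CommRingCat.of B) ⟶ S), (∀ z, tB z ∈ W) →
      ∀ φ : AMonS S ↥N ⊗ Over.mk tB ⟶ X, Eqv a N (Over.mk tB) φ →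
        ∃ φ' : AMonS S ↥N' ⊗ Over.mk tB ⟶ X, Eqv a N' (Over.mk tB) φ' ∧ ev φ' = ev φ

theorem exists_local_pure (N N' : AddSubmonoid M) (D : Set M) (hDN : ∀ d ∈ D, d ∈ N → d ∈ N')
    (hcov : ∀ s : S, ∃ W : S.Opens, s ∈ W ∧ DegOK a W D)
    (T : Over S) (φ : AMonS S ↥N ⊗ T ⟶ X) (hφ : Eqv a N T φ) (p : T.left) :
    ∃ V : T.left.Opens, p ∈ V ∧ ∃ φ' : AMonS S ↥N' ⊗ resOv T V ⟶ X,
      Eqv a N' (resOv T V) φ' ∧ ev φ' = resι T V ≫ ev φ := by
  obtain ⟨W, hpW, hW⟩ := hcov (T.hom p)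
  have hp' : p ∈ T.hom ⁻¹ᵁ W := hpW
  obtain ⟨V, hV, hpV, hVW⟩ := exists_isAffineOpen_mem_and_subset hp'
  let tB : Spec (CommRingCat.of Γ(T.left, V)) ⟶ S := hV.fromSpec ≫ T.hom
  let ι' : Over.mk tB ⟶ T := Over.homMk hV.fromSpec rfl
  have hcw : hV.isoSpec.hom ≫ (Over.mk tB).hom = (resOv T V).hom := by
    change hV.isoSpec.hom ≫ hV.fromSpec ≫ T.hom = V.ι ≫ T.hom
    rw [← Category.assoc, hV.isoSpec_hom_fromSpec]
  let c : resOv T V ⟶ Over.mk tB := Over.homMk hV.isoSpec.hom hcw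
  have hc : c ≫ ι' = resι T V := by
    ext : 1
    exact hV.isoSpec_hom_fromSpec
  have htB : ∀ z, tB z ∈ W := by
    intro z
    change (hV.fromSpec ≫ T.hom) z ∈ W
    rw [Scheme.Hom.comp_apply]
    have h1 : hV.fromSpec z ∈ (V : Set T.left) := by
      rw [← hV.range_fromSpec]
      exact ⟨z, rfl⟩
    exact hVW h1
  let φB : (MonAct.eqvHom (subAct S M N) a).obj (op (Over.mk tB)) :=
    (MonAct.eqvHom (subAct S M N) a).map ι'.op ⟨φ, hφ⟩
  obtain ⟨φB', hφB', hevB⟩ := hW N N' hDN tB htB φB.1 φB.2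
  let φV : (MonAct.eqvHom (subAct S M N') a).obj (op (resOv T V)) :=
    (MonAct.eqvHom (subAct S M N') a).map c.op ⟨φB', hφB'⟩
  refine ⟨V, hpV, φV.1, φV.2, ?_⟩
  change ev ((AMonS S ↥N' ◁ c) ≫ φB') = _
  rw [ev_whiskerLeft, hevB]
  change c ≫ ev ((AMonS S ↥N ◁ ι') ≫ φ) = _
  rw [ev_whiskerLeft, ← Category.assoc, hc]

variable [IsAffineHom X.hom]

theorem glue_range (N' : AddSubmonoid M) (T : Over S) (x : T ⟶ X)
    (hloc : ∀ p : T.left, ∃ V : T.left.Opens, p ∈ V ∧ ∃ φ : AMonS S ↥N' ⊗ resOv T V ⟶ X,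
      Eqv a N' (resOv T V) φ ∧ ev φ = resι T V ≫ x) :
    ∃ φ : AMonS S ↥N' ⊗ T ⟶ X, Eqv a N' T φ ∧ ev φ = x := by
  choose V hpV φV hφV hevV using hloc
  have hcov : TopologicalSpace.IsOpenCover V := by
    apply TopologicalSpace.IsOpenCover.mk
    rw [eq_top_iff]
    intro p _
    exact TopologicalSpace.Opens.mem_iSup.mpr ⟨p, hpV p⟩
  let 𝒰 : T.left.OpenCover := T.left.openCoverOfIsOpenCover V hcov
  have hsepX : IsSeparated X.hom := IsSeparated.of_isAffineHom _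
  let D := MonAct.eqvHom (subAct S M N') a
  let d : ∀ i, D.obj (op (Over.mk (𝒰.f i ≫ T.hom))) := fun i => ⟨φV i, hφV i⟩
  have hcompat : ∀ i j, D.map (ovHom (pullback.fst (𝒰.f i) (𝒰.f j)) (𝒰.f i ≫ T.hom)).op (d i) =
      D.map (sndHom T.hom 𝒰 i j).op (d j) := by
    intro (i : T.left) (j : T.left)
    apply Subtype.ext
    apply eq_of_ev_eq a N' _ _ (D.map _ (d i)).2 (D.map _ (d j)).2
    change ev ((AMonS S ↥N' ◁ (ovHom (pullback.fst (V i).ι (V j).ι) ((V i).ι ≫ T.hom))) ≫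
      φV i) = ev ((AMonS S ↥N' ◁ (sndHom T.hom 𝒰 i j)) ≫ φV j)
    have hi : ev ((AMonS S ↥N' ◁
        (ovHom (pullback.fst (V i).ι (V j).ι) ((V i).ι ≫ T.hom))) ≫ φV i) =
        ovHom (pullback.fst (V i).ι (V j).ι) ((V i).ι ≫ T.hom) ≫ resι T (V i) ≫ x := by
      rw [ev_whiskerLeft, hevV i]
    have hj : ev ((AMonS S ↥N' ◁ (sndHom T.hom 𝒰 i j)) ≫ φV j) =
        sndHom T.hom 𝒰 i j ≫ resι T (V j) ≫ x := by
      rw [ev_whiskerLeft]
      exact congrArg (sndHom T.hom 𝒰 i j ≫ ·) (hevV j)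
    refine hi.trans (Eq.trans ?_ hj.symm)
    have hk : ovHom (pullback.fst (V i).ι (V j).ι) ((V i).ι ≫ T.hom) ≫ resι T (V i) =
        sndHom T.hom 𝒰 i j ≫ resι T (V j) := by
      ext : 1
      exact pullback.condition
    exact (Category.assoc _ _ _).symm.trans
      ((congrArg (· ≫ x) hk).trans (Category.assoc _ _ _))
  obtain ⟨e, he⟩ := hglue (subAct S M N') a T.left T.hom 𝒰 d hcompat
  refine ⟨e.1, e.2, ?_⟩
  refine (isZarCov_of_cover T.hom 𝒰).hom_ext (T := Over.mk T.hom) _ _ fun (i : T.left) => ?_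
  have h1 := congrArg Subtype.val (he i)
  change (AMonS S ↥N' ◁ ovHom (V i).ι T.hom) ≫ e.1 = φV i at h1
  change ovHom (V i).ι T.hom ≫ ev e.1 = ovHom (V i).ι T.hom ≫ x
  rw [← ev_whiskerLeft, h1, hevV i]

theorem exists_global_pure (N N' : AddSubmonoid M) (D : Set M) (hDN : ∀ d ∈ D, d ∈ N → d ∈ N')
    (hcov : ∀ s : S, ∃ W : S.Opens, s ∈ W ∧ DegOK a W D)
    (T : Over S) (φ : AMonS S ↥N ⊗ T ⟶ X) (hφ : Eqv a N T φ) :
    ∃ φ' : AMonS S ↥N' ⊗ T ⟶ X, Eqv a N' T φ' ∧ ev φ' = ev φ :=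
  glue_range a N' T (ev φ) (exists_local_pure a N N' D hDN hcov T φ hφ)

omit [IsAffineHom X.hom] in
theorem ev_attrMap {N' N : AddSubmonoid M} (h : N' ≤ N) (T : Over S)
    (φ' : (attr a N').obj (op T)) :
    ev ((attrMap a h).app (op T) φ').1 = ev φ'.1 := by
  change lift _ _ ≫ (_ ▷ T) ≫ φ'.1 = lift _ _ ≫ φ'.1
  rw [lift_whiskerRight_assoc, Category.assoc, IsMonHom.one_hom]

variable [CompactSpace S] [LocallyOfFinitePresentation X.hom]

theorem finite_pure :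
    Set.Finite {N : AddSubmonoid M | ∀ L : AddSubmonoid M,
      (∀ T : Over S, Set.range (fun φ => (attrToX a N).app (op T) φ) =
        Set.range (fun φ => (attrToX a L).app (op T) φ)) → N ≤ L} := by
  have h1 : ∀ s : S, ∃ W : S.Opens, IsAffineOpen W ∧ s ∈ W := fun s => by
    obtain ⟨W, hW, hs, -⟩ := exists_isAffineOpen_mem_and_subset (x := s) (U := ⊤) trivial
    exact ⟨W, hW, hs⟩
  choose W hW hsW using h1
  have h2 : ∀ s, ∃ D : Set M, D.Finite ∧ DegOK a (W s) D := fun s =>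
    exists_degrees a (W s) (hW s)
  choose Ds hDfin hDok using h2
  obtain ⟨t, ht⟩ := isCompact_univ.elim_finite_subcover (fun s => (W s : Set S))
    (fun s => (W s).isOpen) (by intro s _; exact Set.mem_iUnion.mpr ⟨s, hsW s⟩)
  let D : Set M := ⋃ s ∈ t, Ds s
  have hDfin' : D.Finite := Set.Finite.biUnion t.finite_toSet (fun s _ => hDfin s)
  have hcov : ∀ s : S, ∃ W' : S.Opens, s ∈ W' ∧ DegOK a W' D := by
    intro s
    obtain ⟨i, hi, hsi⟩ := Set.mem_iUnion₂.mp (ht (Set.mem_univ s))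
    refine ⟨W i, hsi, ?_⟩
    intro N N' hDN
    exact hDok i N N' (fun d hd => hDN d (Set.mem_biUnion hi hd))
  refine Set.Finite.subset ((hDfin'.finite_subsets).image (fun E => AddSubmonoid.closure E)) ?_
  intro N hN
  let N' : AddSubmonoid M := AddSubmonoid.closure ((N : Set M) ∩ D)
  have hle : N' ≤ N := AddSubmonoid.closure_le.mpr Set.inter_subset_left
  have hDN : ∀ d ∈ D, d ∈ N → d ∈ N' := fun d hd hdN => AddSubmonoid.subset_closure ⟨hdN, hd⟩
  have hNle : N ≤ N' := by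
    apply hN N'
    intro T
    apply Set.Subset.antisymm
    · rintro _ ⟨φ, rfl⟩
      obtain ⟨φ', hφ', hev⟩ := exists_global_pure a N N' D hDN hcov T φ.1 φ.2
      exact ⟨⟨φ', hφ'⟩, hev⟩
    · rintro _ ⟨φ', rfl⟩
      exact ⟨(attrMap a hle).app (op T) φ', ev_attrMap a hle T φ'⟩
  exact ⟨(N : Set M) ∩ D, Set.inter_subset_right, le_antisymm hle hNle⟩

end glob

end Groth.Agent.Lib.Helper18.AttrPureFin
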