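import Mathlib
import Groth.Prelude.Def_Magnet3
import Groth.Agent.Lib.Helper18.AttrPureFin

set_option autoImplicit false
set_option linter.unusedSectionVars false
universe u

open CategoryTheory CategoryTheory.Limits MonoidalCategory CartesianMonoidalCategory MonObj
  AlgebraicGeometry Opposite
open Magnet

noncomputable section

namespace Groth.Agent.Lib.Helper18.AttrDirected

open Groth.Agent.Lib.Helper5.AMonPts Groth.Agent.Lib.Helper5.AMonCoord Groth.Agent.Lib.Helper5.AMonAttr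
  Groth.Agent.Lib.Helper5.AMonDom

section ring

variable {M : Type} [AddCommMonoid M] {J : Type} [Preorder J] [IsDirected J (· ≤ ·)] [Nonempty J]
  (N : J → AddSubmonoid M) (hN : Monotone N) (B : CommRingCat.{u})

instance : IsDirected (ULift.{u} J) (· ≤ ·) :=
  ⟨fun a b => by
    obtain ⟨c, h1, h2⟩ := directed_of (· ≤ ·) a.down b.down
    exact ⟨⟨c⟩, h1, h2⟩⟩

theorem gHom_comp {P Q R : Type} [AddCommMonoid P] [AddCommMonoid Q] [AddCommMonoid R]
    (f : Q →+ R) (g : P →+ Q) : gHom B (f.comp g) = gHom B g ≫ gHom B f := by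
  refine CommRingCat.hom_ext ?_
  change MonoidAlgebra.mapDomainRingHom B (AddMonoidHom.toMultiplicative (f.comp g)) =
    (MonoidAlgebra.mapDomainRingHom B (AddMonoidHom.toMultiplicative f)).comp
      (MonoidAlgebra.mapDomainRingHom B (AddMonoidHom.toMultiplicative g))
  rw [← MonoidAlgebra.mapDomainRingHom_comp]
  rfl

theorem gHom_id {P : Type} [AddCommMonoid P] : gHom B (AddMonoidHom.id P) = 𝟙 _ := by
  refine CommRingCat.hom_ext ?_
  change MonoidAlgebra.mapDomainRingHom B (AddMonoidHom.toMultiplicative (AddMonoidHom.id P)) = _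
  exact MonoidAlgebra.mapDomainRingHom_id

/-- the diagram of monoid algebras `B[N i]`. -/
def F : ULift.{u} J ⥤ CommRingCat.{u} where
  obj i := BM (↥(N i.down)) B
  map {i j} h := gHom B (AddSubmonoid.inclusion (hN (ULift.down_le.mpr (leOfHom h))))
  map_id i := gHom_id B
  map_comp {i j k} f g := by
    rw [← gHom_comp]
    rfl

/-- the cocone `B[N i] → B[⨆ N i]`. -/
def coc : Cocone (F N hN B) :=
  ⟨BM (↥(⨆ i, N i)) B,
    { app := fun i => gHom B (AddSubmonoid.inclusion (le_iSup N i.down))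
      naturality := fun i j h => by
        change gHom B _ ≫ gHom B _ = gHom B _ ≫ 𝟙 _
        rw [Category.comp_id, ← gHom_comp]
        rfl }⟩

theorem mem_range_gHom_iff {P Q : Type} [AddCommMonoid P] [AddCommMonoid Q] (f : P →+ Q)
    (hf : Function.Injective f) (x : MonoidAlgebra B (Multiplicative Q))
    (hx : ∀ q ∈ x.coeff.support, Multiplicative.toAdd q ∈ Set.range f) :
    ∃ y : MonoidAlgebra B (Multiplicative P), (gHom B f).hom y = x := by
  have hinj : Function.Injective (AddMonoidHom.toMultiplicative f) := hf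
  have hsupp : (x.coeff.support : Set (Multiplicative Q)) ⊆
      Set.range (AddMonoidHom.toMultiplicative f) := by
    intro q hq
    obtain ⟨p, hp⟩ := hx q hq
    exact ⟨Multiplicative.ofAdd p, congrArg Multiplicative.ofAdd hp⟩
  exact ⟨MonoidAlgebra.comapDomain (AddMonoidHom.toMultiplicative f) hinj x,
    MonoidAlgebra.mapDomain_comapDomain hsupp hinj⟩

include hN in
theorem exists_index_of_finset (s : Finset M) (hs : ∀ m ∈ s, m ∈ ⨆ i, N i) :
    ∃ i : J, ∀ m ∈ s, m ∈ N i := by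
  classical
  induction s using Finset.induction_on with
  | empty => exact ⟨Classical.arbitrary J, fun m hm => absurd hm (Finset.notMem_empty m)⟩
  | insert a s ha ih =>
    obtain ⟨i, hi⟩ := ih (fun m hm => hs m (Finset.mem_insert_of_mem hm))
    obtain ⟨j, hj⟩ := (AddSubmonoid.mem_iSup_of_directed hN.directed_le).mp
      (hs a (Finset.mem_insert_self a s))
    obtain ⟨k, hik, hjk⟩ := directed_of (· ≤ ·) i j
    refine ⟨k, fun m hm => ?_⟩
    rcases Finset.mem_insert.mp hm with rfl | hm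
    · exact hN hjk hj
    · exact hN hik (hi m hm)


include hN in
theorem surj_coc (x : MonoidAlgebra B (Multiplicative ↥(⨆ i, N i))) :
    ∃ (i : J) (y : MonoidAlgebra B (Multiplicative ↥(N i))),
      (gHom B (AddSubmonoid.inclusion (le_iSup N i))).hom y = x := by
  classical
  let s : Finset M := x.coeff.support.image (fun q => ((Multiplicative.toAdd q : ↥(⨆ i, N i)) : M))
  obtain ⟨i, hi⟩ := exists_index_of_finset N hN s (fun m hm => by
      obtain ⟨q, _, rfl⟩ := Finset.mem_image.mp hm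
      exact (Multiplicative.toAdd q).2)
  refine ⟨i, ?_⟩
  apply mem_range_gHom_iff B (AddSubmonoid.inclusion (le_iSup N i))
    (AddSubmonoid.inclusion_injective _) x
  intro q hq
  have : ((Multiplicative.toAdd q : ↥(⨆ i, N i)) : M) ∈ N i :=
    hi _ (Finset.mem_image_of_mem _ hq)
  exact ⟨⟨_, this⟩, Subtype.ext rfl⟩

theorem coc_w_apply {i k : ULift.{u} J} (h : i ⟶ k) (xi : MonoidAlgebra B (Multiplicative ↥(N i.down))) :
    ((coc N hN B).ι.app k).hom (((F N hN B).map h).hom xi) = ((coc N hN B).ι.app i).hom xi :=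
  congrArg (fun f => f.hom xi) ((coc N hN B).w h)

def isColimitCoc : IsColimit (coc N hN B) := by
  have : IsFiltered (ULift.{u} J) := inferInstance
  have : ReflectsColimit (F N hN B) (forget CommRingCat.{u}) :=
    reflectsColimit_of_reflectsIsomorphisms _ _
  apply isColimitOfReflects (forget CommRingCat.{u})
  apply Types.FilteredColimit.isColimitOf
  · intro x
    obtain ⟨i, y, hy⟩ := surj_coc N hN B x
    exact ⟨⟨i⟩, y, hy.symm⟩
  · intro i j xi xj h
    obtain ⟨k, hik, hjk⟩ := directed_of (· ≤ ·) i.down j.down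
    have hik' : i ≤ (⟨k⟩ : ULift.{u} J) := hik
    have hjk' : j ≤ (⟨k⟩ : ULift.{u} J) := hjk
    refine ⟨⟨k⟩, homOfLE hik', homOfLE hjk', ?_⟩
    apply gHom_injective B (AddSubmonoid.inclusion (le_iSup N k))
      (AddSubmonoid.inclusion_injective _)
    exact (coc_w_apply N hN B (homOfLE hik') xi).trans
      (h.trans (coc_w_apply N hN B (homOfLE hjk') xj).symm)

end ring


section limit

variable {S : Scheme.{u}} {M : Type} [AddCommMonoid M] {J : Type} [Preorder J]
  [IsDirected J (· ≤ ·)] [Nonempty J]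
  (N : J → AddSubmonoid M) (hN : Monotone N) (B : CommRingCat.{u}) (τ : Spec B ⟶ S)
  {X : Scheme.{u}} (f : X ⟶ S) [LocallyOfFinitePresentation f]

include hN in
theorem exists_factor_lim (a : Spec (BM (↥(⨆ i, N i)) B) ⟶ X)
    (ha : a ≫ f = Spec.map (cHom (↥(⨆ i, N i)) B) ≫ τ) :
    ∃ (i : J) (g : Spec (BM (↥(N i)) B) ⟶ X),
      Spec.map (gHom B (AddSubmonoid.inclusion (le_iSup N i))) ≫ g = a ∧
      g ≫ f = Spec.map (cHom (↥(N i)) B) ≫ τ := by
  let D : (ULift.{u} J)ᵒᵖ ⥤ Scheme.{u} := (F N hN B).op ⋙ Scheme.Spec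
  let c : Cone D := Scheme.Spec.mapCone (coc N hN B).op
  have hc : IsLimit c := isLimitOfPreserves Scheme.Spec (isColimitCoc N hN B).op
  let t : D ⟶ (Functor.const _).obj S :=
    { app := fun i => Spec.map (cHom (↥(N i.unop.down)) B) ≫ τ
      naturality := fun i j h => by
        change Spec.map (gHom B _) ≫ Spec.map (cHom _ B) ≫ τ = (Spec.map (cHom _ B) ≫ τ) ≫ 𝟙 _
        rw [Category.comp_id, ← Category.assoc, ← Spec.map_comp, cHom_gHom] }
  have h1 : ∀ {i j : (ULift.{u} J)ᵒᵖ} (h : i ⟶ j), IsAffineHom (D.map h) := fun h => by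
    change IsAffineHom (Spec.map _); infer_instance
  have h2 : ∀ i, CompactSpace (D.obj i) := fun i => by
    change CompactSpace (Spec _); infer_instance
  have h3 : ∀ i, QuasiSeparatedSpace (D.obj i) := fun i => by
    change QuasiSeparatedSpace (Spec _); infer_instance
  have h4 : IsCofiltered (ULift.{u} J)ᵒᵖ := inferInstance
  obtain ⟨i, g, hg1, hg2⟩ :=
    Scheme.exists_π_app_comp_eq_of_locallyOfFinitePresentation D t f c hc a (by
      ext i
      change Spec.map (gHom B _) ≫ Spec.map (cHom _ B) ≫ τ = a ≫ f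
      rw [ha, ← Category.assoc, ← Spec.map_comp, cHom_gHom])
  exact ⟨i.unop.down, g, hg1, hg2⟩

end limit


section orbit

variable {S : Scheme.{u}} {M : Type} [AddCommMonoid M] {X : Over S} [IsSeparated X.hom]
  (a : MonAct (AMonS S M) X) (N : AddSubmonoid M) (T : Over S) (x : T ⟶ X)

omit [IsSeparated X.hom] in
theorem lift_subAct' {T' : Over S} (g : T' ⟶ AMonS S M) (b : T' ⟶ AMonS S ↥N) :
    lift g b ≫ (subAct S M N).act = (g ≫ AMonS.map S N.subtype) * b := by
  unfold subAct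
  rw [MonAct.lift_restrict_act, MonAct.lift_regular_act]

/-- a family `A(N) × T ⟶ X` restricting to the orbit map of `x` on `A(M) × T` is equivariant
(`X` separated over `S`). -/
theorem eqv_of_orbit_gen (φ : AMonS S ↥N ⊗ T ⟶ X)
    (horb : (AMonS.map S N.subtype ▷ T) ≫ φ = (AMonS S M ◁ x) ≫ a.act) :
    MonAct.IsEquivariant ((subAct S M N).prod (MonAct.trivial (AMonS S M) T)) a φ := by
  have horb' : ∀ {T' : Over S} (G : T' ⟶ AMonS S M) (t' : T' ⟶ T),
      lift (G ≫ AMonS.map S N.subtype) t' ≫ φ = lift G (t' ≫ x) ≫ a.act := by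
    intro T' G t'
    rw [← lift_whiskerRight_assoc, horb, lift_whiskerLeft_assoc]
  rw [MonAct.mem_eqvHom_iff]
  intro T' g b t
  let T₂ : Over S := AMonS S M ⊗ T
  let L' : AMonS S ↥N ⊗ T₂ ⟶ X :=
    lift (((snd _ _ ≫ fst _ _) ≫ AMonS.map S N.subtype) * fst _ _) (snd _ _ ≫ snd _ _) ≫ φ
  let R' : AMonS S ↥N ⊗ T₂ ⟶ X :=
    lift (snd _ _ ≫ fst _ _) (lift (fst _ _) (snd _ _ ≫ snd _ _) ≫ φ) ≫ a.act
  have hLR : L' = R' := by
    have hd := dominant_subtype (S := S) N T₂
    apply ext_of_dominant_of_separated (AMonS.map S N.subtype ▷ T₂).left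
    have h1 : (AMonS.map S N.subtype ▷ T₂) ≫ L' = (AMonS.map S N.subtype ▷ T₂) ≫ R' := by
      apply Magnet.hom_ext_lift₂
      intro T'' g' s
      have hL : lift g' s ≫ (AMonS.map S N.subtype ▷ T₂) ≫ L' =
          lift (((s ≫ fst _ _) * g') ≫ AMonS.map S N.subtype) (s ≫ snd _ _) ≫ φ := by
        rw [lift_whiskerRight_assoc, ← Category.assoc, comp_lift, MonObj.comp_mul,
          ← Category.assoc, ← Category.assoc, lift_snd, lift_fst, ← Category.assoc, lift_snd,
          MonObj.mul_comp]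
      have hR : lift g' s ≫ (AMonS.map S N.subtype ▷ T₂) ≫ R' =
          lift (s ≫ fst _ _) (lift (g' ≫ AMonS.map S N.subtype) (s ≫ snd _ _) ≫ φ) ≫ a.act := by
        rw [lift_whiskerRight_assoc, ← Category.assoc, comp_lift, ← Category.assoc, lift_snd,
          ← Category.assoc, comp_lift, lift_fst, ← Category.assoc, lift_snd]
      rw [hL, hR, horb', horb', a.lift_mul_act]
    exact congrArg (fun k => k.left) h1
  have h2 : lift b (lift g t) ≫ L' = lift b (lift g t) ≫ R' := by rw [hLR]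
  have hL2 : lift b (lift g t) ≫ L' = lift ((g ≫ AMonS.map S N.subtype) * b) t ≫ φ := by
    rw [← Category.assoc, comp_lift, MonObj.comp_mul, ← Category.assoc, ← Category.assoc,
      lift_snd, lift_fst, lift_fst, ← Category.assoc, lift_snd, lift_snd]
  have hR2 : lift b (lift g t) ≫ R' = lift g (lift b t ≫ φ) ≫ a.act := by
    rw [← Category.assoc, comp_lift, ← Category.assoc, lift_snd, lift_fst, ← Category.assoc,
      comp_lift, lift_fst, ← Category.assoc, lift_snd, lift_snd]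
  rw [hL2, hR2] at h2
  rw [lift_subAct' N]
  exact h2

end orbit


section main

variable {S : Scheme.{u}} {M : Type} [AddCommMonoid M] {X : Over S} [IsSeparated X.hom]
  [LocallyOfFinitePresentation X.hom] (a : MonAct (AMonS S M) X)
  {J : Type} [Preorder J] [IsDirected J (· ≤ ·)] [Nonempty J] (N : J → AddSubmonoid M)
  (hN : Monotone N)

include hN in
theorem exists_of_spec (B : CommRingCat.{u}) (τ : Spec B ⟶ S)
    (φ : (attr a (⨆ i, N i)).obj (op (Over.mk τ))) :
    ∃ (i : J) (ψ : (attr a (N i)).obj (op (Over.mk τ))),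
      (attrMap a (le_iSup N i)).app (op (Over.mk τ)) ψ = φ := by
  let K : AddSubmonoid M := ⨆ i, N i
  let a₀ : Spec (BM (↥K) B) ⟶ X.left := (e₀ (↥K) B τ).left ≫ φ.1.left
  have ha₀ : a₀ ≫ X.hom = Spec.map (cHom (↥K) B) ≫ τ := by
    change ((e₀ (↥K) B τ) ≫ φ.1).left ≫ X.hom = _
    rw [Over.w]
    rfl
  obtain ⟨i, g, hg1, hg2⟩ := exists_factor_lim N hN B τ X.hom a₀ ha₀
  let ψ' : E (↥(N i)) B τ ⟶ X := Over.homMk g hg2
  let ψ : AMonS S ↥(N i) ⊗ Over.mk τ ⟶ X := inv (e₀ (↥(N i)) B τ) ≫ ψ'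
  have hfac : (AMonS.map S (AddSubmonoid.inclusion (le_iSup N i)) ▷ Over.mk τ) ≫ ψ = φ.1 := by
    rw [← cancel_epi (e₀ (↥K) B τ), ← Category.assoc, e₀_naturality, Category.assoc]
    change sE B τ _ ≫ e₀ _ B τ ≫ inv (e₀ _ B τ) ≫ ψ' = _
    rw [IsIso.hom_inv_id_assoc]
    ext : 1
    exact hg1
  have hsub : AMonS.map S (N i).subtype =
      AMonS.map S K.subtype ≫ AMonS.map S (AddSubmonoid.inclusion (le_iSup N i)) := by
    rw [← AMonS.map_comp]
    rfl
  have hev : ev ψ = ev φ.1 := by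
    rw [← hfac]
    change _ = lift _ _ ≫ (_ ▷ _) ≫ ψ
    rw [lift_whiskerRight_assoc, Category.assoc, IsMonHom.one_hom]
  have horb : (AMonS.map S (N i).subtype ▷ Over.mk τ) ≫ ψ = (AMonS S M ◁ ev ψ) ≫ a.act := by
    rw [hsub, comp_whiskerRight, Category.assoc, hfac, hev]
    exact map_whisker_comp_eq a K φ.1 φ.2
  have hψ := eqv_of_orbit_gen a (N i) (Over.mk τ) (ev ψ) ψ horb
  exact ⟨i, ⟨ψ, hψ⟩, Subtype.ext hfac⟩

include hN in
theorem exists_of_affine (T : Over S) [IsAffine T.left] (φ : (attr a (⨆ i, N i)).obj (op T)) :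
    ∃ (i : J) (ψ : (attr a (N i)).obj (op T)), (attrMap a (le_iSup N i)).app (op T) ψ = φ := by
  let B : CommRingCat.{u} := Γ(T.left, ⊤)
  let τ : Spec B ⟶ S := T.left.isoSpec.inv ≫ T.hom
  let c : T ≅ Over.mk τ := Over.isoMk T.left.isoSpec (by
    change T.left.isoSpec.hom ≫ T.left.isoSpec.inv ≫ T.hom = T.hom
    rw [Iso.hom_inv_id_assoc])
  obtain ⟨i, ψ', hψ'⟩ := exists_of_spec a N hN B τ ((attr a (⨆ i, N i)).map c.inv.op φ)
  refine ⟨i, (attr a (N i)).map c.hom.op ψ', ?_⟩
  apply Subtype.ext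
  have h1 := congrArg Subtype.val hψ'
  change (AMonS.map S _ ▷ Over.mk τ) ≫ ψ'.1 = (AMonS S _ ◁ c.inv) ≫ φ.1 at h1
  change (AMonS.map S _ ▷ T) ≫ (AMonS S _ ◁ c.hom) ≫ ψ'.1 = φ.1
  rw [← whisker_exchange_assoc, h1, ← whiskerLeft_comp_assoc, c.hom_inv_id, whiskerLeft_id,
    Category.id_comp]

end main

end Groth.Agent.Lib.Helper18.AttrDirected
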