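import Mathlib
import Groth.Prelude.Def_Magnet4
import Groth.Agent.Lib.Helper5.AMonAttr
import Groth.Agent.Lib.Helper5.AMonPts

set_option autoImplicit false
set_option linter.unusedSectionVars false
universe u

open CategoryTheory CategoryTheory.Limits MonoidalCategory CartesianMonoidalCategory MonObj
  AlgebraicGeometry Opposite
open Magnet

noncomputable section

namespace Groth.Agent.Lib.Helper18.AttrOpen

open Groth.Agent.Lib.Helper5.AMonAttr Groth.Agent.Lib.Helper5.AMonDom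
  Groth.Agent.Lib.Helper5.AMonPts

/-! ### factoring through a morphism -/

section fac

variable {S : Scheme.{u}} {X Y : Over S} (f : X ⟶ Y)

/-- `y` factors through `f`. -/
def Fac {W : Over S} (y : W ⟶ Y) : Prop := ∃ x : W ⟶ X, x ≫ f = y

theorem fac_comp {W W' : Over S} (w : W' ⟶ W) {y : W ⟶ Y} (h : Fac f y) : Fac f (w ≫ y) := by
  obtain ⟨x, hx⟩ := h
  exact ⟨w ≫ x, by rw [Category.assoc, hx]⟩

theorem fac_iff_range [IsOpenImmersion f.left] {W : Over S} (y : W ⟶ Y) :
    Fac f y ↔ Set.range y.left ⊆ Set.range f.left := by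
  constructor
  · rintro ⟨x, rfl⟩ _ ⟨w, rfl⟩
    exact ⟨x.left w, by rw [Over.comp_left, Scheme.Hom.comp_apply]⟩
  · intro h
    refine ⟨Over.homMk (IsOpenImmersion.lift f.left y.left h) ?_, ?_⟩
    · rw [← Over.w f, IsOpenImmersion.lift_fac_assoc, Over.w y]
    · ext1
      exact IsOpenImmersion.lift_fac _ _ _

end fac

/-! ### points of the face map -/

section face

variable {S : Scheme.{u}} {M : Type} [AddCommMonoid M] {N F : AddSubmonoid M}

theorem ringHomOfPt_faceMap (hF : IsFace N F) {T : Over S} (t : T ⟶ AMonS S ↥F) (n : ↥N) :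
    ringHomOfPt (t ≫ AMonS.faceMap S hF) (xPow n) =
      ringHomOfPt t (faceAlgHom (ULift.{u} ℤ) hF (xPow n)) := by
  have h3 := pullback_map_left_fst (S := S) (AMon.faceMap (ULift.{u} ℤ) hF)
  change ((t ≫ AMonS.faceMap S hF).left ≫ pullback.fst (AZ ↥N).hom (toBaseZ S)).appTop
    ((coordIso ↥N).inv (xPow n)) = _
  have h4 : (t ≫ AMonS.faceMap S hF).left ≫ pullback.fst (AZ ↥N).hom (toBaseZ S) =
      specPt t ≫ (AMon.faceMap (ULift.{u} ℤ) hF).left := by
    rw [Over.comp_left, Category.assoc]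
    exact _ ≫= h3
  have h5 : (AMon.faceMap (ULift.{u} ℤ) hF).left.appTop ((coordIso ↥N).inv (xPow n)) =
      (coordIso ↥F).inv (faceAlgHom (ULift.{u} ℤ) hF (xPow n)) :=
    specMap_appTop_coordIso_inv (M := ↥N) (R := CommRingCat.of (Coord.{u} ↥F))
      (CommRingCat.ofHom (faceAlgHom (ULift.{u} ℤ) hF).toRingHom) (xPow n)
  rw [h4]
  exact (appTop_comp_apply _ _ _).trans (congrArg (specPt t).appTop h5)

theorem monHomOfPt_faceMap_of_mem (hF : IsFace N F) {T : Over S} (t : T ⟶ AMonS S ↥F) (n : ↥N)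
    (h : (n : M) ∈ F) :
    monHomOfPt (t ≫ AMonS.faceMap S hF) (Multiplicative.ofAdd n) =
      monHomOfPt t (Multiplicative.ofAdd (⟨n, h⟩ : ↥F)) := by
  rw [monHomOfPt_apply, ringHomOfPt_faceMap, monHomOfPt_apply, xPow,
    faceAlgHom_single_of_mem _ hF n h]

theorem monHomOfPt_faceMap_of_not_mem (hF : IsFace N F) {T : Over S} (t : T ⟶ AMonS S ↥F) (n : ↥N)
    (h : (n : M) ∉ F) :
    monHomOfPt (t ≫ AMonS.faceMap S hF) (Multiplicative.ofAdd n) = 0 := by
  rw [monHomOfPt_apply, ringHomOfPt_faceMap, xPow,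
    faceAlgHom_single_of_not_mem _ hF n h, map_zero]

end face

/-! ### the special point and translation to it -/

section eps

variable {S : Scheme.{u}} {M : Type} [AddCommGroup M] (N : AddSubmonoid M)

/-- the idempotent point `ε` of `A(N)` (`1` on `N*`, `0` elsewhere). -/
abbrev epsPt (T : Over S) : T ⟶ AMonS S ↥N :=
  (toUnit T ≫ η[AMonS S ↥(unitFace N)]) ≫ AMonS.faceMap S (isFace_unitFace N)

theorem epsPt_comp {T T' : Over S} (t : T' ⟶ T) : t ≫ epsPt N T = epsPt N T' := by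
  unfold epsPt
  rw [← Category.assoc, ← Category.assoc, toUnit_unique (t ≫ toUnit T) (toUnit T')]

theorem neg_mem_of_mem_unitFace {n : M} (h : n ∈ unitFace N) : -n ∈ N := by
  obtain ⟨-, y, hy, hny⟩ := h
  have : y = -n := by
    rw [eq_neg_iff_add_eq_zero, add_comm]
    exact hny
  rwa [← this]

/-- negation `N* → N`. -/
def negHom : ↥(unitFace N) →+ ↥N where
  toFun n := ⟨-(n : M), neg_mem_of_mem_unitFace N n.2⟩
  map_zero' := Subtype.ext (by simp)
  map_add' a b := Subtype.ext (by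
    change -((a : M) + (b : M)) = -(a : M) + -(b : M)
    exact neg_add _ _)

theorem negHom_add (n : ↥N) (h : (n : M) ∈ unitFace N) :
    negHom N ⟨n, h⟩ + n = 0 := Subtype.ext (by simp [negHom])

theorem exists_mul_eq_eps {T : Over S} (b : T ⟶ AMonS S ↥N) :
    ∃ x : T ⟶ AMonS S ↥N, x * b = epsPt N T := by
  let β := monHomOfPt b
  let gam : Multiplicative ↥(unitFace N) →* Γ(T.left, ⊤) :=
    β.comp (AddMonoidHom.toMultiplicative (negHom N))
  refine ⟨ptOfMonHom gam ≫ AMonS.faceMap S (isFace_unitFace N), ?_⟩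
  apply monHomOfPt_injective
  refine MonoidHom.ext fun m => ?_
  let n : ↥N := Multiplicative.toAdd m
  change monHomOfPt _ (Multiplicative.ofAdd n) = monHomOfPt _ (Multiplicative.ofAdd n)
  rw [monHomOfPt_mul, MonoidHom.mul_apply]
  by_cases h : (n : M) ∈ unitFace N
  · rw [monHomOfPt_faceMap_of_mem _ _ n h, monHomOfPt_faceMap_of_mem _ _ n h,
      monHomOfPt_ptOfMonHom, ← Hom.one_def, monHomOfPt_one, MonoidHom.one_apply]
    change β (Multiplicative.ofAdd (negHom N ⟨n, h⟩)) * β (Multiplicative.ofAdd n) = 1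
    rw [← map_mul, ← ofAdd_add, negHom_add, ofAdd_zero, map_one]
  · rw [monHomOfPt_faceMap_of_not_mem _ _ n h, monHomOfPt_faceMap_of_not_mem _ _ n h, zero_mul]

end eps


/-! ### transport and the density step -/

section main

variable {S : Scheme.{u}} {M : Type} [AddCommGroup M] (N : AddSubmonoid M) {X Y : Over S}
  (aX : MonAct (AMonS S M) X) (aY : MonAct (AMonS S M) Y) (f : X ⟶ Y)
  (hf : MonAct.IsEquivariant aX aY f)

theorem lift_subAct'' {T' : Over S} (g : T' ⟶ AMonS S M) (b : T' ⟶ AMonS S ↥N) :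
    lift g b ≫ (subAct S M N).act = (g ≫ AMonS.map S N.subtype) * b := by
  unfold subAct
  rw [MonAct.lift_restrict_act, MonAct.lift_regular_act]

theorem exists_inv_pt {W : Over S} (g : W ⟶ AMonS S M) : ∃ g' : W ⟶ AMonS S M, g' * g = 1 := by
  refine ⟨ptOfMonHom ((monHomOfPt g).comp invMonoidHom), ?_⟩
  apply monHomOfPt_injective
  rw [monHomOfPt_mul, monHomOfPt_ptOfMonHom, monHomOfPt_one]
  refine MonoidHom.ext fun m => ?_
  rw [MonoidHom.mul_apply, MonoidHom.comp_apply, invMonoidHom_apply, ← map_mul, inv_mul_cancel,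
    map_one, MonoidHom.one_apply]

include hf in
theorem fac_translate {T W : Over S} (φ : AMonS S ↥N ⊗ T ⟶ Y)
    (hφ : MonAct.IsEquivariant ((subAct S M N).prod (MonAct.trivial (AMonS S M) T)) aY φ)
    (g : W ⟶ AMonS S M) (x : W ⟶ AMonS S ↥N) (t : W ⟶ T)
    (h : Fac f (lift x t ≫ φ)) :
    Fac f (lift ((g ≫ AMonS.map S N.subtype) * x) t ≫ φ) := by
  obtain ⟨y, hy⟩ := h
  have hfe : aX.act ≫ f = (AMonS S M ◁ f) ≫ aY.act := hf
  have h1 : lift (lift g x ≫ (subAct S M N).act) t ≫ φ = lift g (lift x t ≫ φ) ≫ aY.act :=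
    (MonAct.mem_eqvHom_iff φ).mp hφ W g x t
  have h2 : lift g x ≫ (subAct S M N).act = (g ≫ AMonS.map S N.subtype) * x :=
    lift_subAct'' N g x
  have goal : (lift g y ≫ aX.act) ≫ f = lift ((g ≫ AMonS.map S N.subtype) * x) t ≫ φ := by
    rw [← h2, h1, Category.assoc, hfe, lift_whiskerLeft_assoc, hy]
  exact ⟨_, goal⟩

include hf in
theorem fac_of_mul [IsOpenImmersion f.left] {T' : Over S} (hT : ∀ q q' : T'.left, q = q')
    (q₀ : T'.left) (φ : AMonS S ↥N ⊗ T' ⟶ Y)
    (hφ : MonAct.IsEquivariant ((subAct S M N).prod (MonAct.trivial (AMonS S M) T')) aY φ)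
    (b x : T' ⟶ AMonS S ↥N) (h : Fac f (lift (x * b) (𝟙 T') ≫ φ)) :
    Fac f (lift b (𝟙 T') ≫ φ) := by
  let P : Over S := AMonS S ↥N ⊗ T'
  let multb : P ⟶ P := lift (fst _ _ * (snd _ _ ≫ b)) (snd _ _)
  let ψ : P ⟶ Y := multb ≫ φ
  let Q : Over S := AMonS S M ⊗ T'
  let d : Q ⟶ P := AMonS.map S N.subtype ▷ T'
  have hdd := dominant_map_whiskerRight (S := S) N.subtype Subtype.val_injective T'
  have hd : DenseRange d.left := by
    have := hdd.1
    have := hdd.2
    exact Scheme.Hom.denseRange _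
  -- the open set
  let VP : P.left.Opens := ψ.left ⁻¹ᵁ f.left.opensRange
  have hx1 : lift x (𝟙 T') ≫ multb = lift (x * b) (𝟙 T') := by
    rw [comp_lift, MonObj.comp_mul, lift_fst, lift_snd, ← Category.assoc, lift_snd,
      Category.id_comp]
  have hVP : (VP : Set P.left).Nonempty := by
    obtain ⟨y, hy⟩ := h
    refine ⟨(lift x (𝟙 T')).left q₀, ?_⟩
    change ψ.left ((lift x (𝟙 T')).left q₀) ∈ Set.range f.left
    refine ⟨y.left q₀, ?_⟩
    rw [← Scheme.Hom.comp_apply, ← Scheme.Hom.comp_apply, ← Over.comp_left, ← Over.comp_left, hy,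
      ← Category.assoc, hx1]
  obtain ⟨q, hq⟩ := hd.exists_mem_open VP.2 hVP
  let V : Q.left.Opens := d.left ⁻¹ᵁ VP
  let W'' : Over S := Over.mk (V.ι ≫ Q.hom)
  let w : W'' ⟶ Q := Over.homMk V.ι rfl
  have hw : Fac f (w ≫ d ≫ ψ) := by
    rw [fac_iff_range]
    rintro _ ⟨z, rfl⟩
    have hz : V.ι z ∈ V := by
      have : V.ι z ∈ Set.range V.ι := ⟨z, rfl⟩
      rw [Scheme.Opens.range_ι] at this
      exact this
    have : ψ.left (d.left (V.ι z)) ∈ Set.range f.left := hz
    rw [Over.comp_left, Over.comp_left, Scheme.Hom.comp_apply, Scheme.Hom.comp_apply]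
    exact this
  let g'' : W'' ⟶ AMonS S M := w ≫ fst _ _
  let t'' : W'' ⟶ T' := w ≫ snd _ _
  have hw2 : w ≫ d ≫ ψ = lift ((g'' ≫ AMonS.map S N.subtype) * (t'' ≫ b)) t'' ≫ φ := by
    have hw0 : w = lift g'' t'' := (lift_comp_fst_snd w).symm
    have : w ≫ d ≫ multb = lift ((g'' ≫ AMonS.map S N.subtype) * (t'' ≫ b)) t'' := by
      rw [hw0, lift_whiskerRight_assoc, comp_lift, MonObj.comp_mul, lift_fst, lift_snd,
        ← Category.assoc, lift_snd]
    rw [← this, Category.assoc, Category.assoc]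
  rw [hw2] at hw
  obtain ⟨g', hg'⟩ := exists_inv_pt g''
  have h3 := fac_translate N aX aY f hf φ hφ g' _ t'' hw
  have h4 : (g' ≫ AMonS.map S N.subtype) * ((g'' ≫ AMonS.map S N.subtype) * (t'' ≫ b)) =
      t'' ≫ b := by
    rw [← _root_.mul_assoc, ← MonObj.mul_comp, hg', MonObj.one_comp, _root_.one_mul]
  rw [h4] at h3
  have h5 : lift (t'' ≫ b) t'' = t'' ≫ lift b (𝟙 T') := by
    rw [comp_lift, Category.comp_id]
  rw [h5, Category.assoc] at h3
  -- descend along the nonempty `W''`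
  rw [fac_iff_range] at h3 ⊢
  rintro _ ⟨q', rfl⟩
  let z : W''.left := ⟨q, hq⟩
  have hz : t''.left z = q' := hT _ _
  have := h3 ⟨z, rfl⟩
  rw [Over.comp_left, Scheme.Hom.comp_apply, hz] at this
  exact this

include hf in
theorem fac_of_eps [IsOpenImmersion f.left] {T : Over S} (φ : AMonS S ↥N ⊗ T ⟶ Y)
    (hφ : MonAct.IsEquivariant ((subAct S M N).prod (MonAct.trivial (AMonS S M) T)) aY φ)
    (h : Fac f (lift (epsPt N T) (𝟙 T) ≫ φ)) : Fac f φ := by
  rw [fac_iff_range]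
  rintro _ ⟨p, rfl⟩
  let P : Over S := AMonS S ↥N ⊗ T
  let T' : Over S := Over.mk (P.left.fromSpecResidueField p ≫ P.hom)
  let xp : T' ⟶ P := Over.homMk (P.left.fromSpecResidueField p) rfl
  let b : T' ⟶ AMonS S ↥N := xp ≫ fst _ _
  let t : T' ⟶ T := xp ≫ snd _ _
  have hxp : xp = lift b t := (lift_comp_fst_snd xp).symm
  let φ' : AMonS S ↥N ⊗ T' ⟶ Y := (AMonS S ↥N ◁ t) ≫ φ
  have hφ' : MonAct.IsEquivariant ((subAct S M N).prod (MonAct.trivial (AMonS S M) T')) aY φ' :=
    ((attr aY N).map t.op ⟨φ, hφ⟩).2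
  have h1 : Fac f (lift (epsPt N T') (𝟙 T') ≫ φ') := by
    have : lift (epsPt N T') (𝟙 T') ≫ φ' = t ≫ (lift (epsPt N T) (𝟙 T) ≫ φ) := by
      rw [lift_whiskerLeft_assoc, ← Category.assoc t, comp_lift, epsPt_comp, Category.comp_id,
        Category.id_comp]
    rw [this]
    exact fac_comp f t h
  obtain ⟨x, hx⟩ := exists_mul_eq_eps N b
  have hT : ∀ q q' : T'.left, q = q' := by
    intro q q'
    exact Subsingleton.elim (α := PrimeSpectrum (P.left.residueField p)) q q'
  have q₀ : T'.left := (default : PrimeSpectrum (P.left.residueField p))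
  have h2 : Fac f (lift b (𝟙 T') ≫ φ') :=
    fac_of_mul N aX aY f hf hT q₀ φ' hφ' b x (by rw [hx]; exact h1)
  have h3 : lift b (𝟙 T') ≫ φ' = xp ≫ φ := by
    rw [lift_whiskerLeft_assoc, Category.id_comp, ← hxp]
  rw [h3, fac_iff_range] at h2
  have := h2 ⟨q₀, rfl⟩
  rw [Over.comp_left, Scheme.Hom.comp_apply] at this
  have hq : xp.left q₀ = p := Scheme.fromSpecResidueField_apply _ _
  rw [hq] at this
  exact this

include hf in
/-- an attractor point of `Y` whose value at the idempotent point `ε` lies in the open equivariant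
subscheme `X` is an attractor point of `X`. -/
theorem exists_attr_of_open [IsOpenImmersion f.left] {T : Over S} (φ : AMonS S ↥N ⊗ T ⟶ Y)
    (hφ : MonAct.IsEquivariant ((subAct S M N).prod (MonAct.trivial (AMonS S M) T)) aY φ)
    (h : Set.range (lift (epsPt N T) (𝟙 T) ≫ φ).left ⊆ Set.range f.left) :
    ∃ ψ : AMonS S ↥N ⊗ T ⟶ X,
      MonAct.IsEquivariant ((subAct S M N).prod (MonAct.trivial (AMonS S M) T)) aX ψ ∧
        ψ ≫ f = φ := by
  have hmono : Mono f := by
    have : Mono f.left := inferInstance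
    exact Over.mono_of_mono_left _
  have hfe : aX.act ≫ f = (AMonS S M ◁ f) ≫ aY.act := hf
  obtain ⟨ψ, hψ⟩ := fac_of_eps N aX aY f hf φ hφ ((fac_iff_range f _).mpr h)
  refine ⟨ψ, ?_, hψ⟩
  rw [MonAct.mem_eqvHom_iff]
  intro T' g b t
  rw [← cancel_mono f, Category.assoc, hψ, Category.assoc, hfe, lift_whiskerLeft_assoc,
    Category.assoc, hψ]
  exact (MonAct.mem_eqvHom_iff φ).mp hφ T' g b t

end main

end Groth.Agent.Lib.Helper18.AttrOpen
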