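import Mathlib
import Groth.Prelude.Def_Magnet4

set_option autoImplicit false
universe u

open Magnet

namespace Groth.Agent.Lib.Helper18.ExposedFace

/-- Gordan-type alternative over `ℤ`: either some functional is positive on all the `v i`, or a
nontrivial nonnegative combination is killed by every functional. -/
theorem gordan {M : Type*} [AddCommGroup M] {ι : Type*} [DecidableEq ι] (s : Finset ι) :
    ∀ v : ι → M, (∃ ℓ : M →+ ℤ, ∀ i ∈ s, 0 < ℓ (v i)) ∨
      (∃ a : ι → ℕ, (∃ i ∈ s, a i ≠ 0) ∧ ∀ ℓ : M →+ ℤ, ∑ i ∈ s, (a i : ℤ) * ℓ (v i) = 0) := by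
  induction s using Finset.induction_on with
  | empty => intro v; left; exact ⟨0, by simp⟩
  | insert j s hj ih =>
    intro v
    rcases ih v with ⟨ℓ₀, h₀⟩ | ⟨a, ⟨i, hi, hai⟩, ha⟩
    · -- a functional positive on `s`
      rcases lt_trichotomy 0 (ℓ₀ (v j)) with hc | hc | hc
      · left
        refine ⟨ℓ₀, fun i hi => ?_⟩
        rcases Finset.mem_insert.mp hi with rfl | hi
        exacts [hc, h₀ i hi]
      · by_cases hm : ∃ m : M →+ ℤ, m (v j) ≠ 0
        · obtain ⟨m, hm⟩ : ∃ m : M →+ ℤ, 0 < m (v j) := by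
            obtain ⟨m, hm⟩ := hm
            rcases lt_or_gt_of_ne hm with h | h
            · exact ⟨-m, by simpa using h⟩
            · exact ⟨m, h⟩
          left
          let K : ℤ := 1 + ∑ i ∈ s, |m (v i)|
          refine ⟨K • ℓ₀ + m, fun i hi => ?_⟩
          rcases Finset.mem_insert.mp hi with rfl | hi
          · simp only [AddMonoidHom.add_apply, AddMonoidHom.smul_apply, ← hc, smul_zero, zero_add]
            exact hm
          · have h1 : |m (v i)| ≤ ∑ i ∈ s, |m (v i)| :=
              Finset.single_le_sum (f := fun i => |m (v i)|) (fun _ _ => abs_nonneg _) hi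
            have h2 := h₀ i hi
            have h3 : -|m (v i)| ≤ m (v i) := neg_abs_le _
            have h4 : (0 : ℤ) ≤ ∑ i ∈ s, |m (v i)| := Finset.sum_nonneg (fun _ _ => abs_nonneg _)
            simp only [AddMonoidHom.add_apply, AddMonoidHom.smul_apply, smul_eq_mul]
            nlinarith
        · push Not at hm
          right
          refine ⟨fun k => if k = j then 1 else 0, ⟨j, Finset.mem_insert_self _ _, by simp⟩, ?_⟩
          intro ℓ
          rw [Finset.sum_insert hj, hm ℓ]
          simp only [mul_zero, zero_add]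
          refine Finset.sum_eq_zero fun k hk => ?_
          have : k ≠ j := fun h => hj (h ▸ hk)
          simp [this]
      · -- `ℓ₀ (v j) < 0`
        set c := ℓ₀ (v j) with hcdef
        let w : ι → M := fun i => (-c) • v i + ℓ₀ (v i) • v j
        have hw0 : ∀ i, ℓ₀ (w i) = 0 := by
          intro i
          simp only [w, map_add, map_zsmul, smul_eq_mul, ← hcdef]
          ring
        rcases ih w with ⟨ℓ₁, h₁⟩ | ⟨a, ⟨i, hi, hai⟩, ha⟩
        · left
          let K : ℤ := 1 + ∑ i ∈ s, ℓ₀ (v i)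
          refine ⟨((-c) * K) • ℓ₁ + (K * ℓ₁ (v j) - 1) • ℓ₀, fun i hi => ?_⟩
          rcases Finset.mem_insert.mp hi with rfl | hi
          · simp only [AddMonoidHom.add_apply, AddMonoidHom.smul_apply, smul_eq_mul, ← hcdef]
            nlinarith
          · have h1 : ℓ₀ (v i) ≤ ∑ i ∈ s, ℓ₀ (v i) :=
              Finset.single_le_sum (f := fun i => ℓ₀ (v i)) (fun k hk => (h₀ k hk).le) hi
            have h2 := h₁ i hi
            have h3 : ℓ₁ (w i) = (-c) * ℓ₁ (v i) + ℓ₀ (v i) * ℓ₁ (v j) := by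
              simp only [w, map_add, map_zsmul, smul_eq_mul]
            have h4 : (((-c) * K) • ℓ₁ + (K * ℓ₁ (v j) - 1) • ℓ₀) (v i) =
                K * ℓ₁ (w i) - ℓ₀ (v i) := by
              simp only [AddMonoidHom.add_apply, AddMonoidHom.smul_apply, smul_eq_mul, h3]
              ring
            rw [h4]
            have h5 := h₀ i hi
            have h6 : K * 1 ≤ K * ℓ₁ (w i) :=
              mul_le_mul_of_nonneg_left (by omega) (by
                have : (0 : ℤ) ≤ ∑ i ∈ s, ℓ₀ (v i) := Finset.sum_nonneg (fun k hk => (h₀ k hk).le)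
                omega)
            have h7 : K = 1 + ∑ i ∈ s, ℓ₀ (v i) := rfl
            omega
        · right
          refine ⟨fun k => if k = j then (∑ i ∈ s, (a i : ℤ) * ℓ₀ (v i)).toNat
              else a k * (-c).toNat, ⟨i, Finset.mem_insert_of_mem hi, ?_⟩, ?_⟩
          · have hij : i ≠ j := fun h => hj (h ▸ hi)
            simp only [hij, if_false]
            refine Nat.mul_ne_zero hai ?_
            omega
          · intro ℓ
            have hnn : (0 : ℤ) ≤ ∑ i ∈ s, (a i : ℤ) * ℓ₀ (v i) :=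
              Finset.sum_nonneg (fun k hk => mul_nonneg (by positivity) (h₀ k hk).le)
            rw [Finset.sum_insert hj]
            simp only [if_true]
            rw [Int.toNat_of_nonneg hnn]
            have h8 : ∑ x ∈ s, ((if x = j then (∑ i ∈ s, (a i : ℤ) * ℓ₀ (v i)).toNat
                else a x * (-c).toNat : ℕ) : ℤ) * ℓ (v x) =
                ∑ x ∈ s, (a x : ℤ) * (-c) * ℓ (v x) := by
              refine Finset.sum_congr rfl fun k hk => ?_
              have hkj : k ≠ j := fun h => hj (h ▸ hk)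
              simp only [hkj, if_false]
              rw [Nat.cast_mul, Int.toNat_of_nonneg (by omega)]
            rw [h8]
            have h9 := ha ℓ
            have h10 : ∀ k, ℓ (w k) = (-c) * ℓ (v k) + ℓ₀ (v k) * ℓ (v j) := by
              intro k
              simp only [w, map_add, map_zsmul, smul_eq_mul]
            simp only [h10] at h9
            have h11 : ∑ i ∈ s, (a i : ℤ) * ((-c) * ℓ (v i) + ℓ₀ (v i) * ℓ (v j)) =
                ∑ x ∈ s, (a x : ℤ) * (-c) * ℓ (v x) +
                  (∑ i ∈ s, (a i : ℤ) * ℓ₀ (v i)) * ℓ (v j) := by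
              rw [Finset.sum_mul, ← Finset.sum_add_distrib]
              refine Finset.sum_congr rfl fun k _ => ?_
              ring
            rw [h11] at h9
            linarith
    · right
      refine ⟨fun k => if k ∈ s then a k else 0, ⟨i, Finset.mem_insert_of_mem hi, by simp [hi, hai]⟩, ?_⟩
      intro ℓ
      rw [Finset.sum_insert hj]
      simp only [hj, if_false, Nat.cast_zero, zero_mul, zero_add]
      rw [← ha ℓ]
      refine Finset.sum_congr rfl fun k hk => ?_
      simp [hk]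

/-- in a finitely generated abelian group, an element killed by all functionals is torsion. -/
theorem exists_nsmul_eq_zero_of_forall_hom {M : Type*} [AddCommGroup M] [Module.Finite ℤ M] (x : M)
    (h : ∀ ℓ : M →+ ℤ, ℓ x = 0) : ∃ k : ℕ, 0 < k ∧ k • x = 0 := by
  let T := Submodule.torsion ℤ M
  have h1 : ∀ φ : Module.Dual ℤ (M ⧸ T), φ (T.mkQ x) = 0 := fun φ =>
    h ((φ.comp T.mkQ).toAddMonoidHom)
  have h2 : T.mkQ x = 0 := (Module.forall_dual_apply_eq_zero_iff ℤ _).mp h1
  have h3 : x ∈ T := by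
    rwa [Submodule.mkQ_apply, Submodule.Quotient.mk_eq_zero] at h2
  obtain ⟨a, ha⟩ := (Submodule.mem_torsion_iff x).mp h3
  have ha0 : (a : ℤ) ≠ 0 := nonZeroDivisors.coe_ne_zero a
  refine ⟨(a : ℤ).natAbs, Int.natAbs_pos.mpr ha0, ?_⟩
  have h4 : (a : ℤ) • x = 0 := ha
  rcases Int.natAbs_eq (a : ℤ) with h5 | h5
  · rw [h5, natCast_zsmul] at h4
    exact h4
  · rw [h5, neg_smul, natCast_zsmul, neg_eq_zero] at h4
    exact h4

section face

variable {M : Type} [AddCommGroup M] {N F : AddSubmonoid M}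

theorem mem_of_nsmul_mem (hF : IsFace N F) {n : M} (hn : n ∈ N) {m : ℕ} (hm : m ≠ 0)
    (h : m • n ∈ F) : n ∈ F := by
  obtain ⟨m', rfl⟩ := Nat.exists_eq_succ_of_ne_zero hm
  rw [succ_nsmul'] at h
  exact (hF.mem_of_add_mem n hn _ (N.nsmul_mem hn m') h).1

theorem mem_of_sum_mem (hF : IsFace N F) {ι : Type*} [DecidableEq ι] (s : Finset ι) (g : ι → M)
    (hg : ∀ i ∈ s, g i ∈ N) (h : ∑ i ∈ s, g i ∈ F) : ∀ i ∈ s, g i ∈ F := by
  induction s using Finset.induction_on with
  | empty => intro i hi; simp at hi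
  | insert j s hj ih =>
    rw [Finset.sum_insert hj] at h
    have h1 := hF.mem_of_add_mem (g j) (hg j (Finset.mem_insert_self _ _)) _
      (N.sum_mem fun i hi => hg i (Finset.mem_insert_of_mem hi)) h
    intro i hi
    rcases Finset.mem_insert.mp hi with rfl | hi
    · exact h1.1
    · exact ih (fun k hk => hg k (Finset.mem_insert_of_mem hk)) h1.2 i hi

theorem exists_of_mem_closure (g : M) (hg : g ∈ AddSubgroup.closure (F : Set M)) :
    ∃ f ∈ F, ∃ f' ∈ F, g + f' = f := by
  induction hg using AddSubgroup.closure_induction with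
  | mem x hx => exact ⟨x, hx, 0, F.zero_mem, add_zero x⟩
  | zero => exact ⟨0, F.zero_mem, 0, F.zero_mem, add_zero 0⟩
  | add x y _ _ hx hy =>
    obtain ⟨f₁, h₁, f₁', h₁', e₁⟩ := hx
    obtain ⟨f₂, h₂, f₂', h₂', e₂⟩ := hy
    exact ⟨f₁ + f₂, F.add_mem h₁ h₂, f₁' + f₂', F.add_mem h₁' h₂', by
      rw [← e₁, ← e₂]; abel⟩
  | neg x _ hx =>
    obtain ⟨f, h, f', h', e⟩ := hx
    exact ⟨f', h', f, h, by rw [← e]; abel⟩

/-- every face of a finitely generated submonoid of a finitely generated abelian group is exposed. -/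
theorem exists_exposing [AddGroup.FG M] (hN : N.FG) (hF : IsFace N F) :
    ∃ ℓ : M →+ ℤ, (∀ n ∈ N, 0 ≤ ℓ n) ∧ (∀ n ∈ F, ℓ n = 0) ∧ (∀ n ∈ N, ℓ n = 0 → n ∈ F) := by
  classical
  obtain ⟨S, hS⟩ := hN
  let G : AddSubgroup M := AddSubgroup.closure (F : Set M)
  let mk : M →+ M ⧸ G := QuotientAddGroup.mk' G
  let s : Finset M := S.filter (· ∉ F)
  have hSN : ∀ x ∈ S, x ∈ N := fun x hx => hS ▸ AddSubmonoid.subset_closure hx
  have : Module.Finite ℤ (M ⧸ G) := Module.Finite.iff_addGroup_fg.mpr inferInstance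
  rcases gordan s (fun x => mk x) with ⟨ℓ', hℓ'⟩ | ⟨a, ⟨i₀, hi₀, hai₀⟩, ha⟩
  · let ℓ : M →+ ℤ := ℓ'.comp mk
    have hFz : ∀ n ∈ F, ℓ n = 0 := by
      intro n hn
      have : mk n = 0 := (QuotientAddGroup.eq_zero_iff n).mpr (AddSubgroup.subset_closure hn)
      change ℓ' (mk n) = 0
      rw [this, map_zero]
    have key : ∀ n ∈ N, 0 ≤ ℓ n ∧ (ℓ n = 0 → n ∈ F) := by
      intro n hn
      rw [← hS] at hn
      induction hn using AddSubmonoid.closure_induction with
      | mem x hx =>
        by_cases hxF : x ∈ F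
        · exact ⟨(hFz x hxF).ge, fun _ => hxF⟩
        · have : 0 < ℓ x := hℓ' x (Finset.mem_filter.mpr ⟨hx, hxF⟩)
          exact ⟨this.le, fun h => absurd h this.ne'⟩
      | zero => exact ⟨by simp, fun _ => F.zero_mem⟩
      | add x y _ _ hx hy =>
        refine ⟨by rw [map_add]; exact add_nonneg hx.1 hy.1, fun h => ?_⟩
        rw [map_add] at h
        have hx0 : ℓ x = 0 := by linarith [hx.1, hy.1]
        have hy0 : ℓ y = 0 := by linarith [hx.1, hy.1]
        exact F.add_mem (hx.2 hx0) (hy.2 hy0)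
    exact ⟨ℓ, fun n hn => (key n hn).1, hFz, fun n hn => (key n hn).2⟩
  · exfalso
    have hi₀S : i₀ ∈ S := (Finset.mem_filter.mp hi₀).1
    have hi₀F : i₀ ∉ F := (Finset.mem_filter.mp hi₀).2
    let y : M := ∑ i ∈ s, a i • i
    have hyN : ∀ i ∈ s, a i • i ∈ N := fun i hi =>
      N.nsmul_mem (hSN i (Finset.mem_filter.mp hi).1) _
    have hkill : ∀ ℓ' : (M ⧸ G) →+ ℤ, ℓ' (mk y) = 0 := by
      intro ℓ'
      rw [← ha ℓ']
      simp only [y, map_sum, map_nsmul, nsmul_eq_mul]
    obtain ⟨k, hk, hk0⟩ := exists_nsmul_eq_zero_of_forall_hom (mk y) hkill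
    have hkG : k • y ∈ G := by
      rw [← QuotientAddGroup.eq_zero_iff, ← hk0]
      exact map_nsmul mk k y
    obtain ⟨f, hf, f', hf', e⟩ := exists_of_mem_closure (k • y) hkG
    have hyNN : y ∈ N := N.sum_mem hyN
    have hkF : k • y ∈ F := by
      have := hF.mem_of_add_mem (k • y) (N.nsmul_mem hyNN k) f' (hF.le hf') (e ▸ hf)
      exact this.1
    have hyF : y ∈ F := mem_of_nsmul_mem hF hyNN hk.ne' hkF
    have h1 := mem_of_sum_mem hF s (fun i => a i • i) hyN hyF i₀ hi₀
    exact hi₀F (mem_of_nsmul_mem hF (hSN i₀ hi₀S) hai₀ h1)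

end face

end Groth.Agent.Lib.Helper18.ExposedFace
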