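import Mathlib
import Groth.Prelude.Def_Magnet4
import Groth.Agent.Lib.Helper5.AMonPts
import Groth.Agent.Lib.Helper18.AttrOpen
import Groth.Agent.Lib.Helper18.ExposedFace

set_option autoImplicit false
set_option linter.unusedSectionVars false
universe u

open CategoryTheory CategoryTheory.Limits MonoidalCategory CartesianMonoidalCategory MonObj
  AlgebraicGeometry Opposite
open Magnet

noncomputable section

namespace Groth.Agent.Lib.Helper18.AttrHomotopy

open Groth.Agent.Lib.Helper5.AMonPts Groth.Agent.Lib.Helper18.AttrOpen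

/-! ### multiplication by a point -/

section mulBy

variable {S : Scheme.{u}} {M : Type} [AddCommGroup M] {N : AddSubmonoid M}

/-- multiplication by a `T`-point of `A(N)` on `A(N) × T`. -/
def mulBy {T : Over S} (p : T ⟶ AMonS S ↥N) : AMonS S ↥N ⊗ T ⟶ AMonS S ↥N ⊗ T :=
  lift (fst _ _ * (snd _ _ ≫ p)) (snd _ _)

theorem lift_mulBy {T T' : Over S} (p : T ⟶ AMonS S ↥N) (b : T' ⟶ AMonS S ↥N) (t : T' ⟶ T) :
    lift b t ≫ mulBy p = lift (b * (t ≫ p)) t := by
  unfold mulBy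
  rw [comp_lift, MonObj.comp_mul, lift_fst, lift_snd, ← Category.assoc, lift_snd]

theorem mulBy_one {T : Over S} : mulBy (1 : T ⟶ AMonS S ↥N) = 𝟙 _ := by
  apply Magnet.hom_ext_lift₂
  intro T' b t
  rw [lift_mulBy, MonObj.comp_one, _root_.mul_one, Category.comp_id]

theorem whiskerLeft_mulBy {T T' : Over S} (t : T' ⟶ T) (p : T ⟶ AMonS S ↥N) :
    (AMonS S ↥N ◁ t) ≫ mulBy p = mulBy (t ≫ p) ≫ (AMonS S ↥N ◁ t) := by
  apply Magnet.hom_ext_lift₂
  intro T'' b t'
  rw [lift_whiskerLeft_assoc, lift_mulBy, ← Category.assoc, lift_mulBy, lift_whiskerLeft,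
    Category.assoc]

variable {X : Over S} (a : MonAct (AMonS S M) X)

theorem eqv_mulBy {T : Over S} (p : T ⟶ AMonS S ↥N) (φ : AMonS S ↥N ⊗ T ⟶ X)
    (hφ : MonAct.IsEquivariant ((subAct S M N).prod (MonAct.trivial (AMonS S M) T)) a φ) :
    MonAct.IsEquivariant ((subAct S M N).prod (MonAct.trivial (AMonS S M) T)) a (mulBy p ≫ φ) := by
  rw [MonAct.mem_eqvHom_iff]
  intro T' g b t
  have h1 : lift (lift g (b * (t ≫ p)) ≫ (subAct S M N).act) t ≫ φ =
      lift g (lift (b * (t ≫ p)) t ≫ φ) ≫ a.act :=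
    (MonAct.mem_eqvHom_iff φ).mp hφ T' g (b * (t ≫ p)) t
  have h2 : lift g (b * (t ≫ p)) ≫ (subAct S M N).act =
      (g ≫ AMonS.map S N.subtype) * (b * (t ≫ p)) := lift_subAct'' N g _
  have h3 : lift g b ≫ (subAct S M N).act = (g ≫ AMonS.map S N.subtype) * b :=
    lift_subAct'' N g b
  have h4 : lift ((g ≫ AMonS.map S N.subtype) * b) t ≫ mulBy p =
      lift (lift g (b * (t ≫ p)) ≫ (subAct S M N).act) t := by
    rw [lift_mulBy, _root_.mul_assoc, ← h2]
  have h5 : lift b t ≫ mulBy p = lift (b * (t ≫ p)) t := lift_mulBy p b t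
  rw [h3, ← Category.assoc, h4, ← Category.assoc (lift b t), h5]
  exact h1

end mulBy

/-! ### the power point -/

section pow

variable {S : Scheme.{u}} {M : Type} [AddCommGroup M] {N F : AddSubmonoid M} (hF : IsFace N F)
  (ℓ : M →+ ℤ) (hℓN : ∀ n ∈ N, 0 ≤ ℓ n) (hℓF : ∀ n ∈ F, ℓ n = 0)
  (hℓ0 : ∀ n ∈ N, ℓ n = 0 → n ∈ F)

/-- the character `n ↦ c ^ ℓ n`. -/
def powChar {R : Type*} [CommMonoid R] (c : R) : Multiplicative ↥N →* R where
  toFun n := c ^ (ℓ (Multiplicative.toAdd n : ↥N)).toNat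
  map_one' := by
    change c ^ (ℓ ((0 : ↥N) : M)).toNat = 1
    simp
  map_mul' x y := by
    change c ^ (ℓ ((Multiplicative.toAdd x + Multiplicative.toAdd y : ↥N) : M)).toNat = _
    rw [AddSubmonoid.coe_add, map_add, Int.toNat_add (hℓN _ (Multiplicative.toAdd x).2)
      (hℓN _ (Multiplicative.toAdd y).2), pow_add]

theorem powChar_apply {R : Type*} [CommMonoid R] (c : R) (n : ↥N) :
    powChar ℓ hℓN c (Multiplicative.ofAdd n) = c ^ (ℓ (n : M)).toNat := rfl

/-- the point `c ^ ℓ` of `A(N)`. -/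
def powPt {T : Over S} (c : Γ(T.left, ⊤)) : T ⟶ AMonS S ↥N := ptOfMonHom (powChar ℓ hℓN c)

theorem comp_powPt {T T' : Over S} (t : T' ⟶ T) (c : Γ(T.left, ⊤)) :
    t ≫ powPt ℓ hℓN c = powPt ℓ hℓN (t.left.appTop c) := by
  unfold powPt
  have h : ((t.left.appTop.hom : Γ(T.left, ⊤) →* Γ(T'.left, ⊤)).comp (powChar ℓ hℓN c)) =
      powChar ℓ hℓN (t.left.appTop c) := by
    refine MonoidHom.ext fun n => ?_
    change t.left.appTop.hom (c ^ _) = (t.left.appTop c) ^ _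
    rw [map_pow]
  rw [ptOfMonHom_comp, h]

theorem powPt_one {T : Over S} : powPt (S := S) (T := T) ℓ hℓN 1 = 1 := by
  apply monHomOfPt_injective
  rw [powPt, monHomOfPt_ptOfMonHom, monHomOfPt_one]
  refine MonoidHom.ext fun n => ?_
  change (1 : Γ(T.left, ⊤)) ^ _ = 1
  rw [one_pow]

include hℓF in
theorem powPt_map {T : Over S} (c : Γ(T.left, ⊤)) :
    powPt ℓ hℓN c ≫ AMonS.map S (AddSubmonoid.inclusion hF.le) = 1 := by
  apply monHomOfPt_injective
  rw [monHomOfPt_map, powPt, monHomOfPt_ptOfMonHom, monHomOfPt_one]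
  refine MonoidHom.ext fun n => ?_
  change c ^ (ℓ ((AddSubmonoid.inclusion hF.le (Multiplicative.toAdd n) : ↥N) : M)).toNat = 1
  have : ℓ ((AddSubmonoid.inclusion hF.le (Multiplicative.toAdd n) : ↥N) : M) = 0 :=
    hℓF _ (Multiplicative.toAdd n).2
  rw [this, Int.toNat_zero, pow_zero]

include hℓF in
theorem mulBy_powPt_map {T : Over S} (c : Γ(T.left, ⊤)) :
    mulBy (powPt ℓ hℓN c) ≫ (AMonS.map S (AddSubmonoid.inclusion hF.le) ▷ T) =
      (AMonS.map S (AddSubmonoid.inclusion hF.le) ▷ T) := by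
  apply Magnet.hom_ext_lift₂
  intro T' b t
  rw [← Category.assoc, lift_mulBy, lift_whiskerRight, lift_whiskerRight, MonObj.mul_comp,
    Category.assoc, powPt_map hF ℓ hℓN hℓF, MonObj.comp_one, _root_.mul_one]

include hℓF in
theorem faceMap_mul_powPt {T : Over S} (c : Γ(T.left, ⊤)) (b : T ⟶ AMonS S ↥F) :
    (b ≫ AMonS.faceMap S hF) * powPt ℓ hℓN c = b ≫ AMonS.faceMap S hF := by
  apply monHomOfPt_injective
  refine MonoidHom.ext fun m => ?_
  let n : ↥N := Multiplicative.toAdd m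
  change monHomOfPt _ (Multiplicative.ofAdd n) = monHomOfPt _ (Multiplicative.ofAdd n)
  rw [monHomOfPt_mul, MonoidHom.mul_apply, powPt, monHomOfPt_ptOfMonHom, powChar_apply]
  by_cases h : (n : M) ∈ F
  · rw [hℓF _ h, Int.toNat_zero, pow_zero, _root_.mul_one]
  · rw [monHomOfPt_faceMap_of_not_mem _ _ n h, zero_mul]

include hℓF in
theorem faceMap_mulBy_powPt {T : Over S} (c : Γ(T.left, ⊤)) :
    (AMonS.faceMap S hF ▷ T) ≫ mulBy (powPt ℓ hℓN c) = (AMonS.faceMap S hF ▷ T) := by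
  apply Magnet.hom_ext_lift₂
  intro T' b t
  rw [lift_whiskerRight_assoc, lift_mulBy, lift_whiskerRight, comp_powPt,
    faceMap_mul_powPt hF ℓ hℓN hℓF]

include hℓF hℓ0 in
theorem mul_powPt_zero {T : Over S} (b : T ⟶ AMonS S ↥N) :
    b * powPt ℓ hℓN (0 : Γ(T.left, ⊤)) =
      (b ≫ AMonS.map S (AddSubmonoid.inclusion hF.le)) ≫ AMonS.faceMap S hF := by
  apply monHomOfPt_injective
  refine MonoidHom.ext fun m => ?_
  let n : ↥N := Multiplicative.toAdd m
  change monHomOfPt _ (Multiplicative.ofAdd n) = monHomOfPt _ (Multiplicative.ofAdd n)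
  rw [monHomOfPt_mul, MonoidHom.mul_apply, powPt, monHomOfPt_ptOfMonHom, powChar_apply]
  by_cases h : (n : M) ∈ F
  · rw [hℓF _ h, Int.toNat_zero, pow_zero, _root_.mul_one, monHomOfPt_faceMap_of_mem _ _ n h,
      monHomOfPt_map]
    rfl
  · rw [monHomOfPt_faceMap_of_not_mem _ _ n h]
    have h1 : ℓ (n : M) ≠ 0 := fun h0 => h (hℓ0 _ n.2 h0)
    have h2 : (ℓ (n : M)).toNat ≠ 0 := by
      have := hℓN _ n.2
      omega
    rw [zero_pow h2, mul_zero]

include hℓF hℓ0 in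
theorem mulBy_powPt_zero {T : Over S} :
    mulBy (powPt ℓ hℓN (0 : Γ(T.left, ⊤))) =
      (AMonS.map S (AddSubmonoid.inclusion hF.le) ▷ T) ≫ (AMonS.faceMap S hF ▷ T) := by
  apply Magnet.hom_ext_lift₂
  intro T' b t
  rw [lift_mulBy, lift_whiskerRight_assoc, lift_whiskerRight, comp_powPt, map_zero,
    mul_powPt_zero hF ℓ hℓN hℓF hℓ0]

end pow


/-! ### the homotopy -/

section homotopy

variable {S : Scheme.{u}} {M : Type} [AddCommGroup M] [AddGroup.FG M] {X : Over S}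
  (a : MonAct (AMonS S M) X) {N F : AddSubmonoid M}

theorem exists_homotopy (hN : N.FG) (hF : IsFace N F) :
    ∃ δ : ∀ T : Over S, (attr a N).obj (op T) → Γ(T.left, ⊤) → (attr a N).obj (op T),
      (∀ (T T' : Over S) (t : T' ⟶ T) (x : (attr a N).obj (op T)) (c : Γ(T.left, ⊤)),
          δ T' ((attr a N).map t.op x) (t.left.appTop c) = (attr a N).map t.op (δ T x c)) ∧
      (∀ (T : Over S) (x : (attr a N).obj (op T)),
          δ T x 0 = (attrMap a hF.le).app (op T) ((attrFace a hF).app (op T) x)) ∧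
      (∀ (T : Over S) (x : (attr a N).obj (op T)), δ T x 1 = x) ∧
      (∀ (T : Over S) (y : (attr a F).obj (op T)) (c : Γ(T.left, ⊤)),
          δ T ((attrMap a hF.le).app (op T) y) c = (attrMap a hF.le).app (op T) y) ∧
      (∀ (T : Over S) (x : (attr a N).obj (op T)) (c : Γ(T.left, ⊤)),
          (attrFace a hF).app (op T) (δ T x c) = (attrFace a hF).app (op T) x) := by
  obtain ⟨ℓ, hℓN, hℓF, hℓ0⟩ := Groth.Agent.Lib.Helper18.ExposedFace.exists_exposing hN hF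
  refine ⟨fun T x c => ⟨mulBy (powPt ℓ hℓN c) ≫ x.1, eqv_mulBy a _ x.1 x.2⟩, ?_, ?_, ?_, ?_, ?_⟩
  · intro T T' t x c
    apply Subtype.ext
    change mulBy (powPt ℓ hℓN (t.left.appTop c)) ≫ (AMonS S ↥N ◁ t) ≫ x.1 =
      (AMonS S ↥N ◁ t) ≫ mulBy (powPt ℓ hℓN c) ≫ x.1
    rw [← Category.assoc (AMonS S ↥N ◁ t), whiskerLeft_mulBy, comp_powPt, Category.assoc]
  · intro T x
    apply Subtype.ext
    change mulBy (powPt ℓ hℓN 0) ≫ x.1 =
      (AMonS.map S (AddSubmonoid.inclusion hF.le) ▷ T) ≫ (AMonS.faceMap S hF ▷ T) ≫ x.1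
    rw [mulBy_powPt_zero hF ℓ hℓN hℓF hℓ0, Category.assoc]
  · intro T x
    apply Subtype.ext
    change mulBy (powPt ℓ hℓN 1) ≫ x.1 = x.1
    rw [powPt_one, mulBy_one, Category.id_comp]
  · intro T y c
    apply Subtype.ext
    change mulBy (powPt ℓ hℓN c) ≫ (AMonS.map S (AddSubmonoid.inclusion hF.le) ▷ T) ≫ y.1 =
      (AMonS.map S (AddSubmonoid.inclusion hF.le) ▷ T) ≫ y.1
    rw [← Category.assoc, mulBy_powPt_map hF ℓ hℓN hℓF]
  · intro T x c
    apply Subtype.ext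
    change (AMonS.faceMap S hF ▷ T) ≫ mulBy (powPt ℓ hℓN c) ≫ x.1 =
      (AMonS.faceMap S hF ▷ T) ≫ x.1
    rw [← Category.assoc, faceMap_mulBy_powPt hF ℓ hℓN hℓF]

end homotopy

end Groth.Agent.Lib.Helper18.AttrHomotopy
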