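import Mathlib
import Groth.Prelude.Def_Magnet2
import Groth.Agent.Lib.Helper18.AdjMul

set_option autoImplicit false
set_option linter.unusedSectionVars false

namespace Groth.Agent.Lib.Helper18.BcAct

open CategoryTheory MonoidalCategory CartesianMonoidalCategory MonObj Functor
open Magnet Groth.Agent.Lib.Helper18.AdjMul

universe v₁ v₂ u₁ u₂

variable {C : Type u₁} [Category.{v₁} C] {D : Type u₂} [Category.{v₂} D]
  [CartesianMonoidalCategory C] [CartesianMonoidalCategory D]
  {L : C ⥤ D} {F : D ⥤ C} (adj : L ⊣ F) [F.Monoidal]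

open scoped Obj

variable {G X : D} [MonObj G] (a : MonAct G X)

/-- the base-changed action morphism, defined through the adjunction. -/
noncomputable def bcActHom : F.obj G ⊗ F.obj X ⟶ F.obj X :=
  adj.homEquiv _ _ (lift ((adj.homEquiv _ _).symm (fst (F.obj G) (F.obj X)))
    ((adj.homEquiv _ _).symm (snd (F.obj G) (F.obj X))) ≫ a.act)

theorem lift_bcActHom {T : C} (g : T ⟶ F.obj G) (x : T ⟶ F.obj X) :
    lift g x ≫ bcActHom adj a =
      adj.homEquiv _ _ (lift ((adj.homEquiv _ _).symm g) ((adj.homEquiv _ _).symm x) ≫ a.act) := by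
  unfold bcActHom
  rw [← adj.homEquiv_naturality_left, ← Category.assoc]
  congr 2
  apply CartesianMonoidalCategory.hom_ext
  · rw [Category.assoc, lift_fst, lift_fst, ← adj.homEquiv_naturality_left_symm, lift_fst]
  · rw [Category.assoc, lift_snd, lift_snd, ← adj.homEquiv_naturality_left_symm, lift_snd]

/-- the base-changed action. -/
noncomputable def bcAct : MonAct (F.obj G) (F.obj X) :=
  MonAct.mk' (bcActHom adj a)
    (fun T x => by
      rw [lift_bcActHom, homEquiv_symm_one, a.lift_one_act, Equiv.apply_symm_apply])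
    (fun T g h x => by
      rw [lift_bcActHom, lift_bcActHom, lift_bcActHom, homEquiv_symm_mul, a.lift_mul_act,
        Equiv.symm_apply_apply])

theorem lift_bcAct {T : C} (g : T ⟶ F.obj G) (x : T ⟶ F.obj X) :
    lift g x ≫ (bcAct adj a).act =
      adj.homEquiv _ _ (lift ((adj.homEquiv _ _).symm g) ((adj.homEquiv _ _).symm x) ≫ a.act) :=
  lift_bcActHom adj a g x

/-- if the base-changed action is trivial, the action is trivial on all test objects `L.obj T`. -/
theorem act_of_bcAct {T : C} (h : ∀ (g : T ⟶ F.obj G) (x : T ⟶ F.obj X),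
    lift g x ≫ (bcAct adj a).act = x) (g : L.obj T ⟶ G) (x : L.obj T ⟶ X) :
    lift g x ≫ a.act = x := by
  have h1 := h (adj.homEquiv _ _ g) (adj.homEquiv _ _ x)
  rw [lift_bcAct, Equiv.symm_apply_apply, Equiv.symm_apply_apply] at h1
  exact (adj.homEquiv _ _).injective h1

/-- if the action is trivial on `L.obj T`, the base-changed action is trivial on `T`. -/
theorem bcAct_of_act {T : C} (h : ∀ (g : L.obj T ⟶ G) (x : L.obj T ⟶ X), lift g x ≫ a.act = x)
    (g : T ⟶ F.obj G) (x : T ⟶ F.obj X) : lift g x ≫ (bcAct adj a).act = x := by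
  rw [lift_bcAct, h, Equiv.apply_symm_apply]

end Groth.Agent.Lib.Helper18.BcAct
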