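import Groth.Agent.Lib.Helper90.HomogSection2
import Groth.Agent.Lib.Helper84.PlanePoints

set_option autoImplicit false
universe u

namespace Groth.Agent.Lib.Helper18.Bez

open MvPolynomial Module Groth.Agent.Lib.Helper90.HomogSection

attribute [local instance] MvPolynomial.gradedAlgebra

variable {k : Type u} [Field k]

theorem hilb_bot3 (m : ℕ) :
    hilb (⊥ : Ideal (MvPolynomial (Fin 3) k)) m = ((m + 2).choose 2 : ℤ) := by
  have hp : part (⊥ : Ideal (MvPolynomial (Fin 3) k)) m = ⊥ := by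
    unfold part
    rw [eq_bot_iff]
    rintro x ⟨hx, -⟩
    exact hx
  unfold hilb
  rw [hp, finrank_bot, Groth.Agent.Lib.Helper84.finrank_homogeneousSubmodule]
  have h1 : Fintype.card (Fin 3) + m - 1 = m + 2 := by
    rw [Fintype.card_fin]
    omega
  rw [h1, Nat.choose_symm_add]
  simp

theorem two_mul_choose (x : ℕ) : (2 : ℤ) * ((x + 2).choose 2 : ℤ) = ((x : ℤ) + 2) * ((x : ℤ) + 1) := by
  have h := Nat.choose_two_right (x + 2)
  have hev : 2 ∣ (x + 2) * (x + 2 - 1) := by
    have : x + 2 - 1 = x + 1 := by omega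
    rw [this, mul_comm]
    exact (Nat.even_mul_succ_self (x + 1)).two_dvd
  have h2 : 2 * (x + 2).choose 2 = (x + 2) * (x + 1) := by
    rw [h, Nat.mul_div_cancel' hev]
    congr 1
  have h3 : ((2 * (x + 2).choose 2 : ℕ) : ℤ) = (((x + 2) * (x + 1) : ℕ) : ℤ) := by rw [h2]
  push_cast at h3
  exact h3

theorem hilb_span_singleton (f : MvPolynomial (Fin 3) k) (n : ℕ) (hf : f.IsHomogeneous n) (hf0 : f ≠ 0)
    (m : ℕ) (hm : n ≤ m) :
    hilb (Ideal.span {f}) m = ((m + 2).choose 2 : ℤ) - ((m - n + 2).choose 2 : ℤ) := by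
  have h := hilb_sup_span' (k := k) (σ := Fin 3) (I := ⊥) (Ideal.IsHomogeneous.bot _) hf hf0
    (fun h hh => by
      rw [Ideal.mem_bot] at hh ⊢
      exact (mul_eq_zero.mp hh).resolve_left hf0) hm
  rw [bot_sup_eq, hilb_bot3, hilb_bot3] at h
  exact h

theorem hilb_ci (f g : MvPolynomial (Fin 3) k) (n m : ℕ) (hf : f.IsHomogeneous n) (hg : g.IsHomogeneous m)
    (hf0 : f ≠ 0) (hg0 : g ≠ 0) (hfg : IsRelPrime f g) (d : ℕ) (hd : n + m ≤ d) :
    hilb (Ideal.span ({f, g} : Set (MvPolynomial (Fin 3) k))) d = (n : ℤ) * (m : ℤ) := by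
  have hspan : Ideal.span ({f, g} : Set (MvPolynomial (Fin 3) k)) = Ideal.span {f} ⊔ Ideal.span {g} :=
    Ideal.span_insert f {g}
  have hIh : (Ideal.span ({f} : Set (MvPolynomial (Fin 3) k))).IsHomogeneous
      (homogeneousSubmodule (Fin 3) k) := by
    apply Ideal.homogeneous_span
    intro x hx
    rw [Set.mem_singleton_iff] at hx
    rw [hx]
    exact ⟨n, hf⟩
  have hreg : ∀ h : MvPolynomial (Fin 3) k, g * h ∈ Ideal.span {f} → h ∈ Ideal.span {f} := by
    intro h hh
    rw [Ideal.mem_span_singleton] at hh ⊢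
    exact hfg.dvd_of_dvd_mul_left hh
  have h := hilb_sup_span' (k := k) (σ := Fin 3) hIh hg hg0 hreg (m := d) (by omega)
  rw [hspan, h, hilb_span_singleton f n hf hf0 d (by omega),
    hilb_span_singleton f n hf hf0 (d - m) (by omega)]
  obtain ⟨e, rfl⟩ : ∃ e, d = n + m + e := ⟨d - (n + m), by omega⟩
  have e1 : n + m + e - n = m + e := by omega
  have e2 : n + m + e - m = n + e := by omega
  have e3 : n + e - n = e := by omega
  rw [e1, e2, e3]
  have t1 := two_mul_choose (n + m + e)
  have t2 := two_mul_choose (m + e)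
  have t3 := two_mul_choose (n + e)
  have t4 := two_mul_choose e
  push_cast at t1 t2 t3 t4
  have : (2 : ℤ) * (((n + m + e + 2).choose 2 : ℤ) - ((m + e + 2).choose 2 : ℤ)
      - (((n + e + 2).choose 2 : ℤ) - ((e + 2).choose 2 : ℤ))) = 2 * ((n : ℤ) * (m : ℤ)) := by
    linear_combination t1 - t2 - t3 + t4
  exact mul_left_cancel₀ (by norm_num : (2 : ℤ) ≠ 0) this

theorem finrank_quot_eq_hilb (I : Ideal (MvPolynomial (Fin 3) k)) (d : ℕ) :
    (Module.finrank k
        (↥(MvPolynomial.homogeneousSubmodule (Fin 3) k d) ⧸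
          Submodule.comap (MvPolynomial.homogeneousSubmodule (Fin 3) k d).subtype
            (I.restrictScalars k)) : ℤ) = hilb I d := by
  have h1 := Submodule.finrank_quotient_add_finrank
    (Submodule.comap (MvPolynomial.homogeneousSubmodule (Fin 3) k d).subtype (I.restrictScalars k))
  have hle : part I d ≤ MvPolynomial.homogeneousSubmodule (Fin 3) k d := inf_le_right
  have e := Submodule.comapSubtypeEquivOfLe hle
  have hc : Submodule.comap (MvPolynomial.homogeneousSubmodule (Fin 3) k d).subtype (part I d)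
      = Submodule.comap (MvPolynomial.homogeneousSubmodule (Fin 3) k d).subtype (I.restrictScalars k) := by
    unfold part
    rw [Submodule.comap_inf, Submodule.comap_subtype_self, inf_top_eq]
  rw [hc] at e
  rw [e.finrank_eq] at h1
  unfold hilb
  omega

end Groth.Agent.Lib.Helper18.Bez
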