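import Mathlib.Algebra.MvPolynomial.Equiv
import Mathlib.RingTheory.MvPolynomial.Homogeneous
import Mathlib.Algebra.Polynomial.AlgebraMap
import Mathlib.Algebra.Polynomial.Eval.Degree
import Mathlib.Tactic

set_option autoImplicit false
universe u

namespace Groth.Agent.Lib.Helper18.Bez

open MvPolynomial

variable {k : Type u} [Field k]

noncomputable def phi (t : MvPolynomial (Fin 2) k) : MvPolynomial (Fin 3) k →ₐ[k] MvPolynomial (Fin 2) k :=
  aeval (Fin.cons (X 0) (Fin.cons (X 1) (Fin.cons t Fin.elim0)) : Fin 3 → MvPolynomial (Fin 2) k)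

noncomputable def iota : MvPolynomial (Fin 2) k →ₐ[k] MvPolynomial (Fin 3) k := rename Fin.castSucc

theorem phi_X0 (t : MvPolynomial (Fin 2) k) : phi t (X 0) = X 0 := by
  unfold phi
  rw [aeval_X]
  rfl

theorem phi_X1 (t : MvPolynomial (Fin 2) k) : phi t (X 1) = X 1 := by
  unfold phi
  rw [aeval_X]
  rfl

theorem phi_X2 (t : MvPolynomial (Fin 2) k) : phi t (X 2) = t := by
  unfold phi
  rw [aeval_X]
  rfl

theorem phi_iota (t : MvPolynomial (Fin 2) k) (p : MvPolynomial (Fin 2) k) : phi t (iota p) = p := by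
  unfold phi iota
  rw [aeval_rename]
  have : ((Fin.cons (X 0) (Fin.cons (X 1) (Fin.cons t Fin.elim0)) : Fin 3 → MvPolynomial (Fin 2) k) ∘ Fin.castSucc)
      = X := by
    funext i
    fin_cases i <;> rfl
  rw [this, aeval_X_left]
  rfl

noncomputable def EE : MvPolynomial (Fin 3) k ≃ₐ[k] Polynomial (MvPolynomial (Fin 2) k) :=
  (renameEquiv k (finRotate 3)).trans (finSuccEquiv k 2)

theorem EE_X2 : EE (X 2 : MvPolynomial (Fin 3) k) = Polynomial.X := by
  unfold EE
  rw [AlgEquiv.trans_apply, renameEquiv_apply, rename_X]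
  have : finRotate 3 2 = 0 := by decide
  rw [this, finSuccEquiv_X_zero]

theorem EE_X0 : EE (X 0 : MvPolynomial (Fin 3) k) = Polynomial.C (X 0) := by
  unfold EE
  rw [AlgEquiv.trans_apply, renameEquiv_apply, rename_X]
  have : finRotate 3 0 = Fin.succ 0 := by decide
  rw [this, finSuccEquiv_X_succ]

theorem EE_X1 : EE (X 1 : MvPolynomial (Fin 3) k) = Polynomial.C (X 1) := by
  unfold EE
  rw [AlgEquiv.trans_apply, renameEquiv_apply, rename_X]
  have : finRotate 3 1 = Fin.succ 1 := by decide
  rw [this, finSuccEquiv_X_succ]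

theorem phi_eq_eval (t : MvPolynomial (Fin 2) k) (h : MvPolynomial (Fin 3) k) :
    phi t h = Polynomial.eval t (EE h) := by
  have key : phi t = ((Polynomial.aeval (R := MvPolynomial (Fin 2) k) t).restrictScalars k).comp
      (EE (k := k)).toAlgHom := by
    apply MvPolynomial.algHom_ext
    intro i
    fin_cases i
    · show phi t (X 0) = Polynomial.aeval t (EE (X 0))
      rw [phi_X0, EE_X0, Polynomial.aeval_C]
      rfl
    · show phi t (X 1) = Polynomial.aeval t (EE (X 1))
      rw [phi_X1, EE_X1, Polynomial.aeval_C]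
      rfl
    · show phi t (X 2) = Polynomial.aeval t (EE (X 2))
      rw [phi_X2, EE_X2, Polynomial.aeval_X]
  rw [key]
  rfl

theorem X2_dvd_of_phi_zero (a : MvPolynomial (Fin 3) k) (h : phi 0 a = 0) : (X 2 : MvPolynomial (Fin 3) k) ∣ a := by
  rw [phi_eq_eval, ← Polynomial.coeff_zero_eq_eval_zero, ← Polynomial.X_dvd_iff] at h
  have := map_dvd (EE (k := k)).symm h
  rw [AlgEquiv.symm_apply_apply, ← EE_X2, AlgEquiv.symm_apply_apply] at this
  exact this

theorem EE_coeff_homog (h : MvPolynomial (Fin 3) k) (e : ℕ) (hh : h.IsHomogeneous e) (c : ℕ) (hc : c ≤ e) :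
    ((EE h).coeff c).IsHomogeneous (e - c) := by
  unfold EE
  rw [AlgEquiv.trans_apply, renameEquiv_apply]
  exact (hh.rename_isHomogeneous (f := finRotate 3)).finSuccEquiv_coeff_isHomogeneous c (e - c) (by omega)

theorem EE_natDegree_le (h : MvPolynomial (Fin 3) k) (e : ℕ) (hh : h.IsHomogeneous e) :
    (EE h).natDegree ≤ e := by
  unfold EE
  rw [AlgEquiv.trans_apply, renameEquiv_apply, natDegree_finSuccEquiv]
  exact (degreeOf_le_totalDegree _ _).trans (hh.rename_isHomogeneous (f := finRotate 3)).totalDegree_le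

theorem phi_one_injective_on (h : MvPolynomial (Fin 3) k) (e : ℕ) (hh : h.IsHomogeneous e)
    (h0 : phi 1 h = 0) : h = 0 := by
  rw [phi_eq_eval, Polynomial.eval_eq_sum_range' (Nat.lt_succ_of_le (EE_natDegree_le h e hh))] at h0
  simp only [one_pow, mul_one] at h0
  have hq : EE h = 0 := by
    ext1 c
    rw [Polynomial.coeff_zero]
    by_cases hc : c ≤ e
    · have := congrArg (homogeneousComponent (e - c)) h0
      rw [map_sum, map_zero] at this
      rw [Finset.sum_eq_single c] at this
      · rwa [homogeneousComponent_eq_self (EE_coeff_homog h e hh c hc)] at this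
      · intro c' hc' hne
        rw [Finset.mem_range] at hc'
        rw [homogeneousComponent_of_mem (EE_coeff_homog h e hh c' (by omega)), if_neg (by omega)]
      · intro hn
        exfalso
        apply hn
        rw [Finset.mem_range]
        omega
    · exact Polynomial.coeff_eq_zero_of_natDegree_lt
        (lt_of_le_of_lt (EE_natDegree_le h e hh) (by omega))
  have := congrArg (EE (k := k)).symm hq
  rwa [AlgEquiv.symm_apply_apply, map_zero] at this

noncomputable def Hom (e : ℕ) (p : MvPolynomial (Fin 2) k) : MvPolynomial (Fin 3) k :=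
  ∑ s ∈ Finset.range (e + 1), iota (homogeneousComponent s p) * (X 2) ^ (e - s)

theorem Hom_isHomogeneous (e : ℕ) (p : MvPolynomial (Fin 2) k) : (Hom e p).IsHomogeneous e := by
  unfold Hom
  apply IsHomogeneous.sum
  intro s hs
  rw [Finset.mem_range] at hs
  have h1 : (iota (homogeneousComponent s p) : MvPolynomial (Fin 3) k).IsHomogeneous s :=
    (homogeneousComponent_isHomogeneous s p).rename_isHomogeneous
  have h2 := h1.mul (isHomogeneous_X_pow (R := k) (2 : Fin 3) (e - s))
  rwa [show s + (e - s) = e by omega] at h2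

theorem phi_one_Hom (e : ℕ) (p : MvPolynomial (Fin 2) k) (hp : p.totalDegree ≤ e) :
    phi 1 (Hom e p) = p := by
  unfold Hom
  rw [map_sum]
  have : ∀ s ∈ Finset.range (e + 1), phi 1 (iota (homogeneousComponent s p) * (X 2) ^ (e - s))
      = homogeneousComponent s p := by
    intro s _
    rw [map_mul, map_pow, phi_X2, one_pow, mul_one, phi_iota]
  rw [Finset.sum_congr rfl this]
  conv_rhs => rw [← sum_homogeneousComponent p]
  symm
  apply Finset.sum_subset
  · intro s hs
    rw [Finset.mem_range] at hs ⊢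
    omega
  · intro s _ hs
    rw [Finset.mem_range, not_lt] at hs
    exact homogeneousComponent_eq_zero s p (by omega)

end Groth.Agent.Lib.Helper18.Bez
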