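import Groth.Agent.Lib.Helper18.Bez1
import Groth.Agent.Lib.Helper18.Bez2
import Mathlib.Algebra.MvPolynomial.Nilpotent

set_option autoImplicit false
universe u

namespace Groth.Agent.Lib.Helper18.Bez

open MvPolynomial

variable {k : Type u} [Field k]

theorem not_isUnit_of_homog (g0 : MvPolynomial (Fin 2) k) (m : ℕ) (hm : 0 < m) (hg : g0.IsHomogeneous m) :
    ¬ IsUnit g0 := by
  intro hu
  rw [isUnit_iff_eq_C_of_isReduced] at hu
  obtain ⟨c, hc, rfl⟩ := hu
  have hc0 : c ≠ 0 := hc.ne_zero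
  have h1 : coeff 0 (C c : MvPolynomial (Fin 2) k) ≠ 0 := by
    rw [coeff_zero_C]
    exact hc0
  have := hg h1
  simp at this
  omega

theorem phi_zero_homog (g : MvPolynomial (Fin 3) k) (m : ℕ) (hg : g.IsHomogeneous m) :
    (phi 0 g).IsHomogeneous m := by
  unfold phi
  have := hg.aeval (S := k) (n := 1)
    (Fin.cons (X 0) (Fin.cons (X 1) (Fin.cons 0 Fin.elim0)) : Fin 3 → MvPolynomial (Fin 2) k)
    (by
      intro i
      fin_cases i
      · exact isHomogeneous_X k 0
      · exact isHomogeneous_X k 1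
      · exact isHomogeneous_zero _ _ _)
  rwa [one_mul] at this

theorem T_nzd (f g : MvPolynomial (Fin 3) k) (n m : ℕ) (hf : f.IsHomogeneous n) (hg : g.IsHomogeneous m)
    (hn : 0 < n) (hm : 0 < m) (hT : IsRelPrime (phi 0 f) (phi 0 g)) (h : MvPolynomial (Fin 3) k)
    (hh : X 2 * h ∈ Ideal.span ({f, g} : Set (MvPolynomial (Fin 3) k))) :
    h ∈ Ideal.span ({f, g} : Set (MvPolynomial (Fin 3) k)) := by
  rw [Ideal.mem_span_pair] at hh ⊢
  obtain ⟨a, b, hab⟩ := hh
  have hf0 : phi 0 f ≠ 0 := by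
    intro h0
    rw [h0, isRelPrime_zero_left] at hT
    exact not_isUnit_of_homog _ m hm (phi_zero_homog g m hg) hT
  have e0 := congrArg (phi 0) hab
  rw [map_add, map_mul, map_mul, map_mul, phi_X2, zero_mul] at e0
  have hdvd : phi 0 f ∣ phi 0 b * phi 0 g := by
    refine ⟨- phi 0 a, ?_⟩
    linear_combination e0
  obtain ⟨c, hc⟩ := hT.dvd_of_dvd_mul_right hdvd
  have ha : phi 0 a = - (c * phi 0 g) := by
    have : phi 0 f * (phi 0 a + c * phi 0 g) = 0 := by
      rw [hc] at e0
      linear_combination e0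
    rcases mul_eq_zero.mp this with h1 | h1
    · exact absurd h1 hf0
    · linear_combination h1
  have h1 : phi 0 (a + iota c * g) = 0 := by
    rw [map_add, map_mul, phi_iota, ha]
    ring
  have h2 : phi 0 (b - iota c * f) = 0 := by
    rw [map_sub, map_mul, phi_iota, hc]
    ring
  obtain ⟨a', ha'⟩ := X2_dvd_of_phi_zero _ h1
  obtain ⟨b', hb'⟩ := X2_dvd_of_phi_zero _ h2
  refine ⟨a', b', ?_⟩
  have hX : (X 2 : MvPolynomial (Fin 3) k) ≠ 0 := X_ne_zero 2
  apply mul_left_cancel₀ hX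
  rw [← hab]
  linear_combination -f * ha' - g * hb'

theorem T_pow_nzd (f g : MvPolynomial (Fin 3) k) (n m : ℕ) (hf : f.IsHomogeneous n) (hg : g.IsHomogeneous m)
    (hn : 0 < n) (hm : 0 < m) (hT : IsRelPrime (phi 0 f) (phi 0 g)) (r : ℕ) (h : MvPolynomial (Fin 3) k)
    (hh : X 2 ^ r * h ∈ Ideal.span ({f, g} : Set (MvPolynomial (Fin 3) k))) :
    h ∈ Ideal.span ({f, g} : Set (MvPolynomial (Fin 3) k)) := by
  induction r with
  | zero => simpa using hh
  | succ r ih =>
    apply ih
    apply T_nzd f g n m hf hg hn hm hT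
    rw [← mul_assoc, ← pow_succ']
    exact hh

theorem mem_of_phi_mem (f g : MvPolynomial (Fin 3) k) (n m : ℕ) (hf : f.IsHomogeneous n) (hg : g.IsHomogeneous m)
    (hn : 0 < n) (hm : 0 < m) (hT : IsRelPrime (phi 0 f) (phi 0 g)) (d : ℕ) (h : MvPolynomial (Fin 3) k)
    (hh : h.IsHomogeneous d)
    (hphi : phi 1 h ∈ Ideal.span ({phi 1 f, phi 1 g} : Set (MvPolynomial (Fin 2) k))) :
    h ∈ Ideal.span ({f, g} : Set (MvPolynomial (Fin 3) k)) := by
  rw [Ideal.mem_span_pair] at hphi
  obtain ⟨a, b, hab⟩ := hphi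
  set E := d + a.totalDegree + b.totalDegree + n + m with hE
  have hA := Hom_isHomogeneous (k := k) (E - n) a
  have hB := Hom_isHomogeneous (k := k) (E - m) b
  have hw : (X 2 ^ (E - d) * h - (Hom (E - n) a * f + Hom (E - m) b * g)).IsHomogeneous E := by
    apply IsHomogeneous.sub
    · have := (isHomogeneous_X_pow (R := k) (2 : Fin 3) (E - d)).mul hh
      rwa [show E - d + d = E by omega] at this
    · apply IsHomogeneous.add
      · have := hA.mul hf
        rwa [show E - n + n = E by omega] at this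
      · have := hB.mul hg
        rwa [show E - m + m = E by omega] at this
  have hw0 : phi 1 (X 2 ^ (E - d) * h - (Hom (E - n) a * f + Hom (E - m) b * g)) = 0 := by
    rw [map_sub, map_add, map_mul, map_mul, map_mul, map_pow, phi_X2, one_pow, one_mul,
      phi_one_Hom _ a (by omega), phi_one_Hom _ b (by omega), hab, sub_self]
  have := phi_one_injective_on _ E hw hw0
  apply T_pow_nzd f g n m hf hg hn hm hT (E - d) h
  rw [sub_eq_zero.mp this]
  exact Ideal.add_mem _ (Ideal.mul_mem_left _ _ (Ideal.subset_span (by simp)))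
    (Ideal.mul_mem_left _ _ (Ideal.subset_span (by simp)))

end Groth.Agent.Lib.Helper18.Bez
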