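import Mathlib
import Groth.Agent.Lib.Helper18.Conic3

set_option autoImplicit false

namespace Groth.Agent.Lib.Helper18.ConicClass

open MvPolynomial

variable {k : Type*} [Field k]

noncomputable def lin (a : Fin 3 → k) : MvPolynomial (Fin 3) k := ∑ i : Fin 3, a i • X i

theorem eval_lin (a u : Fin 3 → k) : eval u (lin a) = ∑ i, a i * u i := by
  simp [lin, smul_eval]

theorem constantCoeff_lin (a : Fin 3 → k) : constantCoeff (lin a) = 0 := by
  simp [lin, smul_eq_C_mul]

theorem lin_eq_zero_iff (a : Fin 3 → k) : lin a = 0 ↔ a = 0 := by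
  constructor
  · intro h
    funext i
    have := congrArg (eval (Pi.single i 1)) h
    rw [eval_lin] at this
    simpa [Pi.single_apply] using this
  · rintro rfl
    simp [lin]

theorem not_isUnit_lin (a : Fin 3 → k) : ¬ IsUnit (lin a) := by
  intro h
  have := h.map (constantCoeff (σ := Fin 3) (R := k))
  rw [constantCoeff_lin] at this
  exact not_isUnit_zero this

noncomputable def quad (Q : Matrix (Fin 3) (Fin 3) k) : MvPolynomial (Fin 3) k :=
  ∑ i : Fin 3, ∑ j : Fin 3, Q i j • (X i * X j)

theorem eval_quad (Q : Matrix (Fin 3) (Fin 3) k) (u : Fin 3 → k) :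
    eval u (quad Q) = ∑ i, ∑ j, Q i j * (u i * u j) := by
  simp [quad, smul_eval]

theorem bilin_of_eval [CharZero k] (Q : Matrix (Fin 3) (Fin 3) k) (hQ : Q.IsSymm) (a b : Fin 3 → k)
    (h : quad Q = lin a * lin b) (i j : Fin 3) :
    Q i j = (a i * b j + a j * b i) / 2 := by
  have hQs : ∀ i j, Q j i = Q i j := fun i j => by
    have := congrFun (congrFun hQ i) j
    simpa [Matrix.transpose_apply] using this
  have key : ∀ u : Fin 3 → k, ∑ i, ∑ j, Q i j * (u i * u j) = (∑ i, a i * u i) * (∑ i, b i * u i) := by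
    intro u
    rw [← eval_quad, h, map_mul, eval_lin, eval_lin]
  have h1 := key (Pi.single i 1 + Pi.single j 1)
  have h2 := key (Pi.single i 1)
  have h3 := key (Pi.single j 1)
  have e01 := hQs 0 1
  have e02 := hQs 0 2
  have e12 := hQs 1 2
  have h2' : (2 : k) ≠ 0 := two_ne_zero
  field_simp
  fin_cases i <;> fin_cases j <;>
    simp [Fin.sum_univ_three, Pi.single_apply] at h1 h2 h3 ⊢ <;>
    first
    | linear_combination h2
    | linear_combination 2 * h2
    | linear_combination (2:k) * h2
    | linear_combination h1 - h2 - h3 + e01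
    | linear_combination h1 - h2 - h3 - e01
    | linear_combination h1 - h2 - h3 + e02
    | linear_combination h1 - h2 - h3 - e02
    | linear_combination h1 - h2 - h3 + e12
    | linear_combination h1 - h2 - h3 - e12

theorem small_exp (m : Fin 3 →₀ ℕ) (h : m 0 + m 1 + m 2 ≤ 1) :
    m = 0 ∨ ∃ i, m = Finsupp.single i 1 := by
  by_cases h0 : m 0 = 1
  · right
    refine ⟨0, ?_⟩
    ext j
    fin_cases j <;> simp [Finsupp.single_apply] <;> omega
  by_cases h1 : m 1 = 1
  · right
    refine ⟨1, ?_⟩
    ext j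
    fin_cases j <;> simp [Finsupp.single_apply] <;> omega
  by_cases h2 : m 2 = 1
  · right
    refine ⟨2, ?_⟩
    ext j
    fin_cases j <;> simp [Finsupp.single_apply] <;> omega
  left
  ext j
  fin_cases j <;> simp <;> omega

theorem expand_deg_one (g : MvPolynomial (Fin 3) k) (hg : g.totalDegree ≤ 1) :
    g = C (coeff 0 g) + lin (fun i => coeff (Finsupp.single i 1) g) := by
  classical
  ext m
  simp only [coeff_add, coeff_C, lin, coeff_sum, coeff_smul, coeff_X', smul_eq_mul]
  by_cases hm : m 0 + m 1 + m 2 ≤ 1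
  · rcases small_exp m hm with rfl | ⟨i, rfl⟩
    · have : ∀ i : Fin 3, Finsupp.single i 1 ≠ (0 : Fin 3 →₀ ℕ) := by
        intro i
        simp
      simp [this]
    · have h0 : (0 : Fin 3 →₀ ℕ) ≠ Finsupp.single i 1 := by
        intro h
        have := congrArg (fun f => f i) h
        simp at this
      simp only [if_neg h0, zero_add]
      rw [Finset.sum_eq_single i]
      · simp
      · intro j _ hj
        have : Finsupp.single j 1 ≠ Finsupp.single i 1 := by
          intro h
          have := congrArg (fun f => f i) h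
          simp [Finsupp.single_apply, hj] at this
        simp [this]
      · simp
  · push Not at hm
    have h0 : coeff m g = 0 := by
      apply coeff_eq_zero_of_totalDegree_lt
      have : ∑ i ∈ m.support, m i = m 0 + m 1 + m 2 := by
        have := Finsupp.sum_fintype m (fun _ n => n) (by simp)
        rw [Finsupp.sum] at this
        rw [this, Fin.sum_univ_three]
      rw [this]
      omega
    rw [h0]
    have hne0 : (0 : Fin 3 →₀ ℕ) ≠ m := by
      rintro rfl
      simp at hm
    have hne : ∀ i : Fin 3, Finsupp.single i 1 ≠ m := by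
      rintro i rfl
      fin_cases i <;> simp [Finsupp.single_apply] at hm
    simp [hne0, hne]

theorem quad_isHomogeneous (Q : Matrix (Fin 3) (Fin 3) k) : (quad Q).IsHomogeneous 2 := by
  apply IsHomogeneous.sum
  intro i _
  apply IsHomogeneous.sum
  intro j _
  rw [smul_eq_C_mul]
  apply IsHomogeneous.C_mul
  exact (isHomogeneous_X k i).mul (isHomogeneous_X k j)

theorem quad_ne_zero [CharZero k] (Q : Matrix (Fin 3) (Fin 3) k) (hQ : Q.IsSymm) (hQ0 : Q ≠ 0) :
    quad Q ≠ 0 := by
  intro h
  apply hQ0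
  have h' : quad Q = lin (0 : Fin 3 → k) * lin 0 := by
    rw [h, (lin_eq_zero_iff 0).mpr rfl, zero_mul]
  ext i j
  rw [bilin_of_eval Q hQ 0 0 h' i j]
  simp

theorem eval_neg_quad (Q : Matrix (Fin 3) (Fin 3) k) (u : Fin 3 → k) :
    eval (-u) (quad Q) = eval u (quad Q) := by
  rw [eval_quad, eval_quad]
  simp

theorem exists_lin_factor [CharZero k] (Q : Matrix (Fin 3) (Fin 3) k) (hQ : Q.IsSymm) (hQ0 : Q ≠ 0)
    (hirr : ¬ Irreducible (quad Q)) : ∃ a b : Fin 3 → k, quad Q = lin a * lin b := by
  have hf0 := quad_ne_zero Q hQ hQ0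
  have hdeg : (quad Q).totalDegree = 2 := (quad_isHomogeneous Q).totalDegree hf0
  have hnu : ¬ IsUnit (quad Q) := by
    intro h
    have h1 := h.map (constantCoeff (σ := Fin 3) (R := k))
    have h2 : constantCoeff (quad Q) = 0 := by
      simp [quad, smul_eq_C_mul]
    rw [h2] at h1
    exact not_isUnit_zero h1
  rw [irreducible_iff] at hirr
  push Not at hirr
  obtain ⟨g, h, hgh, hg, hh⟩ := hirr hnu
  have hg0 : g ≠ 0 := by
    rintro rfl
    exact hf0 (by rw [hgh, zero_mul])
  have hh0 : h ≠ 0 := by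
    rintro rfl
    exact hf0 (by rw [hgh, mul_zero])
  have hd : g.totalDegree + h.totalDegree = 2 := by
    rw [← totalDegree_mul_of_isDomain hg0 hh0, ← hgh, hdeg]
  have hpos : ∀ p : MvPolynomial (Fin 3) k, p ≠ 0 → ¬ IsUnit p → 1 ≤ p.totalDegree := by
    intro p hp0 hpu
    by_contra hlt
    push Not at hlt
    have hz : p.totalDegree = 0 := by omega
    rw [totalDegree_eq_zero_iff_eq_C] at hz
    apply hpu
    rw [hz]
    apply IsUnit.map
    rw [isUnit_iff_ne_zero]
    intro hc
    apply hp0
    rw [hz, hc, map_zero]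
  have hg1 : g.totalDegree ≤ 1 := by
    have := hpos h hh0 hh
    omega
  have hh1 : h.totalDegree ≤ 1 := by
    have := hpos g hg0 hg
    omega
  have eg := expand_deg_one g hg1
  have eh := expand_deg_one h hh1
  set g0 := coeff 0 g
  set h0 := coeff 0 h
  set a : Fin 3 → k := fun i => coeff (Finsupp.single i 1) g
  set b : Fin 3 → k := fun i => coeff (Finsupp.single i 1) h
  have hev : ∀ u : Fin 3 → k, eval u (quad Q) = (g0 + ∑ i, a i * u i) * (h0 + ∑ i, b i * u i) := by
    intro u
    rw [hgh, map_mul, eg, eh, map_add, map_add, eval_C, eval_C, eval_lin, eval_lin]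
  have h00 : g0 * h0 = 0 := by
    have := hev 0
    rw [eval_quad] at this
    simpa using this.symm
  have hcross : ∀ u : Fin 3 → k, g0 * (∑ i, b i * u i) + h0 * (∑ i, a i * u i) = 0 := by
    intro u
    have e1 := hev u
    have e2 := hev (-u)
    rw [eval_neg_quad, e1] at e2
    simp only [Pi.neg_apply, mul_neg, Finset.sum_neg_distrib] at e2
    have h2 : (2 : k) ≠ 0 := two_ne_zero
    have : 2 * (g0 * (∑ i, b i * u i) + h0 * (∑ i, a i * u i)) = 0 := by
      linear_combination e2
    exact (mul_eq_zero.mp this).resolve_left h2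
  have hvec : ∀ c : Fin 3 → k, (∀ u : Fin 3 → k, ∑ i, c i * u i = 0) → c = 0 := by
    intro c hc
    funext i
    have := hc (Pi.single i 1)
    simpa [Pi.single_apply] using this
  have hg00 : g0 = 0 := by
    by_contra hne
    have hh00 : h0 = 0 := (mul_eq_zero.mp h00).resolve_left hne
    have hb : b = 0 := by
      apply hvec
      intro u
      have := hcross u
      rw [hh00, zero_mul, add_zero] at this
      exact (mul_eq_zero.mp this).resolve_left hne
    apply hh0
    rw [eh, hh00, hb, (lin_eq_zero_iff 0).mpr rfl]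
    simp
  have hh00 : h0 = 0 := by
    by_contra hne
    have ha : a = 0 := by
      apply hvec
      intro u
      have := hcross u
      rw [hg00, zero_mul, zero_add] at this
      exact (mul_eq_zero.mp this).resolve_left hne
    apply hg0
    rw [eg, hg00, ha, (lin_eq_zero_iff 0).mpr rfl]
    simp
  refine ⟨a, b, ?_⟩
  rw [hgh]
  conv_lhs => rw [eg, eh]
  rw [hg00, hh00]
  simp


theorem exists_factor_of_det_eq_zero [IsAlgClosed k] [CharZero k] (Q : Matrix (Fin 3) (Fin 3) k)
    (hQ : Q.IsSymm) (hdet : Q.det = 0) : ∃ a b : Fin 3 → k, quad Q = lin a * lin b := by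
  have hQs : ∀ i j, Q j i = Q i j := fun i j => by
    have := congrFun (congrFun hQ i) j
    simpa [Matrix.transpose_apply] using this
  obtain ⟨v, hv0, hv⟩ := Matrix.exists_mulVec_eq_zero_iff.mpr hdet
  have hne : v 0 ≠ 0 ∨ v 1 ≠ 0 ∨ v 2 ≠ 0 := by
    by_contra hcon
    push Not at hcon
    apply hv0
    funext i
    fin_cases i
    · exact hcon.1
    · exact hcon.2.1
    · exact hcon.2.2
  have r0 := congrFun hv 0
  have r1 := congrFun hv 1
  have r2 := congrFun hv 2
  simp only [Matrix.mulVec, dotProduct, Fin.sum_univ_three, Pi.zero_apply] at r0 r1 r2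
  have e01 := hQs 0 1
  have e02 := hQs 0 2
  have e12 := hQs 1 2
  obtain ⟨-, -, -, l1, l2, l3, m1, m2, m3, hfac⟩ := Conic3.vertex_structure (Q 0 0) (2 * Q 0 1) (Q 1 1)
    (2 * Q 0 2) (2 * Q 1 2) (Q 2 2) (v 0) (v 1) (v 2) hne
    (by linear_combination 2 * r0) (by linear_combination 2 * r1 - 2 * v 0 * e01)
    (by linear_combination 2 * r2 - 2 * v 0 * e02 - 2 * v 1 * e12)
  refine ⟨![l1, l2, l3], ![m1, m2, m3], ?_⟩
  apply MvPolynomial.funext
  intro u
  rw [map_mul, eval_lin, eval_lin, eval_quad]
  have := hfac (u 0) (u 1) (u 2)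
  unfold Conic3.qf at this
  simp only [Fin.sum_univ_three, Matrix.cons_val_zero, Matrix.cons_val_one, Matrix.cons_val_two,
    Matrix.head_cons, Matrix.tail_cons]
  rw [← this]
  rw [e01, e02, e12]
  ring


theorem mulVec_sym [CharZero k] (Q : Matrix (Fin 3) (Fin 3) k) (a b : Fin 3 → k)
    (hQ : ∀ i j, Q i j = (a i * b j + a j * b i) / 2) (v : Fin 3 → k) :
    Q.mulVec v = ((∑ j, b j * v j) / 2) • a + ((∑ j, a j * v j) / 2) • b := by
  funext i
  simp only [Matrix.mulVec, dotProduct, hQ, Fin.sum_univ_three, Pi.add_apply, Pi.smul_apply,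
    smul_eq_mul]
  ring

theorem range_le_span [CharZero k] (Q : Matrix (Fin 3) (Fin 3) k) (a b : Fin 3 → k)
    (hQ : ∀ i j, Q i j = (a i * b j + a j * b i) / 2) :
    LinearMap.range Q.mulVecLin ≤ Submodule.span k {a, b} := by
  rintro _ ⟨v, rfl⟩
  rw [Matrix.mulVecLin_apply, mulVec_sym Q a b hQ v]
  exact Submodule.mem_span_pair.mpr ⟨_, _, rfl⟩

theorem rank_le_two [CharZero k] (Q : Matrix (Fin 3) (Fin 3) k) (a b : Fin 3 → k)
    (hQ : ∀ i j, Q i j = (a i * b j + a j * b i) / 2) : Q.rank ≤ 2 := by
  classical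
  unfold Matrix.rank
  refine (Submodule.finrank_mono (range_le_span Q a b hQ)).trans ?_
  have : (({a, b} : Finset (Fin 3 → k)) : Set (Fin 3 → k)) = {a, b} := by simp
  rw [← this]
  exact (finrank_span_finset_le_card ({a, b} : Finset (Fin 3 → k))).trans Finset.card_le_two

theorem det_eq_zero_of_sym [CharZero k] (Q : Matrix (Fin 3) (Fin 3) k) (a b : Fin 3 → k)
    (hQ : ∀ i j, Q i j = (a i * b j + a j * b i) / 2) : Q.det = 0 := by
  by_contra hdet
  have h3 : Q.rank = 3 := by
    have := Matrix.rank_of_isUnit Q ((Matrix.isUnit_iff_isUnit_det Q).mpr (isUnit_iff_ne_zero.mpr hdet))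
    simpa using this
  have := rank_le_two Q a b hQ
  omega

theorem rank_eq_two [CharZero k] (Q : Matrix (Fin 3) (Fin 3) k) (a b : Fin 3 → k)
    (hQ : ∀ i j, Q i j = (a i * b j + a j * b i) / 2) (hab : LinearIndependent k ![a, b]) :
    Q.rank = 2 := by
  classical
  have hL : (Matrix.of ![a, b] : Matrix (Fin 2) (Fin 3) k).rank = 2 := by
    have := LinearIndependent.rank_matrix (M := (Matrix.of ![a, b] : Matrix (Fin 2) (Fin 3) k)) hab
    simpa using this
  have hsurj : LinearMap.range (Matrix.of ![a, b] : Matrix (Fin 2) (Fin 3) k).mulVecLin = ⊤ := by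
    apply Submodule.eq_top_of_finrank_eq
    have : Module.finrank k (LinearMap.range (Matrix.of ![a, b] : Matrix (Fin 2) (Fin 3) k).mulVecLin)
        = 2 := hL
    rw [this]
    simp
  have hex : ∀ w : Fin 2 → k, ∃ v : Fin 3 → k, (∑ j, a j * v j) = w 0 ∧ (∑ j, b j * v j) = w 1 := by
    intro w
    have hw : w ∈ LinearMap.range (Matrix.of ![a, b] : Matrix (Fin 2) (Fin 3) k).mulVecLin := by
      rw [hsurj]
      trivial
    obtain ⟨v, hv⟩ := hw
    refine ⟨v, ?_, ?_⟩
    · have := congrFun hv 0
      simpa [Matrix.mulVec, dotProduct] using this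
    · have := congrFun hv 1
      simpa [Matrix.mulVec, dotProduct] using this
  have hrange : LinearMap.range Q.mulVecLin = Submodule.span k {a, b} := by
    apply le_antisymm (range_le_span Q a b hQ)
    rw [Submodule.span_le]
    intro x hx
    rcases hx with rfl | rfl
    · obtain ⟨v, h1, h2⟩ := hex ![0, 2]
      refine ⟨v, ?_⟩
      rw [Matrix.mulVecLin_apply, mulVec_sym Q x b hQ v, h1, h2]
      simp
    · obtain ⟨v, h1, h2⟩ := hex ![2, 0]
      refine ⟨v, ?_⟩
      rw [Matrix.mulVecLin_apply, mulVec_sym Q a x hQ v, h1, h2]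
      simp
  unfold Matrix.rank
  rw [hrange]
  have : Set.range ![a, b] = {a, b} := by
    ext x
    simp only [Set.mem_range, Fin.exists_fin_two, Matrix.cons_val_zero, Matrix.cons_val_one,
      Set.mem_insert_iff, Set.mem_singleton_iff]
    constructor
    · rintro (h | h)
      · exact Or.inl h.symm
      · exact Or.inr h.symm
    · rintro (h | h)
      · exact Or.inl h.symm
      · exact Or.inr h.symm
  rw [← this, finrank_span_eq_card hab]
  simp

theorem lin_smul (c : k) (a : Fin 3 → k) : lin (c • a) = c • lin a := by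
  simp [lin, Finset.smul_sum, smul_smul]

theorem dep_cases (a b : Fin 3 → k) (h : ¬ LinearIndependent k ![a, b]) :
    (∃ c : k, b = c • a) ∨ a = 0 := by
  rw [LinearIndependent.pair_iff] at h
  push Not at h
  obtain ⟨s, t, hst, hne⟩ := h
  by_cases ht : t = 0
  · right
    have hs : s ≠ 0 := fun hs => hne hs ht
    rw [ht, zero_smul, add_zero] at hst
    exact (smul_eq_zero.mp hst).resolve_left hs
  · left
    refine ⟨-(s / t), ?_⟩
    have : t • b = -(s • a) := eq_neg_of_add_eq_zero_right hst
    have h2 : b = t⁻¹ • (t • b) := by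
      rw [smul_smul, inv_mul_cancel₀ ht, one_smul]
    rw [h2, this, smul_neg, smul_smul, neg_smul]
    congr 2
    field_simp

theorem rank_le_one_of_dep [CharZero k] (Q : Matrix (Fin 3) (Fin 3) k) (a b : Fin 3 → k)
    (hQ : ∀ i j, Q i j = (a i * b j + a j * b i) / 2) (hab : ¬ LinearIndependent k ![a, b]) :
    Q.rank ≤ 1 := by
  classical
  have hspan : ∃ c : Fin 3 → k, Submodule.span k {a, b} ≤ Submodule.span k {c} := by
    rcases dep_cases a b hab with ⟨c, rfl⟩ | rfl
    · refine ⟨a, ?_⟩
      rw [Submodule.span_le]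
      intro x hx
      rcases hx with rfl | rfl
      · exact Submodule.mem_span_singleton_self _
      · exact Submodule.smul_mem _ _ (Submodule.mem_span_singleton_self _)
    · refine ⟨b, ?_⟩
      rw [Submodule.span_le]
      intro x hx
      rcases hx with rfl | rfl
      · exact Submodule.zero_mem _
      · exact Submodule.mem_span_singleton_self _
  obtain ⟨c, hc⟩ := hspan
  unfold Matrix.rank
  refine (Submodule.finrank_mono ((range_le_span Q a b hQ).trans hc)).trans ?_
  have : (({c} : Finset (Fin 3 → k)) : Set (Fin 3 → k)) = {c} := by simp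
  rw [← this]
  exact (finrank_span_finset_le_card ({c} : Finset (Fin 3 → k))).trans (by simp)

theorem rank_ne_zero (Q : Matrix (Fin 3) (Fin 3) k) (hQ0 : Q ≠ 0) : Q.rank ≠ 0 := by
  intro h
  apply hQ0
  unfold Matrix.rank at h
  rw [Submodule.finrank_eq_zero, LinearMap.range_eq_bot] at h
  have h2 : Matrix.toLin' Q = 0 := h
  exact (LinearEquiv.map_eq_zero_iff _).mp h2

theorem eval_pderiv_quad (Q : Matrix (Fin 3) (Fin 3) k) (hQ : Q.IsSymm) (u : Fin 3 → k) (i : Fin 3) :
    eval u (pderiv i (quad Q)) = 2 * (Q.mulVec u) i := by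
  have hQs : ∀ i j, Q j i = Q i j := fun i j => by
    have := congrFun (congrFun hQ i) j
    simpa [Matrix.transpose_apply] using this
  have e01 := hQs 0 1
  have e02 := hQs 0 2
  have e12 := hQs 1 2
  simp only [quad, map_sum, Derivation.map_smul, Derivation.leibniz, pderiv_X, Matrix.mulVec,
    dotProduct, Fin.sum_univ_three, smul_eval, map_add, smul_eq_mul, eval_X, map_mul]
  fin_cases i <;> simp [Pi.single_apply]
  · rw [e01, e02]
    ring
  · rw [e01, e12]
    ring
  · rw [e02, e12]
    ring

end Groth.Agent.Lib.Helper18.ConicClass
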