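import Mathlib.Tactic
import Mathlib.Data.Complex.Basic
import Mathlib.FieldTheory.IsAlgClosed.Basic
import Mathlib.Analysis.Complex.Polynomial.Basic

set_option autoImplicit false

namespace Groth.Agent.Lib.Helper18.Cubic

theorem hesse_identity (m n x y z : ℂ) :
    6 * (n - m ^ 3) * (y ^ 2 * z - x ^ 3 - (-m ^ 4 - 2 * m * n) * x * z ^ 2 -
      ((-m ^ 6 - 4 * m ^ 3 * n - n ^ 2) / 3) * z ^ 3) =
      -2 * (3 * n + m ^ 3) * (x + m ^ 2 * z) ^ 3 + (y + m * x + n * z) ^ 3 -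
        (y - m * x - n * z) ^ 3 -
        6 * m * ((x + m ^ 2 * z) * (y - m * x - n * z) * (y + m * x + n * z)) := by
  ring

theorem sing1 (m x y z τ : ℂ) :
    ((0 + τ * y) ^ 2 * (1 + τ * z) - (-m ^ 2 + τ * x) ^ 3 -
      (-m ^ 4 - 2 * m * m ^ 3) * (-m ^ 2 + τ * x) * (1 + τ * z) ^ 2 -
      ((-m ^ 6 - 4 * m ^ 3 * m ^ 3 - (m ^ 3) ^ 2) / 3) * (1 + τ * z) ^ 3) =
      (y ^ 2 + 3 * m ^ 2 * x ^ 2 + 6 * m ^ 4 * x * z + 3 * m ^ 6 * z ^ 2) * τ ^ 2 +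
      (y ^ 2 * z - x ^ 3 - (-m ^ 4 - 2 * m * m ^ 3) * x * z ^ 2 -
        ((-m ^ 6 - 4 * m ^ 3 * m ^ 3 - (m ^ 3) ^ 2) / 3) * z ^ 3) * τ ^ 3 := by
  ring

theorem sing2 (m x y z τ : ℂ) :
    ((0 + τ * y) ^ 2 * (-m + τ * z) - ((-m ^ 3 / 3) + τ * x) ^ 3 -
      (-m ^ 4 - 2 * m * (-m ^ 3 / 3)) * ((-m ^ 3 / 3) + τ * x) * (-m + τ * z) ^ 2 -
      ((-m ^ 6 - 4 * m ^ 3 * (-m ^ 3 / 3) - (-m ^ 3 / 3) ^ 2) / 3) * (-m + τ * z) ^ 3) =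
      (-m * (y - m * x - (-m ^ 3 / 3) * z) * (y + m * x + (-m ^ 3 / 3) * z)) * τ ^ 2 +
      (y ^ 2 * z - x ^ 3 - (-m ^ 4 - 2 * m * (-m ^ 3 / 3)) * x * z ^ 2 -
        ((-m ^ 6 - 4 * m ^ 3 * (-m ^ 3 / 3) - (-m ^ 3 / 3) ^ 2) / 3) * z ^ 3) * τ ^ 3 := by
  ring

theorem sing3 (k x y z τ : ℂ) (hk : k ^ 3 = 1) :
    (1 + τ * x) ^ 3 + (1 + τ * y) ^ 3 + (k ^ 2 + τ * z) ^ 3 -
      3 * k * ((1 + τ * x) * (1 + τ * y) * (k ^ 2 + τ * z)) =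
      (3 * x ^ 2 + 3 * y ^ 2 + 3 * k ^ 2 * z ^ 2 - 3 * k * (k ^ 2 * x * y + x * z + y * z)) * τ ^ 2 +
      (x ^ 3 + y ^ 3 + z ^ 3 - 3 * k * (x * y * z)) * τ ^ 3 := by
  linear_combination ((k ^ 3 - 2) + τ * (-3 * x - 3 * y + 3 * k * z)) * hk

open Polynomial in
theorem exists_mn (a b : ℂ) :
    ∃ m n : ℂ, a = -m ^ 4 - 2 * m * n ∧ b = (-m ^ 6 - 4 * m ^ 3 * n - n ^ 2) / 3 := by
  have hdeg : (C (3 : ℂ) * X ^ 8 + C (6 * a) * X ^ 4 - C (12 * b) * X ^ 2 - C (a ^ 2) :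
      Polynomial ℂ).degree ≠ 0 := by
    have : (C (3 : ℂ) * X ^ 8 + C (6 * a) * X ^ 4 - C (12 * b) * X ^ 2 - C (a ^ 2) :
      Polynomial ℂ).degree = 8 := by
      compute_degree!
    rw [this]
    norm_num
  obtain ⟨m, hm⟩ := IsAlgClosed.exists_root _ hdeg
  simp only [IsRoot.def, eval_sub, eval_add, eval_mul, eval_C, eval_pow, eval_X] at hm
  by_cases hm0 : m = 0
  · subst hm0
    have ha : a = 0 := by
      have : a ^ 2 = 0 := by linear_combination -hm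
      exact pow_eq_zero_iff (two_ne_zero) |>.1 this
    obtain ⟨n, hn⟩ := IsAlgClosed.exists_pow_nat_eq (-3 * b) (n := 2) (by norm_num)
    refine ⟨0, n, ?_, ?_⟩
    · rw [ha]; ring
    · rw [hn]; ring
  · refine ⟨m, -(m ^ 4 + a) / (2 * m), ?_, ?_⟩
    · field_simp
      ring
    · field_simp
      linear_combination (-1) * hm

end Groth.Agent.Lib.Helper18.Cubic
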