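import Mathlib.Analysis.Complex.Polynomial.Basic
import Mathlib.LinearAlgebra.Matrix.NonsingularInverse
import Mathlib.LinearAlgebra.Matrix.Determinant.Basic
import Mathlib.Tactic.LinearCombination
import Mathlib.Tactic.FieldSimp
import Mathlib.Tactic.Ring
import Mathlib.Tactic.FinCases
import Mathlib.Tactic.IntervalCases

set_option autoImplicit false

namespace Groth.Agent.Lib.Helper18.CubicAut

theorem stab_weier (δ ε c d b00 b02 b10 b12 b20 b22 : ℂ) (hδ : δ ≠ 0) (hε : ε ≠ 0)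
    (hdet : d * (b00 * b22 - b02 * b20) ≠ 0)
    (H : ∀ q0 q1 q2 : ℂ, 3 * (b10 * q0 + d * q1 + b12 * q2) ^ 2 * (b20 * q0 + b22 * q2) +
      (b00 * q0 + b02 * q2) ^ 3 + δ * (b00 * q0 + b02 * q2) * (b20 * q0 + b22 * q2) ^ 2 +
      ε * (b20 * q0 + b22 * q2) ^ 3 = c * (3 * q1 ^ 2 * q2 + q0 ^ 3 + δ * q0 * q2 ^ 2 + ε * q2 ^ 3)) :
    b20 = 0 ∧ b10 = 0 ∧ b12 = 0 ∧ b02 = 0 ∧ b22 = b00 ∧ (d = b00 ∨ d = -b00) := by
  have hd : d ≠ 0 := left_ne_zero_of_mul hdet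
  have h20 : b20 = 0 := by
    have e : 3 * d ^ 2 * b20 = 0 := by
      linear_combination (1 / 2) * H 1 1 0 + (1 / 2) * H 1 (-1) 0 - H 1 0 0
    simpa [hd] using e
  subst h20
  have h22 : b22 ≠ 0 := by
    intro h
    apply hdet
    rw [h]
    ring
  have h00 : b00 ≠ 0 := by
    intro h
    apply hdet
    rw [h]
    ring
  have hc : c = d ^ 2 * b22 := by
    have e : 3 * d ^ 2 * b22 = 3 * c := by
      linear_combination (1 / 2) * H 0 1 1 + (1 / 2) * H 0 (-1) 1 - H 0 0 1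
    linear_combination (-1 / 3) * e
  have h12 : b12 = 0 := by
    have e : 6 * d * b12 * b22 = 0 := by
      linear_combination (1 / 2) * H 0 1 1 - (1 / 2) * H 0 (-1) 1 - H 0 1 0
    simpa [hd, h22] using e
  subst h12
  have h10 : b10 = 0 := by
    have e : 6 * d * b10 * b22 = 0 := by
      linear_combination H 1 1 1 - H 1 1 0 - H 1 0 1 - H 0 1 1 + H 1 0 0 + H 0 1 0 + H 0 0 1
    simpa [hd, h22] using e
  subst h10
  have hc' : b00 ^ 3 = c := by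
    linear_combination H 1 0 0
  have h02 : b02 = 0 := by
    have e : 3 * b00 ^ 2 * b02 = 0 := by
      linear_combination (1 / 2) * H 1 0 1 + (1 / 2) * H (-1) 0 1 - H 0 0 1
    simpa [h00] using e
  subst h02
  have e7 : δ * (b00 * b22 ^ 2 - c) = 0 := by
    linear_combination (1 / 2) * H 1 0 1 - (1 / 2) * H (-1) 0 1 - H 1 0 0
  have e8 : ε * (b22 ^ 3 - c) = 0 := by
    linear_combination H 0 0 1
  have e7' : b00 * b22 ^ 2 = c := by
    have := (mul_eq_zero.mp e7).resolve_left hδ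
    linear_combination this
  have e8' : b22 ^ 3 = c := by
    have := (mul_eq_zero.mp e8).resolve_left hε
    linear_combination this
  have hpq : b22 = b00 := by
    have : b22 ^ 2 * (b22 - b00) = 0 := by linear_combination e8' - e7'
    have h2 : b22 ^ 2 ≠ 0 := pow_ne_zero _ h22
    have := (mul_eq_zero.mp this).resolve_left h2
    linear_combination this
  refine ⟨rfl, rfl, rfl, rfl, hpq, ?_⟩
  subst hpq
  have : (d - b22) * (d + b22) = 0 := by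
    have : b22 * ((d - b22) * (d + b22)) = 0 := by linear_combination -hc + (-1 : ℂ) * hc'
    exact (mul_eq_zero.mp this).resolve_left h22
  rcases mul_eq_zero.mp this with h | h
  · left; linear_combination h
  · right; linear_combination h

def hk (k : ℂ) (x : Fin 3 → ℂ) : ℂ := x 0 ^ 3 + x 1 ^ 3 + x 2 ^ 3 - 3 * k * (x 0 * x 1 * x 2)

def W (k : ℂ) : Matrix (Fin 3) (Fin 3) ℂ :=
  !![2, 0, -6 * k ^ 2; -k, 1, 4 - k ^ 3; -k, -1, 4 - k ^ 3]

def P12 : Matrix (Fin 3) (Fin 3) ℂ := !![1, 0, 0; 0, 0, 1; 0, 1, 0]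

def dl (k : ℂ) : ℂ := -3 * k * (8 + k ^ 3)

def ep (k : ℂ) : ℂ := 2 * (8 + 20 * k ^ 3 - k ^ 6)

def Fw (k : ℂ) (q : Fin 3 → ℂ) : ℂ :=
  3 * q 1 ^ 2 * q 2 + q 0 ^ 3 + dl k * q 0 * q 2 ^ 2 + ep k * q 2 ^ 3

theorem hk_W (k : ℂ) (q : Fin 3 → ℂ) :
    hk k ((W k).mulVec q) = 8 * (1 - k ^ 3) * Fw k q := by
  simp only [hk, W, Fw, dl, ep, Matrix.mulVec, dotProduct, Fin.sum_univ_three]
  simp
  ring

theorem det_W (k : ℂ) : (W k).det = 16 * (1 - k ^ 3) := by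
  rw [Matrix.det_fin_three]
  simp [W]
  ring

theorem W_e1 (k : ℂ) : (W k).mulVec ![0, 1, 0] = ![0, 1, -1] := by
  ext i
  fin_cases i <;> simp [W, Matrix.mulVec, dotProduct, Fin.sum_univ_three]

def J12 : Matrix (Fin 3) (Fin 3) ℂ := !![1, 0, 0; 0, -1, 0; 0, 0, 1]

theorem W_J12 (k : ℂ) : W k * J12 = P12 * W k := by
  ext i j
  fin_cases i <;> fin_cases j <;> simp [W, J12, P12, Matrix.mul_apply, Fin.sum_univ_three]

theorem stab (k : ℂ) (hk1 : k ^ 3 ≠ 1) (hδ : dl k ≠ 0) (hε : ep k ≠ 0)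
    (B : Matrix (Fin 3) (Fin 3) ℂ) (hB : IsUnit B.det) (c : ℂ)
    (hBc : ∀ x, hk k (B.mulVec x) = c * hk k x) (d : ℂ)
    (hd : B.mulVec ![0, 1, -1] = d • ![0, 1, -1]) :
    ∃ p : ℂ, B = p • (1 : Matrix (Fin 3) (Fin 3) ℂ) ∨ B = p • P12 := by
  have hβ : (1 : ℂ) - k ^ 3 ≠ 0 := by
    intro h
    apply hk1
    linear_combination -h
  have hWdet : IsUnit (W k).det := by
    rw [det_W, isUnit_iff_ne_zero]
    exact mul_ne_zero (by norm_num) hβ
  obtain ⟨B', hB'⟩ : ∃ B', B' = (W k)⁻¹ * B * W k := ⟨_, rfl⟩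
  have hWB : W k * B' = B * W k := by
    rw [hB', ← Matrix.mul_assoc, ← Matrix.mul_assoc, Matrix.mul_nonsing_inv _ hWdet, Matrix.one_mul]
  have hF : ∀ q, Fw k (B'.mulVec q) = c * Fw k q := by
    intro q
    have h1 := hk_W k (B'.mulVec q)
    rw [Matrix.mulVec_mulVec, hWB, ← Matrix.mulVec_mulVec, hBc, hk_W] at h1
    have h8 : (8 : ℂ) * (1 - k ^ 3) ≠ 0 := mul_ne_zero (by norm_num) hβ
    apply mul_left_cancel₀ h8
    linear_combination -h1
  have he1 : B'.mulVec ![0, 1, 0] = d • ![0, 1, 0] := by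
    rw [hB', ← Matrix.mulVec_mulVec, ← Matrix.mulVec_mulVec, W_e1, hd, Matrix.mulVec_smul, ← W_e1 k,
      Matrix.mulVec_mulVec, Matrix.nonsing_inv_mul _ hWdet, Matrix.one_mulVec]
  have h01 : B' 0 1 = 0 := by
    have := congrFun he1 0
    simpa [Matrix.mulVec, dotProduct, Fin.sum_univ_three] using this
  have h11 : B' 1 1 = d := by
    have := congrFun he1 1
    simpa [Matrix.mulVec, dotProduct, Fin.sum_univ_three] using this
  have h21 : B' 2 1 = 0 := by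
    have := congrFun he1 2
    simpa [Matrix.mulVec, dotProduct, Fin.sum_univ_three] using this
  have hdetB' : B'.det = B.det := by
    have h1 := congrArg Matrix.det hWB
    rw [Matrix.det_mul, Matrix.det_mul, mul_comm] at h1
    have h2 : (W k).det ≠ 0 := by rwa [← isUnit_iff_ne_zero]
    exact mul_right_cancel₀ h2 h1
  have hdet : d * (B' 0 0 * B' 2 2 - B' 0 2 * B' 2 0) ≠ 0 := by
    have h0 : B'.det ≠ 0 := by rw [hdetB']; rwa [← isUnit_iff_ne_zero]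
    rw [Matrix.det_fin_three, h01, h11, h21] at h0
    intro h
    apply h0
    linear_combination h
  obtain ⟨e20, e10, e12, e02, e22, hdp⟩ := stab_weier (dl k) (ep k) c d (B' 0 0) (B' 0 2) (B' 1 0)
    (B' 1 2) (B' 2 0) (B' 2 2) hδ hε hdet (by
      intro q0 q1 q2
      have := hF ![q0, q1, q2]
      simp only [Fw, Matrix.mulVec, dotProduct, Fin.sum_univ_three, h01, h11, h21] at this
      simp at this
      linear_combination this)
  obtain ⟨p, hp⟩ : ∃ p, B' 0 0 = p := ⟨_, rfl⟩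
  refine ⟨p, ?_⟩
  have hBW : B = W k * B' * (W k)⁻¹ := by
    rw [hWB, Matrix.mul_assoc, Matrix.mul_nonsing_inv _ hWdet, Matrix.mul_one]
  rcases hdp with hdp | hdp
  · left
    have : B' = p • (1 : Matrix (Fin 3) (Fin 3) ℂ) := by
      ext i j
      fin_cases i <;> fin_cases j <;> simp [h01, h11, h21, e20, e10, e12, e02, e22, hdp, hp]
    rw [hBW, this]
    simp [Matrix.mul_nonsing_inv _ hWdet]
  · right
    have : B' = p • J12 := by
      ext i j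
      fin_cases i <;> fin_cases j <;> simp [J12, h01, h11, h21, e20, e10, e12, e02, e22, hdp, hp]
    rw [hBW, this, Matrix.mul_smul, W_J12, Matrix.smul_mul, Matrix.mul_assoc,
      Matrix.mul_nonsing_inv _ hWdet, Matrix.mul_one]

def S3 : Matrix (Fin 3) (Fin 3) ℂ := !![0, 0, 1; 1, 0, 0; 0, 1, 0]

def Dm (ω : ℂ) : Matrix (Fin 3) (Fin 3) ℂ := !![1, 0, 0; 0, ω, 0; 0, 0, ω ^ 2]

def Nm : Matrix (Fin 3) (Fin 3) ℂ := !![-1, 0, 0; 0, 0, -1; 0, -1, 0]

def InG (k : ℂ) (A : Matrix (Fin 3) (Fin 3) ℂ) : Prop :=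
  A.det = 1 ∧ ∃ c : ℂ, ∀ x, hk k (A.mulVec x) = c * hk k x

theorem InG.mul {k : ℂ} {A B : Matrix (Fin 3) (Fin 3) ℂ} (hA : InG k A) (hB : InG k B) :
    InG k (A * B) := by
  obtain ⟨hA1, cA, hA2⟩ := hA
  obtain ⟨hB1, cB, hB2⟩ := hB
  refine ⟨by rw [Matrix.det_mul, hA1, hB1, mul_one], cA * cB, fun x => ?_⟩
  rw [← Matrix.mulVec_mulVec, hA2, hB2, mul_assoc]

theorem InG.one {k : ℂ} : InG k 1 :=
  ⟨Matrix.det_one, 1, fun x => by rw [Matrix.one_mulVec, one_mul]⟩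

theorem InG.pow {k : ℂ} {A : Matrix (Fin 3) (Fin 3) ℂ} (hA : InG k A) (n : ℕ) : InG k (A ^ n) := by
  induction n with
  | zero => rw [pow_zero]; exact InG.one
  | succ n ih => rw [pow_succ]; exact ih.mul hA

theorem S3_mulVec (x : Fin 3 → ℂ) : S3.mulVec x = ![x 2, x 0, x 1] := by
  ext i
  fin_cases i <;> simp [S3, Matrix.mulVec, dotProduct, Fin.sum_univ_three]

theorem Dm_mulVec (ω : ℂ) (x : Fin 3 → ℂ) : (Dm ω).mulVec x = ![x 0, ω * x 1, ω ^ 2 * x 2] := by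
  ext i
  fin_cases i <;> simp [Dm, Matrix.mulVec, dotProduct, Fin.sum_univ_three]

theorem Nm_mulVec (x : Fin 3 → ℂ) : Nm.mulVec x = ![-x 0, -x 2, -x 1] := by
  ext i
  fin_cases i <;> simp [Nm, Matrix.mulVec, dotProduct, Fin.sum_univ_three]

theorem InG_S3 (k : ℂ) : InG k S3 := by
  refine ⟨?_, 1, fun x => ?_⟩
  · rw [Matrix.det_fin_three]
    simp [S3]
  · rw [S3_mulVec]
    simp [hk]
    ring

theorem InG_Dm (k ω : ℂ) (hω : ω ^ 2 + ω + 1 = 0) : InG k (Dm ω) := by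
  have hω3 : ω ^ 3 = 1 := by linear_combination (ω - 1) * hω
  refine ⟨?_, 1, fun x => ?_⟩
  · rw [Matrix.det_fin_three]
    simp [Dm]
    linear_combination hω3
  · rw [Dm_mulVec]
    simp [hk]
    linear_combination (x 1 ^ 3 + x 2 ^ 3 * (ω ^ 3 + 1) - 3 * k * (x 0 * x 1 * x 2)) * hω3

theorem InG_Nm (k : ℂ) : InG k Nm := by
  refine ⟨?_, -1, fun x => ?_⟩
  · rw [Matrix.det_fin_three]
    simp [Nm]
  · rw [Nm_mulVec]
    simp [hk]
    ring

theorem InG_smul (k p : ℂ) (hp : p ^ 3 = 1) : InG k (p • (1 : Matrix (Fin 3) (Fin 3) ℂ)) := by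
  refine ⟨?_, 1, fun x => ?_⟩
  · rw [Matrix.det_smul, Matrix.det_one]
    simp [hp]
  · rw [Matrix.smul_mulVec, Matrix.one_mulVec]
    simp [hk]
    linear_combination (x 0 ^ 3 + x 1 ^ 3 + x 2 ^ 3 - 3 * k * (x 0 * x 1 * x 2)) * hp

theorem S3_pow_three : S3 ^ 3 = 1 := by
  ext i j
  fin_cases i <;> fin_cases j <;> simp [S3, pow_succ, Matrix.mul_apply, Fin.sum_univ_three]

theorem Dm_pow_three (ω : ℂ) (hω : ω ^ 2 + ω + 1 = 0) : (Dm ω) ^ 3 = 1 := by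
  have hω3 : ω ^ 3 = 1 := by linear_combination (ω - 1) * hω
  ext i j
  fin_cases i <;> fin_cases j <;> simp [Dm, pow_succ, Matrix.mul_apply, Fin.sum_univ_three]
  · linear_combination hω3
  · linear_combination (ω ^ 3 + 1) * hω3

def O0 : Fin 3 → ℂ := ![0, 1, -1]

def Pt (f : Fin 3) (γ : ℂ) : Fin 3 → ℂ := ![![0, 1, -γ], ![-γ, 0, 1], ![1, -γ, 0]] f

def Phi (ω : ℂ) (a : Fin 3 × Fin 3 × Fin 3 × Fin 2) : Matrix (Fin 3) (Fin 3) ℂ :=
  S3 ^ a.1.val * Dm ω ^ a.2.1.val * (ω ^ a.2.2.1.val • Nm ^ a.2.2.2.val)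

theorem Phi_mem (k ω : ℂ) (hω : ω ^ 2 + ω + 1 = 0) (a : Fin 3 × Fin 3 × Fin 3 × Fin 2) :
    InG k (Phi ω a) := by
  have hω3 : ω ^ 3 = 1 := by linear_combination (ω - 1) * hω
  unfold Phi
  refine ((InG_S3 k).pow _).mul (((InG_Dm k ω hω).pow _)) |>.mul ?_
  have : ω ^ a.2.2.1.val • Nm ^ a.2.2.2.val =
      (ω ^ a.2.2.1.val • (1 : Matrix (Fin 3) (Fin 3) ℂ)) * Nm ^ a.2.2.2.val := by
    rw [Matrix.smul_mul, Matrix.one_mul]
  rw [this]
  refine (InG_smul k _ ?_).mul ((InG_Nm k).pow _)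
  rw [← pow_mul, mul_comm, pow_mul, hω3, one_pow]

theorem S3_pow_Pt0 (f : Fin 3) (γ : ℂ) : (S3 ^ f.val).mulVec (Pt 0 γ) = Pt f γ := by
  fin_cases f
  · simp
  · simp [Pt, S3_mulVec]
  · simp [Pt, pow_succ, ← Matrix.mulVec_mulVec, S3_mulVec]

theorem Dm_pow_O0 (ω : ℂ) (g : Fin 3) :
    (Dm ω ^ g.val).mulVec O0 = ω ^ g.val • Pt 0 (ω ^ g.val) := by
  fin_cases g
  · simp [Pt, O0]
  · simp [Pt, O0, Dm_mulVec]
    ring
  · simp [Pt, O0, pow_succ, ← Matrix.mulVec_mulVec, Dm_mulVec]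

theorem Nm_pow_O0 (e : Fin 2) : (Nm ^ e.val).mulVec O0 = O0 := by
  fin_cases e
  · simp
  · simp [O0, Nm_mulVec]

theorem Phi_O0 (ω : ℂ) (a : Fin 3 × Fin 3 × Fin 3 × Fin 2) :
    (Phi ω a).mulVec O0 = (ω ^ a.2.2.1.val * ω ^ a.2.1.val) • Pt a.1 (ω ^ a.2.1.val) := by
  unfold Phi
  rw [← Matrix.mulVec_mulVec, Matrix.smul_mulVec, Nm_pow_O0, Matrix.mulVec_smul,
    ← Matrix.mulVec_mulVec, Dm_pow_O0, Matrix.mulVec_smul, S3_pow_Pt0, smul_smul]

theorem omega_ne (ω : ℂ) (hω : ω ^ 2 + ω + 1 = 0) : ω ≠ 0 ∧ ω ≠ 1 ∧ ω ^ 2 ≠ 1 := by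
  refine ⟨?_, ?_, ?_⟩
  · rintro rfl
    norm_num at hω
  · rintro rfl
    norm_num at hω
  · intro h
    have h2 : ω = -2 := by linear_combination hω - h
    rw [h2] at hω
    norm_num at hω

theorem omega_pow_inj (ω : ℂ) (hω : ω ^ 2 + ω + 1 = 0) (g g' : Fin 3)
    (h : ω ^ g.val = ω ^ g'.val) : g = g' := by
  obtain ⟨h0, h1, h2⟩ := omega_ne ω hω
  have h3 : ω ^ 2 ≠ ω := by
    intro h
    apply h1
    have : ω * (ω - 1) = 0 := by linear_combination h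
    have := (mul_eq_zero.mp this).resolve_left h0
    linear_combination this
  have key : ∀ n m : ℕ, n < 3 → m < 3 → ω ^ n = ω ^ m → n = m := by
    intro n m hn hm h
    interval_cases n <;> interval_cases m <;> try simp only [pow_zero, pow_one] at h
    all_goals first
      | rfl
      | exact absurd h.symm h1
      | exact absurd h h1
      | exact absurd h.symm h2
      | exact absurd h h2
      | exact absurd h h3
      | exact absurd h.symm h3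
  exact Fin.ext (key _ _ g.isLt g'.isLt h)

theorem Pt_inj (c c' γ γ' : ℂ) (f f' : Fin 3) (hc : c ≠ 0) (hc' : c' ≠ 0) (hγ : γ ≠ 0)
    (hγ' : γ' ≠ 0) (h : c • Pt f γ = c' • Pt f' γ') : f = f' ∧ γ = γ' ∧ c = c' := by
  have e0 := congrFun h 0
  have e1 := congrFun h 1
  have e2 := congrFun h 2
  fin_cases f <;> fin_cases f' <;> simp [Pt, hc, hc', hγ, hγ'] at e0 e1 e2 ⊢
  · subst e1
    refine ⟨?_, rfl⟩
    exact mul_left_cancel₀ hc e2
  · subst e2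
    refine ⟨?_, rfl⟩
    exact mul_left_cancel₀ hc e0
  · subst e0
    refine ⟨?_, rfl⟩
    exact mul_left_cancel₀ hc e1

theorem Dm_pow_e0 (ω : ℂ) (n : ℕ) : (Dm ω ^ n).mulVec ![1, 0, 0] = ![1, 0, 0] := by
  induction n with
  | zero => simp
  | succ n ih =>
    rw [pow_succ, ← Matrix.mulVec_mulVec, Dm_mulVec]
    simp [ih]

theorem Nm_pow_e0 (e : Fin 2) : (Nm ^ e.val).mulVec ![1, 0, 0] = ((-1 : ℂ) ^ e.val) • ![1, 0, 0] := by
  fin_cases e
  · simp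
  · simp [Nm_mulVec]

theorem S3_pow_e0_ne (f : Fin 3) : (S3 ^ f.val).mulVec ![1, 0, 0] ≠ 0 := by
  fin_cases f
  · simp
  · simp [S3_mulVec]
  · simp [pow_succ, ← Matrix.mulVec_mulVec, S3_mulVec]

theorem Phi_e0 (ω : ℂ) (a : Fin 3 × Fin 3 × Fin 3 × Fin 2) :
    (Phi ω a).mulVec ![1, 0, 0] =
      (ω ^ a.2.2.1.val * (-1 : ℂ) ^ a.2.2.2.val) • (S3 ^ a.1.val).mulVec ![1, 0, 0] := by
  unfold Phi
  rw [← Matrix.mulVec_mulVec, Matrix.smul_mulVec, Nm_pow_e0, Matrix.mulVec_smul, Matrix.mulVec_smul,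
    ← Matrix.mulVec_mulVec, Dm_pow_e0, smul_smul]

theorem Phi_injective (ω : ℂ) (hω : ω ^ 2 + ω + 1 = 0) : Function.Injective (Phi ω) := by
  obtain ⟨h0, h1, h2⟩ := omega_ne ω hω
  rintro ⟨f, g, i, e⟩ ⟨f', g', i', e'⟩ h
  have hO := congrArg (fun M => Matrix.mulVec M O0) h
  simp only [Phi_O0] at hO
  obtain ⟨hf, hg, hi⟩ := Pt_inj _ _ _ _ _ _ (mul_ne_zero (pow_ne_zero _ h0) (pow_ne_zero _ h0))
    (mul_ne_zero (pow_ne_zero _ h0) (pow_ne_zero _ h0)) (pow_ne_zero _ h0) (pow_ne_zero _ h0) hO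
  have hg' := omega_pow_inj ω hω _ _ hg
  subst hf hg'
  have hi' : i = i' := omega_pow_inj ω hω _ _ (mul_right_cancel₀ (pow_ne_zero _ h0) hi)
  subst hi'
  have he := congrArg (fun M => Matrix.mulVec M ![1, 0, 0]) h
  simp only [Phi_e0] at he
  have he' := smul_left_injective ℂ (S3_pow_e0_ne f) he
  have he'' : (-1 : ℂ) ^ e.val = (-1 : ℂ) ^ e'.val := mul_left_cancel₀ (pow_ne_zero _ h0) he'
  have : e = e' := by
    fin_cases e <;> fin_cases e' <;> simp at he'' ⊢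
    · norm_num at he''
    · norm_num at he''
  subst this
  rfl

theorem cube_root (ω : ℂ) (hω : ω ^ 2 + ω + 1 = 0) (γ : ℂ) (hγ : γ ^ 3 = 1) :
    ∃ g : Fin 3, γ = ω ^ g.val := by
  have h : (γ - 1) * ((γ - ω) * (γ - ω ^ 2)) = 0 := by
    linear_combination hγ - (γ ^ 2 - γ * ω + ω - 1) * hω
  rcases mul_eq_zero.mp h with h | h
  · exact ⟨0, by simp; linear_combination h⟩
  rcases mul_eq_zero.mp h with h | h
  · exact ⟨1, by simp; linear_combination h⟩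
  · exact ⟨2, by simp; linear_combination h⟩

theorem mem_range (k ω : ℂ) (hω : ω ^ 2 + ω + 1 = 0) (hk1 : k ^ 3 ≠ 1) (hδ : dl k ≠ 0)
    (hε : ep k ≠ 0) (A : Matrix (Fin 3) (Fin 3) ℂ) (hA : InG k A)
    (hflex : ∃ γ c : ℂ, γ ^ 3 = 1 ∧ (A.mulVec O0 = c • ![0, 1, -γ] ∨
      A.mulVec O0 = c • ![-γ, 0, 1] ∨ A.mulVec O0 = c • ![1, -γ, 0])) :
    ∃ a, A = Phi ω a := by
  obtain ⟨h0, h1, h2⟩ := omega_ne ω hω
  have hω3 : ω ^ 3 = 1 := by linear_combination (ω - 1) * hω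
  obtain ⟨γ, c', hγ, hdisj⟩ := hflex
  obtain ⟨f, hf⟩ : ∃ f : Fin 3, A.mulVec O0 = c' • Pt f γ := by
    rcases hdisj with h | h | h
    · exact ⟨0, by simpa [Pt] using h⟩
    · exact ⟨1, by simpa [Pt] using h⟩
    · exact ⟨2, by simpa [Pt] using h⟩
  obtain ⟨g, rfl⟩ := cube_root ω hω γ hγ
  have hS : S3 ^ f.val * S3 ^ (2 * f.val) = 1 := by
    rw [← pow_add, show f.val + 2 * f.val = 3 * f.val by ring, pow_mul, S3_pow_three, one_pow]
  have hS' : S3 ^ (2 * f.val) * S3 ^ f.val = 1 := by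
    rw [← pow_add, show 2 * f.val + f.val = 3 * f.val by ring, pow_mul, S3_pow_three, one_pow]
  have hD : Dm ω ^ g.val * Dm ω ^ (2 * g.val) = 1 := by
    rw [← pow_add, show g.val + 2 * g.val = 3 * g.val by ring, pow_mul, Dm_pow_three ω hω, one_pow]
  have hD' : Dm ω ^ (2 * g.val) * Dm ω ^ g.val = 1 := by
    rw [← pow_add, show 2 * g.val + g.val = 3 * g.val by ring, pow_mul, Dm_pow_three ω hω, one_pow]
  obtain ⟨B, hBdef⟩ : ∃ B, B = Dm ω ^ (2 * g.val) * S3 ^ (2 * f.val) * A := ⟨_, rfl⟩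
  have hB : InG k B := by
    rw [hBdef]
    exact (((InG_Dm k ω hω).pow _).mul ((InG_S3 k).pow _)).mul hA
  have hAB : A = S3 ^ f.val * Dm ω ^ g.val * B := by
    rw [hBdef]
    calc A = (S3 ^ f.val * S3 ^ (2 * f.val)) * A := by rw [hS, Matrix.one_mul]
      _ = S3 ^ f.val * ((Dm ω ^ g.val * Dm ω ^ (2 * g.val)) * S3 ^ (2 * f.val)) * A := by
        rw [hD, Matrix.one_mul, Matrix.mul_assoc]
      _ = _ := by simp only [Matrix.mul_assoc]
  have hgne : ω ^ g.val ≠ 0 := pow_ne_zero _ h0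
  have hBO : B.mulVec O0 = (c' * (ω ^ g.val)⁻¹) • O0 := by
    have e1 : (S3 ^ (2 * f.val)).mulVec (Pt f (ω ^ g.val)) = Pt 0 (ω ^ g.val) := by
      rw [← S3_pow_Pt0 f, Matrix.mulVec_mulVec, hS', Matrix.one_mulVec]
    have e2 : (Dm ω ^ (2 * g.val)).mulVec (Pt 0 (ω ^ g.val)) = (ω ^ g.val)⁻¹ • O0 := by
      have := congrArg (fun v => (ω ^ g.val)⁻¹ • (Dm ω ^ (2 * g.val)).mulVec v) (Dm_pow_O0 ω g)
      simp only [Matrix.mulVec_mulVec, hD', Matrix.one_mulVec, Matrix.mulVec_smul, smul_smul,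
        inv_mul_cancel₀ hgne, one_smul] at this
      exact this.symm
    rw [hBdef, ← Matrix.mulVec_mulVec, hf, Matrix.mulVec_smul, ← Matrix.mulVec_mulVec, e1,
      e2, smul_smul]
  obtain ⟨cB, hcB⟩ := hB.2
  have hBdet : IsUnit B.det := by rw [hB.1]; exact isUnit_one
  obtain ⟨p, hp | hp⟩ := stab k hk1 hδ hε B hBdet cB hcB _ hBO
  · have hp3 : p ^ 3 = 1 := by
      have := hB.1
      rw [hp, Matrix.det_smul, Matrix.det_one] at this
      simpa using this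
    obtain ⟨i, rfl⟩ := cube_root ω hω p hp3
    refine ⟨(f, g, i, 0), ?_⟩
    rw [hAB, hp]
    simp [Phi]
  · have hp3 : (-p) ^ 3 = 1 := by
      have := hB.1
      rw [hp, Matrix.det_smul, Matrix.det_fin_three] at this
      simp [P12] at this
      linear_combination this
    obtain ⟨i, hi⟩ := cube_root ω hω (-p) hp3
    refine ⟨(f, g, i, 1), ?_⟩
    rw [hAB, hp]
    have : p • P12 = ω ^ i.val • Nm := by
      rw [← hi]
      ext r s
      fin_cases r <;> fin_cases s <;> simp [P12, Nm]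
    rw [this]
    simp [Phi]

end Groth.Agent.Lib.Helper18.CubicAut
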