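import Groth.Agent.Lib.Helper18.CubicZero
import Groth.Agent.S18406
import Mathlib.LinearAlgebra.Matrix.ToLinearEquiv

set_option autoImplicit false
set_option linter.style.haveILetI false

namespace Groth.Agent.Lib.Helper18.Cubic

open MvPolynomial Groth.Agent.Lib.Helper32.Cubic Groth.Agent.S18406

theorem eval_zero_of_homog {f : MvPolynomial (Fin 3) ℂ} (hf : f.IsHomogeneous 3) :
    eval (0 : Fin 3 → ℂ) f = 0 := by
  rw [eval_eq hf]
  simp

theorem exists_PhiF_eq_zero {f : MvPolynomial (Fin 3) ℂ} (hf : f.IsHomogeneous 3) :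
    ∃ v u : V, v ≠ 0 ∧ u ≠ 0 ∧ eval v f = 0 ∧ ∀ x : V, PhiF f v u x = 0 := by
  classical
  set M : Matrix (Fin 3) (Fin 3) (MvPolynomial (Fin 3) ℂ) :=
    Matrix.of fun i j => pderiv i (pderiv j f) with hM
  have hM0 : eval (0 : Fin 3 → ℂ) M.det = 0 := by
    rw [RingHom.map_det]
    have : (eval (0 : Fin 3 → ℂ)).mapMatrix M = 0 := by
      ext i j
      simp only [RingHom.mapMatrix_apply, Matrix.map_apply, hM, Matrix.of_apply,
        Matrix.zero_apply]
      rw [eval_pderiv2 hf]
      simp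
    rw [this, Matrix.det_zero]
  obtain ⟨v, hv0, hfv, hhv⟩ := exists_common_zero f M.det (eval_zero_of_homog hf) hM0
  rw [RingHom.map_det] at hhv
  obtain ⟨u, hu0, hu⟩ := Matrix.exists_mulVec_eq_zero_iff.2 hhv
  refine ⟨v, u, hv0, hu0, hfv, fun x => ?_⟩
  have hrow : ∀ i : Fin 3, ∑ k, ∑ j, v k * tens f k i j * u j = 0 := by
    intro i
    have := congrFun hu i
    simp only [Matrix.mulVec, dotProduct, RingHom.mapMatrix_apply, Matrix.map_apply, hM,
      Matrix.of_apply, Pi.zero_apply] at this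
    rw [← this, Finset.sum_comm]
    apply Finset.sum_congr rfl
    intro j _
    rw [eval_pderiv2 hf, Finset.sum_mul]
  unfold PhiF
  rw [Phi_apply]
  calc ∑ k, ∑ j, ∑ i, v k * (u j * (x i * tens f i j k))
      = ∑ k, ∑ i, ∑ j, v k * (u j * (x i * tens f i j k)) :=
        Finset.sum_congr rfl (fun k _ => Finset.sum_comm)
    _ = ∑ i, ∑ k, ∑ j, v k * (u j * (x i * tens f i j k)) := Finset.sum_comm
    _ = ∑ i, x i * ∑ k, ∑ j, v k * tens f k i j * u j := by
        apply Finset.sum_congr rfl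
        intro i _
        rw [Finset.mul_sum]
        apply Finset.sum_congr rfl
        intro k _
        rw [Finset.mul_sum]
        apply Finset.sum_congr rfl
        intro j _
        rw [tens_symm12 f k i j, tens_symm23 f i k j]
        ring
    _ = 0 := by simp [hrow]

theorem exists_flex {f : MvPolynomial (Fin 3) ℂ} (hf : f.IsHomogeneous 3)
    (hsm : ∀ v : V, v ≠ 0 → eval v f = 0 → ∃ i : Fin 3, eval v (pderiv i f) ≠ 0) :
    ∃ v : V, IsFlex f v := by
  obtain ⟨v, u, hv0, hu0, hfv, hΦ⟩ := exists_PhiF_eq_zero hf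
  refine ⟨v, hv0, hfv, u, ?_, ?_⟩
  · rw [LinearIndependent.pair_iff]
    intro s t hst
    obtain ⟨x, hx⟩ := Lp_ne_zero hf hsm v hv0 hfv
    have h1 : PhiF f v (s • v + t • u) x = 0 := by rw [hst]; simp
    rw [map_add, map_smul, map_smul, LinearMap.add_apply, LinearMap.smul_apply,
      LinearMap.smul_apply, hΦ x, smul_zero, add_zero, PhiF_self_left, smul_eq_mul] at h1
    have hs : s = 0 := by
      rcases mul_eq_zero.1 h1 with h | h
      · exact h
      · exfalso
        apply hx
        linear_combination (1 / 2) * h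
    refine ⟨hs, ?_⟩
    rw [hs, zero_smul, zero_add] at hst
    rcases smul_eq_zero.1 hst with h | h
    · exact h
    · exact absurd h hu0
  · intro t
    rw [taylor hf, hfv, Qp, Lp_apply, PhiF_swap12 f u v v, hΦ v, PhiF_swap13 f u u v, hΦ u]
    ring

end Groth.Agent.Lib.Helper18.Cubic
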