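import Groth.Agent.Lib.Helper18.CubicWeier
import Groth.Agent.Lib.Helper18.CubicAlg

set_option autoImplicit false
set_option linter.style.haveILetI false

namespace Groth.Agent.Lib.Helper18.Cubic

open MvPolynomial Groth.Agent.Lib.Helper32.Cubic Groth.Agent.S18406

theorem exists_hesse {f : MvPolynomial (Fin 3) ℂ} (hf : f.IsHomogeneous 3)
    (hsm : ∀ v : V, v ≠ 0 → eval v f = 0 → ∃ i : Fin 3, eval v (pderiv i f) ≠ 0) :
    ∃ (A : Matrix (Fin 3) (Fin 3) ℂ) (k c : ℂ), IsUnit A.det ∧ k ^ 3 ≠ 1 ∧ c ≠ 0 ∧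
      ∀ x : V, eval (A.mulVec x) f =
        c * (x 0 ^ 3 + x 1 ^ 3 + x 2 ^ 3 - 3 * k * (x 0 * x 1 * x 2)) := by
  obtain ⟨M, d, a, b, hM, hd, hW⟩ := exists_weierstrass_matrix hf hsm
  obtain ⟨m, n, ha, hb⟩ := exists_mn a b
  subst ha hb
  have hs : n - m ^ 3 ≠ 0 := by
    intro hs0
    have hn : n = m ^ 3 := by linear_combination hs0
    subst hn
    refine sing_false hf hsm M hM _ d hW ![-m ^ 2, 0, 1] ?_ ?_
    · intro h
      have := congrFun h 2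
      simp at this
    · intro q
      refine ⟨q 1 ^ 2 + 3 * m ^ 2 * q 0 ^ 2 + 6 * m ^ 4 * q 0 * q 2 + 3 * m ^ 6 * q 2 ^ 2,
        (q 1 ^ 2 * q 2 - q 0 ^ 3 - (-m ^ 4 - 2 * m * m ^ 3) * q 0 * q 2 ^ 2 -
          ((-m ^ 6 - 4 * m ^ 3 * m ^ 3 - (m ^ 3) ^ 2) / 3) * q 2 ^ 3), fun τ => ?_⟩
      have := sing1 m (q 0) (q 1) (q 2) τ
      simp only [Pi.add_apply, Pi.smul_apply, smul_eq_mul, Matrix.cons_val_zero,
        Matrix.cons_val_one, Matrix.cons_val_two, Matrix.head_cons, Matrix.tail_cons]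
      linear_combination this
  have hP : 3 * n + m ^ 3 ≠ 0 := by
    intro hP0
    have hn : n = -m ^ 3 / 3 := by linear_combination (1 / 3) * hP0
    subst hn
    have hm0 : m ≠ 0 := by
      rintro rfl
      apply hs
      ring
    refine sing_false hf hsm M hM _ d hW ![-m ^ 3 / 3, 0, -m] ?_ ?_
    · intro h
      have := congrFun h 2
      simp at this
      exact hm0 this
    · intro q
      refine ⟨-m * (q 1 - m * q 0 - (-m ^ 3 / 3) * q 2) * (q 1 + m * q 0 + (-m ^ 3 / 3) * q 2),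
        (q 1 ^ 2 * q 2 - q 0 ^ 3 - (-m ^ 4 - 2 * m * (-m ^ 3 / 3)) * q 0 * q 2 ^ 2 -
          ((-m ^ 6 - 4 * m ^ 3 * (-m ^ 3 / 3) - (-m ^ 3 / 3) ^ 2) / 3) * q 2 ^ 3), fun τ => ?_⟩
      have := sing2 m (q 0) (q 1) (q 2) τ
      simp only [Pi.add_apply, Pi.smul_apply, smul_eq_mul, Matrix.cons_val_zero,
        Matrix.cons_val_one, Matrix.cons_val_two, Matrix.head_cons, Matrix.tail_cons]
      linear_combination this
  obtain ⟨P₁, hP₁⟩ := IsAlgClosed.exists_pow_nat_eq (-2 * (3 * n + m ^ 3)) (n := 3) (by norm_num)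
  have hP₁0 : P₁ ≠ 0 := by
    rintro rfl
    apply hP
    linear_combination (1 / 2) * hP₁
  obtain ⟨k, hkP⟩ : ∃ k : ℂ, k * P₁ = -2 * m := ⟨-2 * m / P₁, by field_simp⟩
  obtain ⟨N, hN⟩ : ∃ N : Matrix (Fin 3) (Fin 3) ℂ,
      N = !![P₁, 0, P₁ * m ^ 2; m, -1, n; m, 1, n] := ⟨_, rfl⟩
  have hNdet : N.det = -2 * P₁ * (n - m ^ 3) := by
    rw [hN, Matrix.det_fin_three]
    simp
    ring
  have hNunit : IsUnit N.det := by
    rw [hNdet, isUnit_iff_ne_zero]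
    exact mul_ne_zero (mul_ne_zero (by norm_num) hP₁0) hs
  have hNq : ∀ q : V, 6 * (n - m ^ 3) * (q 1 ^ 2 * q 2 - q 0 ^ 3 -
      (-m ^ 4 - 2 * m * n) * q 0 * q 2 ^ 2 - ((-m ^ 6 - 4 * m ^ 3 * n - n ^ 2) / 3) * q 2 ^ 3) =
      (N.mulVec q 0 ^ 3 + N.mulVec q 1 ^ 3 + N.mulVec q 2 ^ 3 -
        3 * k * (N.mulVec q 0 * N.mulVec q 1 * N.mulVec q 2)) := by
    intro q
    have h1 := hesse_identity m n (q 0) (q 1) (q 2)
    have e0 : N.mulVec q 0 = P₁ * (q 0 + m ^ 2 * q 2) := by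
      simp [hN, Matrix.mulVec, dotProduct, Fin.sum_univ_three]
      ring
    have e1 : N.mulVec q 1 = -(q 1 - m * q 0 - n * q 2) := by
      simp [hN, Matrix.mulVec, dotProduct, Fin.sum_univ_three]
      ring
    have e2 : N.mulVec q 2 = q 1 + m * q 0 + n * q 2 := by
      simp [hN, Matrix.mulVec, dotProduct, Fin.sum_univ_three]
      ring
    rw [e0, e1, e2]
    linear_combination h1 - (q 0 + m ^ 2 * q 2) ^ 3 * hP₁
      - 3 * ((q 0 + m ^ 2 * q 2) * (q 1 - m * q 0 - n * q 2) * (q 1 + m * q 0 + n * q 2)) * hkP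
  have hA : ∀ x : V, eval ((M * N⁻¹).mulVec x) f =
      (d / (6 * (n - m ^ 3))) * (x 0 ^ 3 + x 1 ^ 3 + x 2 ^ 3 - 3 * k * (x 0 * x 1 * x 2)) := by
    intro x
    rw [← Matrix.mulVec_mulVec, hW]
    have h2 := hNq (N⁻¹.mulVec x)
    rw [Matrix.mulVec_mulVec, Matrix.mul_nonsing_inv N hNunit, Matrix.one_mulVec] at h2
    rw [← h2]
    field_simp
  have hAunit : IsUnit (M * N⁻¹).det := by
    rw [Matrix.det_mul]
    exact hM.mul (Matrix.isUnit_nonsing_inv_det N hNunit)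
  refine ⟨M * N⁻¹, k, d / (6 * (n - m ^ 3)), hAunit, ?_, ?_, hA⟩
  · intro hk3
    refine sing_false hf hsm (M * N⁻¹) hAunit _ _ hA ![1, 1, k ^ 2] ?_ ?_
    · intro h
      have := congrFun h 0
      simp at this
    · intro q
      refine ⟨3 * q 0 ^ 2 + 3 * q 1 ^ 2 + 3 * k ^ 2 * q 2 ^ 2 -
        3 * k * (k ^ 2 * q 0 * q 1 + q 0 * q 2 + q 1 * q 2),
        (q 0 ^ 3 + q 1 ^ 3 + q 2 ^ 3 - 3 * k * (q 0 * q 1 * q 2)), fun τ => ?_⟩
      have := sing3 k (q 0) (q 1) (q 2) τ hk3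
      simp only [Pi.add_apply, Pi.smul_apply, smul_eq_mul, Matrix.cons_val_zero,
        Matrix.cons_val_one, Matrix.cons_val_two, Matrix.head_cons, Matrix.tail_cons]
      linear_combination this
  · exact div_ne_zero hd (mul_ne_zero (by norm_num) hs)

end Groth.Agent.Lib.Helper18.Cubic
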