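import Groth.Agent.Lib.Helper18.CubicFlex
import Groth.Agent.Lib.Helper32.CubicBinary
import Mathlib.FieldTheory.IsAlgClosed.Basic
import Mathlib.Analysis.Complex.Polynomial.Basic

set_option autoImplicit false
set_option linter.style.haveILetI false

namespace Groth.Agent.Lib.Helper18.Cubic

open MvPolynomial Groth.Agent.Lib.Helper32.Cubic Groth.Agent.S18406

theorem mulVec_injective_of_isUnit_det (E : Matrix (Fin 3) (Fin 3) ℂ) (hE : IsUnit E.det) :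
    Function.Injective E.mulVec := by
  intro x y hxy
  have := congrArg (E⁻¹).mulVec hxy
  rwa [Matrix.mulVec_mulVec, Matrix.mulVec_mulVec, Matrix.nonsing_inv_mul E hE,
    Matrix.one_mulVec, Matrix.one_mulVec] at this

theorem mulVec_surjective_of_isUnit_det (E : Matrix (Fin 3) (Fin 3) ℂ) (hE : IsUnit E.det) :
    Function.Surjective E.mulVec := by
  intro y
  refine ⟨(E⁻¹).mulVec y, ?_⟩
  rw [Matrix.mulVec_mulVec, Matrix.mul_nonsing_inv E hE, Matrix.one_mulVec]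

theorem sing_false {f : MvPolynomial (Fin 3) ℂ} (hf : f.IsHomogeneous 3)
    (hsm : ∀ v : V, v ≠ 0 → eval v f = 0 → ∃ i : Fin 3, eval v (pderiv i f) ≠ 0)
    (E : Matrix (Fin 3) (Fin 3) ℂ) (hE : IsUnit E.det) (H : V → ℂ) (d : ℂ)
    (hF : ∀ q, eval (E.mulVec q) f = d * H q) (q₀ : V) (hq₀ : q₀ ≠ 0)
    (hsing : ∀ q : V, ∃ A₂ B : ℂ, ∀ τ : ℂ, H (q₀ + τ • q) = A₂ * τ ^ 2 + B * τ ^ 3) : False := by
  have hp₀ : E.mulVec q₀ ≠ 0 := by
    intro h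
    apply hq₀
    apply mulVec_injective_of_isUnit_det E hE
    rw [h, Matrix.mulVec_zero]
  have hH0 : H q₀ = 0 := by
    obtain ⟨A₂, B, h⟩ := hsing 0
    have := h 0
    simpa using this
  have hF0 : eval (E.mulVec q₀) f = 0 := by rw [hF, hH0, mul_zero]
  obtain ⟨y, hy⟩ := Lp_ne_zero hf hsm _ hp₀ hF0
  obtain ⟨q, rfl⟩ := mulVec_surjective_of_isUnit_det E hE y
  obtain ⟨A₂, B, h⟩ := hsing q
  have h2 : ∀ s : ℂ, 0 + Qp f (E.mulVec q) (E.mulVec q₀) * s +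
      (Lp f (E.mulVec q) (E.mulVec q₀) - d * A₂) * s ^ 2 +
      (eval (E.mulVec q) f - d * B) * s ^ 3 = 0 := by
    intro s
    have h3 := taylor hf (E.mulVec q₀) (E.mulVec q) s
    rw [← Matrix.mulVec_smul, ← Matrix.mulVec_add, hF, h s, hF0] at h3
    linear_combination -h3
  obtain ⟨-, h1, -, -⟩ := cubic_coeffs h2
  apply hy
  rw [← Qp_eq_grad]
  exact h1

theorem exists_weierstrass {f : MvPolynomial (Fin 3) ℂ} (hf : f.IsHomogeneous 3)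
    (hsm : ∀ v : V, v ≠ 0 → eval v f = 0 → ∃ i : Fin 3, eval v (pderiv i f) ≠ 0) :
    ∃ (w v u : V) (c d p₁ p₂ p₄ p₅ p₆ : ℂ), c ≠ 0 ∧ d ≠ 0 ∧
      (∀ x y z : ℂ, x • w + y • v + z • u = 0 → x = 0 ∧ y = 0 ∧ z = 0) ∧
      ∀ x y z : ℂ, eval (x • w + y • v + z • u) f =
        c * x ^ 3 + z * (p₁ * x ^ 2 + p₂ * x * y + d * y ^ 2) + z ^ 2 * (p₄ * x + p₅ * y) +
          p₆ * z ^ 3 := by
  obtain ⟨v, hv⟩ := exists_flex hf hsm
  obtain ⟨hv0, hfv, w, hli, hw⟩ := hv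
  obtain ⟨h1, h2⟩ := flex_coeffs hf v w hfv hw
  rw [LinearIndependent.pair_iff] at hli
  have hc : eval w f ≠ 0 := by
    intro hfw
    exact no_line hf hsm v w hli hfv hfw h1 h2
  obtain ⟨u, hu⟩ := Lp_ne_zero hf hsm v hv0 hfv
  have hvv : Lp f v v = 0 := by rw [Lp_self hf, hfv, mul_zero]
  refine ⟨w, v, u, eval w f, Lp f v u, Lp f w u, PhiF f u w v, Lp f u w, Lp f u v, eval u f,
    hc, hu, ?_, ?_⟩
  · intro x y z h
    have hz : z = 0 := by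
      have := congrArg (Lp f v) h
      rw [map_add, map_add, map_smul, map_smul, map_smul, h1, hvv, map_zero] at this
      simp only [smul_eq_mul, mul_zero, zero_add] at this
      rcases mul_eq_zero.1 this with h | h
      · exact h
      · exact absurd h hu
    rw [hz, zero_smul, add_zero] at h
    obtain ⟨hy, hx⟩ := hli y x (by rw [add_comm]; exact h)
    exact ⟨hx, hy, hz⟩
  · intro x y z
    rw [taylor hf, eval_pair' hf, hfv, h2, Qp_add, Qp_smul, Qp_smul, Qp_eq_grad f u w,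
      Qp_eq_grad f u v, map_add, map_smul, map_smul, map_smul, map_smul, LinearMap.smul_apply]
    simp only [smul_eq_mul]
    rw [h1]
    ring
theorem normalize_alg (d p₁ p₂ p₄ p₅ p₆ μ : ℂ) (hd : d ≠ 0) (hμ : μ ≠ 0) :
    ∃ a b : ℂ, ∀ q0 q1 q2 : ℂ,
    (-μ ^ 3 * d) * (q0 / μ - ((p₁ - p₂ ^ 2 / (4 * d)) / (3 * (-μ ^ 3 * d))) * q2) ^ 3 +
      q2 * (p₁ * (q0 / μ - ((p₁ - p₂ ^ 2 / (4 * d)) / (3 * (-μ ^ 3 * d))) * q2) ^ 2 +
        p₂ * (q0 / μ - ((p₁ - p₂ ^ 2 / (4 * d)) / (3 * (-μ ^ 3 * d))) * q2) *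
          (q1 - (p₂ * (q0 / μ - ((p₁ - p₂ ^ 2 / (4 * d)) / (3 * (-μ ^ 3 * d))) * q2) + p₅ * q2) / (2 * d)) +
        d * (q1 - (p₂ * (q0 / μ - ((p₁ - p₂ ^ 2 / (4 * d)) / (3 * (-μ ^ 3 * d))) * q2) + p₅ * q2) / (2 * d)) ^ 2) +
      q2 ^ 2 * (p₄ * (q0 / μ - ((p₁ - p₂ ^ 2 / (4 * d)) / (3 * (-μ ^ 3 * d))) * q2) +
        p₅ * (q1 - (p₂ * (q0 / μ - ((p₁ - p₂ ^ 2 / (4 * d)) / (3 * (-μ ^ 3 * d))) * q2) + p₅ * q2) / (2 * d))) +
      p₆ * q2 ^ 3 =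
    d * (q1 ^ 2 * q2 - q0 ^ 3 - a * q0 * q2 ^ 2 - b * q2 ^ 3) := by
  refine ⟨(-((p₄ - p₂ * p₅ / (2 * d)) - (p₁ - p₂ ^ 2 / (4 * d)) ^ 2 / (3 * (-μ ^ 3 * d))) / (d * μ)),
    (-((p₆ - p₅ ^ 2 / (4 * d)) - (p₁ - p₂ ^ 2 / (4 * d)) ^ 3 / (27 * (-μ ^ 3 * d) ^ 2) -
        ((p₄ - p₂ * p₅ / (2 * d)) - (p₁ - p₂ ^ 2 / (4 * d)) ^ 2 / (3 * (-μ ^ 3 * d))) *
          ((p₁ - p₂ ^ 2 / (4 * d)) / (3 * (-μ ^ 3 * d)))) / d), fun q0 q1 q2 => ?_⟩
  field_simp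
  ring

theorem exists_weierstrass_matrix {f : MvPolynomial (Fin 3) ℂ} (hf : f.IsHomogeneous 3)
    (hsm : ∀ v : V, v ≠ 0 → eval v f = 0 → ∃ i : Fin 3, eval v (pderiv i f) ≠ 0) :
    ∃ (M : Matrix (Fin 3) (Fin 3) ℂ) (d a b : ℂ), IsUnit M.det ∧ d ≠ 0 ∧
      ∀ q : V, eval (M.mulVec q) f =
        d * (q 1 ^ 2 * q 2 - q 0 ^ 3 - a * q 0 * q 2 ^ 2 - b * q 2 ^ 3) := by
  obtain ⟨w, v, u, c, d, p₁, p₂, p₄, p₅, p₆, hc, hd, hind, hG⟩ := exists_weierstrass hf hsm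
  obtain ⟨μ, hμ3⟩ := IsAlgClosed.exists_pow_nat_eq (-c / d) (n := 3) (by norm_num)
  have hμ : μ ≠ 0 := by
    rintro rfl
    have : (-c / d) = 0 := by rw [← hμ3]; ring
    rw [div_eq_zero_iff] at this
    rcases this with h | h
    · exact hc (neg_eq_zero.1 h)
    · exact hd h
  have hcμ : c = -μ ^ 3 * d := by
    rw [hμ3]
    field_simp
  subst hcμ
  set κ : ℂ := (p₁ - p₂ ^ 2 / (4 * d)) / (3 * (-μ ^ 3 * d)) with hκ
  set M : Matrix (Fin 3) (Fin 3) ℂ := Matrix.of fun i j =>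
    ![(1 / μ) * w i - (p₂ / (2 * d * μ)) * v i, v i,
      (-κ) * w i + ((p₂ * κ - p₅) / (2 * d)) * v i + u i] j with hM
  have hMv : ∀ q : V, M.mulVec q = (q 0 / μ - κ * q 2) • w +
      (q 1 - (p₂ * (q 0 / μ - κ * q 2) + p₅ * q 2) / (2 * d)) • v + (q 2) • u := by
    intro q
    ext i
    simp [Matrix.mulVec, dotProduct, Fin.sum_univ_three, hM]
    field_simp
    ring
  obtain ⟨a, b, hab⟩ := normalize_alg d p₁ p₂ p₄ p₅ p₆ μ hd hμ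
  refine ⟨M, d, a, b, ?_, hd, fun q => ?_⟩
  · rw [isUnit_iff_ne_zero]
    intro hdet
    obtain ⟨q, hq0, hq⟩ := Matrix.exists_mulVec_eq_zero_iff.2 hdet
    rw [hMv] at hq
    obtain ⟨hx, hy, hz⟩ := hind _ _ _ hq
    apply hq0
    have h0 : q 0 = 0 := by
      rw [hz] at hx
      have : q 0 / μ = 0 := by linear_combination hx
      rcases div_eq_zero_iff.1 this with h | h
      · exact h
      · exact absurd h hμ
    have h1 : q 1 = 0 := by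
      rw [hz, h0] at hy
      linear_combination hy
    ext i
    fin_cases i
    · exact h0
    · exact h1
    · exact hz
  · rw [hMv, hG]
    exact hab (q 0) (q 1) (q 2)

end Groth.Agent.Lib.Helper18.Cubic
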