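import Mathlib.RingTheory.Nullstellensatz
import Mathlib.RingTheory.Ideal.KrullsHeightTheorem
import Mathlib.RingTheory.Jacobson.Ring
import Mathlib.RingTheory.Jacobson.Polynomial
import Mathlib.Analysis.Complex.Polynomial.Basic

set_option autoImplicit false
set_option linter.style.haveILetI false

namespace Groth.Agent.Lib.Helper18.Cubic

open MvPolynomial

noncomputable def sub1 : MvPolynomial (Fin 3) ℂ →ₐ[ℂ] MvPolynomial (Fin 3) ℂ :=
  aeval ![0, X 1, X 2]

noncomputable def sub2 : MvPolynomial (Fin 3) ℂ →ₐ[ℂ] MvPolynomial (Fin 3) ℂ :=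
  aeval ![0, 0, X 2]

noncomputable def sub3 : MvPolynomial (Fin 3) ℂ →ₐ[ℂ] MvPolynomial (Fin 3) ℂ :=
  aeval ![0, 0, 0]

theorem sub2_comp_sub1 : sub2.comp sub1 = sub2 := by
  apply MvPolynomial.algHom_ext
  intro i
  fin_cases i <;> simp [sub1, sub2]

theorem sub3_comp_sub2 : sub3.comp sub2 = sub3 := by
  apply MvPolynomial.algHom_ext
  intro i
  fin_cases i <;> simp [sub2, sub3]

theorem sub3_apply (p : MvPolynomial (Fin 3) ℂ) : sub3 p = C (eval 0 p) := by
  induction p using MvPolynomial.induction_on with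
  | C a => simp [sub3]
  | add p q hp hq => simp [hp, hq]
  | mul_X p i hp =>
    rw [map_mul, hp]
    fin_cases i <;> simp [sub3]

theorem three_le_height :
    (3 : ℕ∞) ≤ (RingHom.ker (eval (0 : Fin 3 → ℂ))).height := by
  haveI h1 : (RingHom.ker sub1.toRingHom).IsPrime := RingHom.ker_isPrime _
  haveI h2 : (RingHom.ker sub2.toRingHom).IsPrime := RingHom.ker_isPrime _
  haveI h3 : (RingHom.ker (eval (0 : Fin 3 → ℂ))).IsPrime := RingHom.ker_isPrime _
  haveI h0 : (⊥ : Ideal (MvPolynomial (Fin 3) ℂ)).IsPrime := Ideal.isPrime_bot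
  have l1 : (⊥ : Ideal (MvPolynomial (Fin 3) ℂ)) < RingHom.ker sub1.toRingHom := by
    rw [bot_lt_iff_ne_bot]
    intro h
    have : (X 0 : MvPolynomial (Fin 3) ℂ) ∈ RingHom.ker sub1.toRingHom := by
      simp [RingHom.mem_ker, sub1]
    rw [h] at this
    exact X_ne_zero _ this
  have l2 : RingHom.ker sub1.toRingHom < RingHom.ker sub2.toRingHom := by
    refine lt_of_le_of_ne ?_ ?_
    · intro p hp
      rw [RingHom.mem_ker] at hp ⊢
      have := congrArg sub2 hp
      rw [map_zero] at this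
      rw [← this]
      exact (DFunLike.congr_fun sub2_comp_sub1 p).symm
    · intro h
      have : (X 1 : MvPolynomial (Fin 3) ℂ) ∈ RingHom.ker sub2.toRingHom := by
        simp [RingHom.mem_ker, sub2]
      rw [← h] at this
      simp [RingHom.mem_ker, sub1] at this
  have l3 : RingHom.ker sub2.toRingHom < RingHom.ker (eval (0 : Fin 3 → ℂ)) := by
    refine lt_of_le_of_ne ?_ ?_
    · intro p hp
      rw [RingHom.mem_ker] at hp ⊢
      have := congrArg sub3 hp
      rw [map_zero] at this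
      have h4 : sub3 (sub2 p) = sub3 p := DFunLike.congr_fun sub3_comp_sub2 p
      have h5 : sub3 p = 0 := by rw [← h4]; exact this
      rw [sub3_apply] at h5
      exact C_injective _ _ (by rw [h5, map_zero])
    · intro h
      have : (X 2 : MvPolynomial (Fin 3) ℂ) ∈ RingHom.ker (eval (0 : Fin 3 → ℂ)) := by
        simp [RingHom.mem_ker]
      rw [← h] at this
      simp [RingHom.mem_ker, sub2] at this
  have e1 := Ideal.height_add_one_le_of_lt_of_isPrime l1
  have e2 := Ideal.height_add_one_le_of_lt_of_isPrime l2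
  have e3 := Ideal.height_add_one_le_of_lt_of_isPrime l3
  calc (3 : ℕ∞) = 0 + 1 + 1 + 1 := by norm_num
    _ ≤ (⊥ : Ideal (MvPolynomial (Fin 3) ℂ)).height + 1 + 1 + 1 := by gcongr; exact bot_le
    _ ≤ (RingHom.ker sub1.toRingHom).height + 1 + 1 := by gcongr
    _ ≤ (RingHom.ker sub2.toRingHom).height + 1 := by gcongr
    _ ≤ _ := e3

theorem exists_common_zero (g₁ g₂ : MvPolynomial (Fin 3) ℂ) (h₁ : eval 0 g₁ = 0)
    (h₂ : eval 0 g₂ = 0) :
    ∃ v : Fin 3 → ℂ, v ≠ 0 ∧ eval v g₁ = 0 ∧ eval v g₂ = 0 := by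
  classical
  haveI hm₀ : (RingHom.ker (eval (0 : Fin 3 → ℂ))).IsMaximal :=
    RingHom.ker_isMaximal_of_surjective _ (fun c => ⟨C c, by simp⟩)
  have hI : Ideal.span ((({g₁, g₂} : Finset (MvPolynomial (Fin 3) ℂ)) : Set _)) ≤
      RingHom.ker (eval (0 : Fin 3 → ℂ)) := by
    rw [Ideal.span_le]
    intro p hp
    simp only [Finset.coe_insert, Finset.coe_singleton, Set.mem_insert_iff,
      Set.mem_singleton_iff] at hp
    rcases hp with rfl | rfl
    · exact h₁
    · exact h₂
  obtain ⟨P, hPmin, hPle⟩ := Ideal.exists_minimalPrimes_le hI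
  haveI hPprime : P.IsPrime := hPmin.1.1
  have hht : P.height ≤ 2 := by
    refine (Ideal.height_le_card_of_mem_minimalPrimes_span_finset hPmin).trans ?_
    exact_mod_cast Finset.card_le_two
  have hne : P ≠ RingHom.ker (eval (0 : Fin 3 → ℂ)) := by
    intro h
    rw [h] at hht
    have := three_le_height.trans hht
    norm_num at this
  have hjac : P.jacobson = P := (isJacobsonRing_iff.1 (inferInstance : IsJacobsonRing (MvPolynomial (Fin 3) ℂ))) P hPprime.isRadical
  have hex : ∃ M : Ideal (MvPolynomial (Fin 3) ℂ), M.IsMaximal ∧ P ≤ M ∧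
      M ≠ RingHom.ker (eval (0 : Fin 3 → ℂ)) := by
    by_contra hcon
    push Not at hcon
    apply hne
    refine le_antisymm hPle ?_
    rw [← hjac, Ideal.jacobson]
    apply le_sInf
    rintro M ⟨hPM, hM⟩
    rw [hcon M hM hPM]
  obtain ⟨M, hM, hPM, hMne⟩ := hex
  obtain ⟨v, hv⟩ := (isMaximal_iff_eq_vanishingIdeal_singleton (K := ℂ)).1 hM
  have hmem : ∀ p ∈ P, eval v p = 0 := by
    intro p hp
    have h1 : p ∈ vanishingIdeal ℂ {v} := hv ▸ hPM hp
    exact (mem_vanishingIdeal_singleton_iff v p).1 h1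
  refine ⟨v, ?_, hmem _ (hPmin.1.2 (Ideal.subset_span (by simp))),
    hmem _ (hPmin.1.2 (Ideal.subset_span (by simp)))⟩
  rintro rfl
  apply hMne
  rw [hv]
  ext p
  rw [mem_vanishingIdeal_singleton_iff, RingHom.mem_ker]
  exact Iff.rfl


end Groth.Agent.Lib.Helper18.Cubic
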