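import Mathlib

set_option autoImplicit false
universe u
open TensorProduct IsLocalRing

namespace Groth.Agent.Lib.Helper18.Cyc1941MULTALG

/-- for an Artinian ring `T` which is an algebra over a local Artinian ring `A`, the structure maps
to the localizations are local. -/
theorem isLocalHom_algebraMap_atPrime {A T : Type u} [CommRing A] [IsLocalRing A]
    [IsArtinianRing A] [CommRing T] [Algebra A T] (n : Ideal T) [n.IsPrime] :
    IsLocalHom (algebraMap A (Localization.AtPrime n)) := by
  refine ⟨fun a ha => ?_⟩
  by_contra hna
  have hmem : a ∈ maximalIdeal A := (mem_maximalIdeal a).mpr hna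
  have hnil : IsNilpotent a := by
    have : maximalIdeal A = (⊥ : Ideal A).jacobson := by
      rw [IsLocalRing.jacobson_eq_maximalIdeal ⊥ bot_ne_top]
    have h2 : IsNilpotent (maximalIdeal A) := by
      rw [this]; exact IsArtinianRing.isNilpotent_jacobson_bot
    obtain ⟨m, hm⟩ := h2
    refine ⟨m, ?_⟩
    have : a ^ m ∈ (maximalIdeal A) ^ m := Ideal.pow_mem_pow hmem m
    rw [hm] at this
    exact this
  have hnil' : IsNilpotent (algebraMap A (Localization.AtPrime n) a) := hnil.map _
  exact hnil'.not_isUnit ha

/-- `length_A (T ⧸ n) = length_{κ(A)} κ(T_n)`. -/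
theorem length_quot_eq {A T : Type u} [CommRing A] [IsLocalRing A]
    [IsArtinianRing A] [CommRing T] [Algebra A T] (n : Ideal T) [hn : n.IsMaximal]
    [IsLocalHom (algebraMap A (Localization.AtPrime n))] :
    Module.length A (T ⧸ n) =
      Module.length (ResidueField A) (ResidueField (Localization.AtPrime n)) := by
  rw [← Module.length_eq_of_surjective (S := A) (R := ResidueField A)
    (M := ResidueField (Localization.AtPrime n)) residue_surjective]
  let e := IsLocalization.AtPrime.equivQuotMaximalIdeal n (Localization.AtPrime n)
  let e' : (T ⧸ n) ≃ₗ[A] ResidueField (Localization.AtPrime n) :=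
    { e.toAddEquiv with
      map_smul' := by
        intro a x
        obtain ⟨t, rfl⟩ := Ideal.Quotient.mk_surjective x
        change e (a • Ideal.Quotient.mk n t) = a • e (Ideal.Quotient.mk n t)
        have h1 : a • Ideal.Quotient.mk n t = Ideal.Quotient.mk n (a • t) := rfl
        rw [h1, IsLocalization.AtPrime.equivQuotMaximalIdeal_apply_mk,
          IsLocalization.AtPrime.equivQuotMaximalIdeal_apply_mk, Algebra.smul_def, map_mul,
          ← IsScalarTower.algebraMap_apply A T (Localization.AtPrime n), map_mul, Algebra.smul_def]
        rfl }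
  exact e'.length_eq

theorem alg_core (k L A : Type u) [Field k] [Field L] [Algebra k L] [Module.Finite k L]
    [CommRing A] [Algebra k A] [IsLocalRing A] [IsArtinianRing A] :
    ∑ᶠ n : PrimeSpectrum (A ⊗[k] L),
      ((Module.length (Localization.AtPrime n.asIdeal) (Localization.AtPrime n.asIdeal)).toNat : ℤ) *
        ((Module.length A ((A ⊗[k] L) ⧸ n.asIdeal)).toNat : ℤ) =
      (Module.finrank k L : ℤ) * ((Module.length A A).toNat : ℤ) := by
  classical
  let T := A ⊗[k] L
  haveI : IsArtinianRing T := IsArtinianRing.of_finite A T
  haveI : Fintype (PrimeSpectrum T) := Fintype.ofFinite _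
  have hmax : ∀ n : PrimeSpectrum T, n.asIdeal.IsMaximal := fun n =>
    IsArtinianRing.isMaximal_of_isPrime n.asIdeal
  have hloc : ∀ n : PrimeSpectrum T, IsLocalHom (algebraMap A (Localization.AtPrime n.asIdeal)) :=
    fun n => isLocalHom_algebraMap_atPrime n.asIdeal
  -- length of `T` over `A`, computed in two ways
  have h1 : Module.length A T = (Module.finrank k L : ℕ∞) * Module.length A A := by
    rw [Module.length_of_free_of_finite, Module.finrank_baseChange]
  have h2 : Module.length A T = ∑ n : PrimeSpectrum T, Module.length A (Localization.AtPrime n.asIdeal) := by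
    rw [← Module.length_pi_of_fintype]
    exact ((PrimeSpectrum.toPiLocalizationEquiv T).restrictScalars A).toLinearEquiv.length_eq
  have h3 : ∀ n : PrimeSpectrum T, Module.length A (Localization.AtPrime n.asIdeal) =
      Module.length (Localization.AtPrime n.asIdeal) (Localization.AtPrime n.asIdeal) *
        Module.length A (T ⧸ n.asIdeal) := by
    intro n
    haveI := hmax n
    haveI := hloc n
    rw [length_quot_eq n.asIdeal]
    exact IsLocalRing.length_restrictScalars A (Localization.AtPrime n.asIdeal)
      (Localization.AtPrime n.asIdeal)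
  -- finiteness
  have hA : Module.length A A ≠ ⊤ := by
    rw [Module.length_ne_top_iff, isFiniteLength_iff_isNoetherian_isArtinian]
    exact ⟨inferInstance, inferInstance⟩
  have hTn : ∀ n : PrimeSpectrum T,
      Module.length (Localization.AtPrime n.asIdeal) (Localization.AtPrime n.asIdeal) ≠ ⊤ := by
    intro n
    rw [Module.length_ne_top_iff, isFiniteLength_iff_isNoetherian_isArtinian]
    exact ⟨inferInstance, inferInstance⟩
  have hQ : ∀ n : PrimeSpectrum T, Module.length A (T ⧸ n.asIdeal) ≠ ⊤ := by
    intro n
    rw [Module.length_ne_top_iff, isFiniteLength_iff_isNoetherian_isArtinian]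
    exact ⟨inferInstance, inferInstance⟩
  rw [finsum_eq_sum_of_fintype]
  have key : (∑ n : PrimeSpectrum T,
      Module.length (Localization.AtPrime n.asIdeal) (Localization.AtPrime n.asIdeal) *
        Module.length A (T ⧸ n.asIdeal)) = (Module.finrank k L : ℕ∞) * Module.length A A := by
    rw [← h1, h2]
    exact (Finset.sum_congr rfl fun n _ => h3 n).symm
  -- pass to natural numbers
  have key' : (∑ n : PrimeSpectrum T,
      (Module.length (Localization.AtPrime n.asIdeal) (Localization.AtPrime n.asIdeal)).toNat *
        (Module.length A (T ⧸ n.asIdeal)).toNat) = Module.finrank k L * (Module.length A A).toNat := by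
    have := congrArg ENat.toNat key
    rw [ENat.toNat_mul, ENat.toNat_natCast] at this
    rw [← this, ENat.toNat_sum]
    · exact Finset.sum_congr rfl fun n _ => (ENat.toNat_mul _ _).symm
    · intro n _
      exact WithTop.mul_ne_top (hTn n) (hQ n)
  exact_mod_cast key'

end Groth.Agent.Lib.Helper18.Cyc1941MULTALG
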