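import Mathlib

set_option autoImplicit false
universe u
open TensorProduct IsLocalRing

namespace Groth.Agent.Lib.Helper18.Cyc1941RC

/-- `length_A (T ⧸ n) = length_A κ(T_n)` for a maximal ideal `n`. -/
theorem length_quot_eq {A T : Type u} [CommRing A] [CommRing T] [Algebra A T]
    (n : Ideal T) [hn : n.IsMaximal] :
    Module.length A (T ⧸ n) = Module.length A (ResidueField (Localization.AtPrime n)) := by
  let e := IsLocalization.AtPrime.equivQuotMaximalIdeal n (Localization.AtPrime n)
  let e' : (T ⧸ n) ≃ₗ[A] ResidueField (Localization.AtPrime n) :=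
    { e.toAddEquiv with
      map_smul' := by
        intro a x
        obtain ⟨t, rfl⟩ := Ideal.Quotient.mk_surjective x
        change e (a • Ideal.Quotient.mk n t) = a • e (Ideal.Quotient.mk n t)
        have h1 : a • Ideal.Quotient.mk n t = Ideal.Quotient.mk n (a • t) := rfl
        rw [h1, IsLocalization.AtPrime.equivQuotMaximalIdeal_apply_mk,
          IsLocalization.AtPrime.equivQuotMaximalIdeal_apply_mk, Algebra.smul_def, map_mul,
          ← IsScalarTower.algebraMap_apply A T (Localization.AtPrime n), map_mul, Algebra.smul_def]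
        rfl }
  exact e'.length_eq

theorem length_self_of_ringEquiv {P Q : Type u} [CommRing P] [CommRing Q] (e : P ≃+* Q) :
    Module.length P P = Module.length Q Q := by
  letI : Algebra P Q := e.toRingHom.toAlgebra
  have hs : Function.Surjective (algebraMap P Q) := e.surjective
  rw [← Module.length_eq_of_surjective (S := P) (R := Q) (M := Q) hs]
  let e' : P ≃ₗ[P] Q :=
    { e.toAddEquiv with
      map_smul' := by
        intro a x
        change e (a * x) = a • e x
        rw [Algebra.smul_def, map_mul]
        rfl }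
  exact e'.length_eq

/-- general decomposition of the length of an artinian algebra over a local ring. -/
theorem length_eq_sum {A T : Type u} [CommRing A] [IsLocalRing A] [CommRing T] [Algebra A T]
    [IsArtinianRing T] [Fintype (PrimeSpectrum T)]
    (hloc : ∀ n : PrimeSpectrum T, IsLocalHom (algebraMap A (Localization.AtPrime n.asIdeal))) :
    Module.length A T = ∑ n : PrimeSpectrum T,
      Module.length (Localization.AtPrime n.asIdeal) (Localization.AtPrime n.asIdeal) *
        Module.length A (ResidueField (Localization.AtPrime n.asIdeal)) := by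
  classical
  have h2 : Module.length A T =
      ∑ n : PrimeSpectrum T, Module.length A (Localization.AtPrime n.asIdeal) := by
    rw [← Module.length_pi_of_fintype]
    exact ((PrimeSpectrum.toPiLocalizationEquiv T).restrictScalars A).toLinearEquiv.length_eq
  rw [h2]
  refine Finset.sum_congr rfl fun n _ => ?_
  haveI := hloc n
  rw [Module.length_eq_of_surjective (S := A) (R := ResidueField A)
    (M := ResidueField (Localization.AtPrime n.asIdeal)) residue_surjective]
  exact IsLocalRing.length_restrictScalars A (Localization.AtPrime n.asIdeal)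
    (Localization.AtPrime n.asIdeal)

/-- term (T1): the fibre ring localised. -/
theorem length_loc_quot {B : Type u} [CommRing B] (I : Ideal B) (n : Ideal (B ⧸ I)) [n.IsPrime] :
    Module.length (Localization.AtPrime (n.comap (Ideal.Quotient.mk I)))
      (Localization.AtPrime (n.comap (Ideal.Quotient.mk I)) ⧸
        I.map (algebraMap B (Localization.AtPrime (n.comap (Ideal.Quotient.mk I))))) =
    Module.length (Localization.AtPrime n) (Localization.AtPrime n) := by
  set q : Ideal B := n.comap (Ideal.Quotient.mk I) with hq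
  set Bq := Localization.AtPrime q
  set Lq := Bq ⧸ I.map (algebraMap B Bq)
  have hM : Algebra.algebraMapSubmonoid (B ⧸ I) q.primeCompl = n.primeCompl := by
    ext x
    obtain ⟨b, rfl⟩ := Ideal.Quotient.mk_surjective x
    constructor
    · rintro ⟨c, hc, hcx⟩
      rw [← hcx]
      exact hc
    · intro hb
      exact ⟨b, hb, rfl⟩
  haveI : IsLocalization.AtPrime Lq n := by
    have : IsLocalization (Algebra.algebraMapSubmonoid (B ⧸ I) q.primeCompl) Lq := inferInstance
    rw [hM] at this
    exact this
  let e : Localization.AtPrime n ≃ₐ[B ⧸ I] Lq :=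
    IsLocalization.algEquiv n.primeCompl (Localization.AtPrime n) Lq
  rw [← length_self_of_ringEquiv e.symm.toRingEquiv]
  exact Module.length_eq_of_surjective (S := Bq) (R := Lq) (M := Lq)
    Ideal.Quotient.mk_surjective

/-- term (T2): the residue fields. -/
theorem length_residue {A B : Type u} [CommRing A] [CommRing B] [Algebra A B] (I : Ideal B)
    (n : Ideal (B ⧸ I)) [n.IsMaximal] [(n.comap (Ideal.Quotient.mk I)).IsPrime] :
    Module.length A (ResidueField (Localization.AtPrime (n.comap (Ideal.Quotient.mk I)))) =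
    Module.length A (ResidueField (Localization.AtPrime n)) := by
  haveI : (n.comap (Ideal.Quotient.mk I)).IsMaximal :=
    Ideal.comap_isMaximal_of_surjective _ Ideal.Quotient.mk_surjective
  rw [← length_quot_eq, ← length_quot_eq]
  let f : B →ₐ[A] ((B ⧸ I) ⧸ n) := (Ideal.Quotient.mkₐ A n).comp (Ideal.Quotient.mkₐ A I)
  have hf : Function.Surjective f :=
    (Ideal.Quotient.mkₐ_surjective A n).comp (Ideal.Quotient.mkₐ_surjective A I)
  have hk : n.comap (Ideal.Quotient.mk I) = RingHom.ker f := by
    ext b
    rw [Ideal.mem_comap, RingHom.mem_ker]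
    change _ ↔ Ideal.Quotient.mk n (Ideal.Quotient.mk I b) = 0
    rw [Ideal.Quotient.eq_zero_iff_mem]
  exact ((Ideal.quotientEquivAlgOfEq A hk).trans
    (Ideal.quotientKerAlgEquivOfSurjective hf)).toLinearEquiv.length_eq

section specific

variable {R S R' : Type u} [CommRing R] [CommRing S] [CommRing R'] [IsLocalRing R]
  [IsLocalRing S] [IsLocalRing R'] [Algebra R S] [Algebra R R'] [IsLocalHom (algebraMap R S)]
  [IsLocalHom (algebraMap R R')]

/-- `m_R B ≤ m_S B`. -/
theorem map_le_map :
    ((maximalIdeal R).map (algebraMap R R')).map (algebraMap R' (R' ⊗[R] S)) ≤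
      (maximalIdeal S).map
        (Algebra.TensorProduct.includeRight : S →ₐ[R] R' ⊗[R] S).toRingHom := by
  rw [Ideal.map_map, ← IsScalarTower.algebraMap_eq R R' (R' ⊗[R] S)]
  have h1 : algebraMap R (R' ⊗[R] S) =
      ((Algebra.TensorProduct.includeRight : S →ₐ[R] R' ⊗[R] S).toRingHom).comp
        (algebraMap R S) := by
    ext r
    exact ((Algebra.TensorProduct.includeRight : S →ₐ[R] R' ⊗[R] S).commutes r).symm
  rw [h1, ← Ideal.map_map]
  exact Ideal.map_mono (((IsLocalRing.local_hom_TFAE (algebraMap R S)).out 0 2).mp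
    ‹IsLocalHom (algebraMap R S)›)

/-- a prime containing `m_R R'` is the maximal ideal. -/
theorem prime_eq_max [IsArtinianRing (R' ⧸ (maximalIdeal R).map (algebraMap R R'))]
    (P : Ideal R') [P.IsPrime] (h : (maximalIdeal R).map (algebraMap R R') ≤ P) :
    P = maximalIdeal R' := by
  set J := (maximalIdeal R).map (algebraMap R R')
  have hker : RingHom.ker (Ideal.Quotient.mk J) ≤ P := by rw [Ideal.mk_ker]; exact h
  haveI hp : (P.map (Ideal.Quotient.mk J)).IsPrime :=
    Ideal.map_isPrime_of_surjective Ideal.Quotient.mk_surjective hker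
  haveI hm : (P.map (Ideal.Quotient.mk J)).IsMaximal := IsArtinianRing.isMaximal_of_isPrime _
  have h2 : (Ideal.comap (Ideal.Quotient.mk J) (P.map (Ideal.Quotient.mk J))).IsMaximal :=
    Ideal.comap_isMaximal_of_surjective _ Ideal.Quotient.mk_surjective
  have hc : Ideal.comap (Ideal.Quotient.mk J) (P.map (Ideal.Quotient.mk J)) = P := by
    rw [Ideal.comap_map_of_surjective _ Ideal.Quotient.mk_surjective]
    exact sup_eq_left.mpr hker
  rw [hc] at h2
  exact IsLocalRing.eq_maximalIdeal h2

/-- the length of the fibre ring. -/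
theorem length_fibre [Module.Finite (ResidueField R) (ResidueField S)] :
    Module.length R' ((R' ⊗[R] S) ⧸ (maximalIdeal S).map
        (Algebra.TensorProduct.includeRight : S →ₐ[R] R' ⊗[R] S).toRingHom) =
      (Module.finrank (ResidueField R) (ResidueField S) : ℕ∞) *
        Module.length R' (R' ⧸ (maximalIdeal R).map (algebraMap R R')) := by
  classical
  let g : S →ₐ[R] ResidueField S := IsScalarTower.toAlgHom R S (ResidueField S)
  have hg : Function.Surjective g := IsLocalRing.residue_surjective
  let φ : R' ⊗[R] S →ₐ[R'] R' ⊗[R] ResidueField S :=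
    Algebra.TensorProduct.map (AlgHom.id R' R') g
  have hφ : Function.Surjective φ :=
    Algebra.TensorProduct.map_surjective (f := AlgHom.id R' R') (g := g)
      Function.surjective_id hg
  have hker : (maximalIdeal S).map
        (Algebra.TensorProduct.includeRight : S →ₐ[R] R' ⊗[R] S).toRingHom = RingHom.ker φ := by
    have h0 := Algebra.TensorProduct.lTensor_ker (A := R') g hg
    have hkg : RingHom.ker g = maximalIdeal S := IsLocalRing.ker_residue
    rw [hkg] at h0
    have h1 : (maximalIdeal S).map
        (Algebra.TensorProduct.includeRight : S →ₐ[R] R' ⊗[R] S).toRingHom =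
        RingHom.ker (Algebra.TensorProduct.map (AlgHom.id R R') g) := h0.symm
    rw [h1]
    ext x
    rfl
  let e12 : ((R' ⊗[R] S) ⧸ (maximalIdeal S).map
        (Algebra.TensorProduct.includeRight : S →ₐ[R] R' ⊗[R] S).toRingHom) ≃ₗ[R']
      R' ⊗[R] ResidueField S :=
    ((Ideal.quotientEquivAlgOfEq R' hker).trans
      (Ideal.quotientKerAlgEquivOfSurjective hφ)).toLinearEquiv
  let b : ResidueField S ≃ₗ[R] (Fin (Module.finrank (ResidueField R) (ResidueField S)) →
      ResidueField R) :=
    (Module.finBasis (ResidueField R) (ResidueField S)).equivFun.restrictScalars R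
  let e3 : R' ⊗[R] ResidueField S ≃ₗ[R']
      R' ⊗[R] (Fin (Module.finrank (ResidueField R) (ResidueField S)) → ResidueField R) :=
    TensorProduct.AlgebraTensorModule.congr (LinearEquiv.refl R' R') b
  let e4 : R' ⊗[R] (Fin (Module.finrank (ResidueField R) (ResidueField S)) → ResidueField R)
      ≃ₗ[R'] (Fin (Module.finrank (ResidueField R) (ResidueField S)) → R' ⊗[R] ResidueField R) :=
    TensorProduct.piRight R R' R' (fun _ => ResidueField R)
  let e5 : R' ⊗[R] ResidueField R ≃ₗ[R'] R' ⧸ (maximalIdeal R).map (algebraMap R R') :=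
    (Algebra.TensorProduct.quotIdealMapEquivTensorQuot R' (maximalIdeal R)).symm.toLinearEquiv
  rw [(e12.trans (e3.trans e4)).length_eq, Module.length_pi_of_fintype, Finset.sum_const,
    Finset.card_univ, Fintype.card_fin, nsmul_eq_mul, e5.length_eq]

end specific

theorem ring_core {R S R' : Type u} [CommRing R] [CommRing S] [CommRing R'] [IsLocalRing R] [IsLocalRing S] [IsLocalRing R'] [Algebra R S] [Algebra R R'] [IsLocalHom (algebraMap R S)] [IsLocalHom (algebraMap R R')] [IsNoetherianRing R'] [Module.Finite (ResidueField R) (ResidueField S)] [IsArtinianRing (R' ⧸ (maximalIdeal R).map (algebraMap R R'))] : ∑ᶠ q ∈ {q : PrimeSpectrum (R' ⊗[R] S) | q.asIdeal.comap (algebraMap R' (R' ⊗[R] S)) = maximalIdeal R' ∧ q.asIdeal.comap (Algebra.TensorProduct.includeRight : S →ₐ[R] R' ⊗[R] S).toRingHom = maximalIdeal S}, (((Module.length (Localization.AtPrime q.asIdeal) (Localization.AtPrime q.asIdeal ⧸ (maximalIdeal S).map ((algebraMap (R' ⊗[R] S) (Localization.AtPrime q.asIdeal)).comp (Algebra.TensorProduct.includeRight : S →ₐ[R] R' ⊗[R] S).toRingHom))).toNat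 : ℤ) * ((Module.length R' (ResidueField (Localization.AtPrime q.asIdeal))).toNat : ℤ)) = (Module.finrank (ResidueField R) (ResidueField S) : ℤ) * ((Module.length R' (R' ⧸ (maximalIdeal R).map (algebraMap R R'))).toNat : ℤ) := by
  classical
  set incR : S →+* R' ⊗[R] S :=
    (Algebra.TensorProduct.includeRight : S →ₐ[R] R' ⊗[R] S).toRingHom with hincR
  set I : Ideal (R' ⊗[R] S) := (maximalIdeal S).map incR with hI
  set J : Ideal R' := (maximalIdeal R).map (algebraMap R R') with hJ
  have hJI : J.map (algebraMap R' (R' ⊗[R] S)) ≤ I := map_le_map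
  have hlenF : Module.length R' ((R' ⊗[R] S) ⧸ I) =
      (Module.finrank (ResidueField R) (ResidueField S) : ℕ∞) * Module.length R' (R' ⧸ J) :=
    length_fibre
  -- finiteness
  have hA : Module.length R' (R' ⧸ J) ≠ ⊤ := by
    rw [Module.length_eq_of_surjective (S := R') (R := R' ⧸ J) (M := R' ⧸ J)
      Ideal.Quotient.mk_surjective]
    rw [Module.length_ne_top_iff, isFiniteLength_iff_isNoetherian_isArtinian]
    exact ⟨inferInstance, inferInstance⟩
  have hT : Module.length R' ((R' ⊗[R] S) ⧸ I) ≠ ⊤ := by
    rw [hlenF]; exact WithTop.mul_ne_top (ENat.coe_ne_top _) hA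
  haveI hArt : IsArtinianRing ((R' ⊗[R] S) ⧸ I) := by
    have h1 : IsArtinian R' ((R' ⊗[R] S) ⧸ I) := by
      have := (Module.length_ne_top_iff.mp hT)
      rw [isFiniteLength_iff_isNoetherian_isArtinian] at this
      exact this.2
    exact isArtinian_of_tower R' h1
  haveI : Fintype (PrimeSpectrum ((R' ⊗[R] S) ⧸ I)) := Fintype.ofFinite _
  -- primes of T lie over m_{R'}
  have hover : ∀ n : PrimeSpectrum ((R' ⊗[R] S) ⧸ I),
      (n.asIdeal.comap (Ideal.Quotient.mk I)).comap (algebraMap R' (R' ⊗[R] S)) =
        maximalIdeal R' := by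
    intro n
    apply prime_eq_max (R := R)
    rw [← Ideal.map_le_iff_le_comap]
    refine hJI.trans ?_
    intro x hx
    rw [Ideal.mem_comap, Ideal.Quotient.eq_zero_iff_mem.mpr hx]
    exact zero_mem _
  have hloc : ∀ n : PrimeSpectrum ((R' ⊗[R] S) ⧸ I),
      IsLocalHom (algebraMap R' (Localization.AtPrime n.asIdeal)) := by
    intro n
    refine ⟨fun a ha => ?_⟩
    by_contra hna
    have hmem : a ∈ maximalIdeal R' := (mem_maximalIdeal a).mpr hna
    rw [← hover n] at hmem
    have h1 : algebraMap R' ((R' ⊗[R] S) ⧸ I) a ∈ n.asIdeal := hmem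
    have h2 : algebraMap ((R' ⊗[R] S) ⧸ I) (Localization.AtPrime n.asIdeal)
        (algebraMap R' ((R' ⊗[R] S) ⧸ I) a) ∈ maximalIdeal (Localization.AtPrime n.asIdeal) :=
      (IsLocalization.AtPrime.to_map_mem_maximal_iff (Localization.AtPrime n.asIdeal)
        n.asIdeal _).mpr h1
    rw [← IsScalarTower.algebraMap_apply] at h2
    exact (mem_maximalIdeal _).mp h2 ha
  have hsum := length_eq_sum (A := R') (T := (R' ⊗[R] S) ⧸ I) hloc
  -- index set
  have hQ : {q : PrimeSpectrum (R' ⊗[R] S) |
      q.asIdeal.comap (algebraMap R' (R' ⊗[R] S)) = maximalIdeal R' ∧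
        q.asIdeal.comap incR = maximalIdeal S} =
      Set.range (PrimeSpectrum.comap (Ideal.Quotient.mk I)) := by
    rw [_root_.range_comap_of_surjective _ _ Ideal.Quotient.mk_surjective, Ideal.mk_ker]
    ext q
    simp only [Set.mem_setOf_eq, PrimeSpectrum.mem_zeroLocus, SetLike.coe_subset_coe]
    constructor
    · rintro ⟨-, h2⟩
      rw [hI, Ideal.map_le_iff_le_comap, h2]
    · intro hle
      have h2 : q.asIdeal.comap incR = maximalIdeal S := by
        have hle' : maximalIdeal S ≤ q.asIdeal.comap incR := Ideal.map_le_iff_le_comap.mp hle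
        exact ((IsLocalRing.maximalIdeal.isMaximal S).eq_of_le
          (Ideal.IsPrime.ne_top inferInstance) hle').symm
      refine ⟨?_, h2⟩
      apply prime_eq_max (R := R)
      rw [← Ideal.map_le_iff_le_comap]
      exact hJI.trans hle
  rw [hQ, finsum_mem_range
    (PrimeSpectrum.comap_injective_of_surjective _ Ideal.Quotient.mk_surjective),
    finsum_eq_sum_of_fintype]
  -- the terms
  have hT1 : ∀ n : PrimeSpectrum ((R' ⊗[R] S) ⧸ I),
      Module.length (Localization.AtPrime (PrimeSpectrum.comap (Ideal.Quotient.mk I) n).asIdeal)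
        (Localization.AtPrime (PrimeSpectrum.comap (Ideal.Quotient.mk I) n).asIdeal ⧸
          (maximalIdeal S).map ((algebraMap (R' ⊗[R] S)
            (Localization.AtPrime (PrimeSpectrum.comap (Ideal.Quotient.mk I) n).asIdeal)).comp
              incR)) =
      Module.length (Localization.AtPrime n.asIdeal) (Localization.AtPrime n.asIdeal) := by
    intro n
    have hmm : (maximalIdeal S).map ((algebraMap (R' ⊗[R] S)
        (Localization.AtPrime (PrimeSpectrum.comap (Ideal.Quotient.mk I) n).asIdeal)).comp
          incR) = I.map (algebraMap (R' ⊗[R] S)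
        (Localization.AtPrime (PrimeSpectrum.comap (Ideal.Quotient.mk I) n).asIdeal)) :=
      (Ideal.map_map _ _).symm
    rw [hmm]
    exact length_loc_quot I n.asIdeal
  have hT2 : ∀ n : PrimeSpectrum ((R' ⊗[R] S) ⧸ I),
      Module.length R' (ResidueField
        (Localization.AtPrime (PrimeSpectrum.comap (Ideal.Quotient.mk I) n).asIdeal)) =
      Module.length R' (ResidueField (Localization.AtPrime n.asIdeal)) := by
    intro n
    haveI : n.asIdeal.IsMaximal := IsArtinianRing.isMaximal_of_isPrime n.asIdeal
    exact length_residue (A := R') I n.asIdeal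
  have key : (∑ n : PrimeSpectrum ((R' ⊗[R] S) ⧸ I),
      Module.length (Localization.AtPrime n.asIdeal) (Localization.AtPrime n.asIdeal) *
        Module.length R' (ResidueField (Localization.AtPrime n.asIdeal))) =
      (Module.finrank (ResidueField R) (ResidueField S) : ℕ∞) * Module.length R' (R' ⧸ J) := by
    rw [← hsum, hlenF]
  have hTn : ∀ n : PrimeSpectrum ((R' ⊗[R] S) ⧸ I),
      Module.length (Localization.AtPrime n.asIdeal) (Localization.AtPrime n.asIdeal) ≠ ⊤ := by
    intro n
    rw [Module.length_ne_top_iff, isFiniteLength_iff_isNoetherian_isArtinian]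
    exact ⟨inferInstance, inferInstance⟩
  have hKn : ∀ n : PrimeSpectrum ((R' ⊗[R] S) ⧸ I),
      Module.length R' (ResidueField (Localization.AtPrime n.asIdeal)) ≠ ⊤ := by
    intro n
    haveI : n.asIdeal.IsMaximal := IsArtinianRing.isMaximal_of_isPrime n.asIdeal
    rw [← length_quot_eq]
    have hle := Module.length_le_of_surjective
      (Ideal.Quotient.mkₐ R' n.asIdeal).toLinearMap (Ideal.Quotient.mkₐ_surjective R' n.asIdeal)
    exact ne_top_of_le_ne_top hT hle
  have key' : (∑ n : PrimeSpectrum ((R' ⊗[R] S) ⧸ I),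
      (Module.length (Localization.AtPrime n.asIdeal) (Localization.AtPrime n.asIdeal)).toNat *
        (Module.length R' (ResidueField (Localization.AtPrime n.asIdeal))).toNat) =
      Module.finrank (ResidueField R) (ResidueField S) * (Module.length R' (R' ⧸ J)).toNat := by
    have := congrArg ENat.toNat key
    rw [ENat.toNat_mul, ENat.toNat_natCast] at this
    rw [← this, ENat.toNat_sum]
    · exact Finset.sum_congr rfl fun n _ => (ENat.toNat_mul _ _).symm
    · intro n _
      exact WithTop.mul_ne_top (hTn n) (hKn n)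
  simp_rw [hT1, hT2]
  exact_mod_cast key'

end Groth.Agent.Lib.Helper18.Cyc1941RC
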