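import Mathlib

set_option autoImplicit false
set_option linter.unusedSectionVars false

open TensorProduct

namespace Groth.Agent.Lib.Helper18.TensorFunctional

variable {k : Type*} [Field k] {V W B R : Type*} [AddCommGroup V] [AddCommGroup W] [AddCommGroup B]
  [AddCommGroup R] [Module k V] [Module k W] [Module k B] [Module k R]

theorem lid_rTensor_lTensor (x : B →ₗ[k] R) (l : W →ₗ[k] k) (ξ : W ⊗[k] B) :
    TensorProduct.lid k R (LinearMap.rTensor R l (LinearMap.lTensor W x ξ)) =
      x (TensorProduct.lid k B (LinearMap.rTensor B l ξ)) := by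
  induction ξ using TensorProduct.induction_on with
  | zero => simp
  | tmul w b => simp
  | add a b ha hb => simp only [map_add, ha, hb]

theorem eval_eq_zero_of_mem_range (ι : V →ₗ[k] W) (x : B →ₗ[k] R) (ξ : W ⊗[k] B)
    (h : LinearMap.lTensor W x ξ ∈ LinearMap.range (LinearMap.rTensor R ι))
    (l : W →ₗ[k] k) (hl : l ∘ₗ ι = 0) :
    x (TensorProduct.lid k B (LinearMap.rTensor B l ξ)) = 0 := by
  obtain ⟨m, hm⟩ := h
  rw [← lid_rTensor_lTensor, ← hm, ← LinearMap.comp_apply, ← LinearMap.rTensor_comp, hl]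
  simp

theorem mem_range_of_forall (ι : V →ₗ[k] W) (x : B →ₗ[k] R) (ξ : W ⊗[k] B)
    (h : ∀ l : W →ₗ[k] k, l ∘ₗ ι = 0 →
      x (TensorProduct.lid k B (LinearMap.rTensor B l ξ)) = 0) :
    LinearMap.lTensor W x ξ ∈ LinearMap.range (LinearMap.rTensor R ι) := by
  have hex : Function.Exact (LinearMap.rTensor R ι)
      (LinearMap.rTensor R (LinearMap.range ι).mkQ) :=
    rTensor_exact R (LinearMap.exact_map_mkQ_range ι) (Submodule.mkQ_surjective _)
  rw [← hex.linearMap_ker_eq, LinearMap.mem_ker]
  let 𝔟 := Module.Free.chooseBasis k (W ⧸ LinearMap.range ι)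
  apply (TensorProduct.equivFinsuppOfBasisLeft (N := R) 𝔟).injective
  rw [map_zero]
  ext s
  rw [Finsupp.zero_apply]
  have key : ∀ ζ : W ⊗[k] B,
      (TensorProduct.equivFinsuppOfBasisLeft (N := R) 𝔟)
        (LinearMap.rTensor R (LinearMap.range ι).mkQ (LinearMap.lTensor W x ζ)) s =
      x (TensorProduct.lid k B
        (LinearMap.rTensor B ((𝔟.coord s) ∘ₗ (LinearMap.range ι).mkQ) ζ)) := by
    intro ζ
    induction ζ using TensorProduct.induction_on with
    | zero => simp
    | tmul w b => simp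
    | add a b ha hb => simp only [map_add, Finsupp.add_apply, ha, hb]
  rw [key]
  apply h
  ext v
  have hv : (LinearMap.range ι).mkQ (ι v) = 0 := by
    rw [Submodule.mkQ_apply, Submodule.Quotient.mk_eq_zero]
    exact LinearMap.mem_range_self ι v
  simp only [LinearMap.coe_comp, Function.comp_apply, hv, map_zero, LinearMap.zero_apply]

end Groth.Agent.Lib.Helper18.TensorFunctional
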