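import Mathlib
import Groth.Prelude.Def_Magnet4
import Groth.Agent.Lib.Helper18.TensorFunctional
import Groth.Agent.Lib.Helper18.FpqcOver

set_option autoImplicit false
set_option linter.unusedSectionVars false
universe u

open CategoryTheory CategoryTheory.Limits MonoidalCategory CartesianMonoidalCategory MonObj
  AlgebraicGeometry Opposite TensorProduct
open Magnet

noncomputable section

namespace Groth.Agent.Lib.Helper18.DXAffine

variable {k : Type u} [Field k]

@[reducible] def algΓ (Y : Over (Spec (CommRingCat.of k))) : Algebra k Γ(Y.left, ⊤) :=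
  ((Scheme.ΓSpecIso (CommRingCat.of k)).inv ≫ Y.hom.appTop).hom.toAlgebra

attribute [local instance] algΓ

theorem algebraMap_apply (Y : Over (Spec (CommRingCat.of k))) (c : k) :
    algebraMap k Γ(Y.left, ⊤) c = Y.hom.appTop ((Scheme.ΓSpecIso (CommRingCat.of k)).inv c) := rfl

def appTopAlg {Y Y' : Over (Spec (CommRingCat.of k))} (y : Y ⟶ Y') :
    Γ(Y'.left, ⊤) →ₐ[k] Γ(Y.left, ⊤) :=
  { y.left.appTop.hom with
    commutes' := fun c => by
      change y.left.appTop (Y'.hom.appTop _) = Y.hom.appTop _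
      rw [← CommRingCat.comp_apply, ← Scheme.Hom.comp_appTop, Over.w] }

@[simp] theorem appTopAlg_apply {Y Y' : Over (Spec (CommRingCat.of k))} (y : Y ⟶ Y')
    (a : Γ(Y'.left, ⊤)) : appTopAlg y a = y.left.appTop a := rfl

theorem appTopAlg_comp {Y Y' Y'' : Over (Spec (CommRingCat.of k))} (y : Y ⟶ Y') (y' : Y' ⟶ Y'') :
    appTopAlg (y ≫ y') = (appTopAlg y).comp (appTopAlg y') := by
  ext a
  simp

def Θ (Y T : Over (Spec (CommRingCat.of k))) :
    Γ(Y.left, ⊤) ⊗[k] Γ(T.left, ⊤) →ₐ[k] Γ((Y ⊗ T).left, ⊤) :=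
  Algebra.TensorProduct.productMap (appTopAlg (fst Y T)) (appTopAlg (snd Y T))

theorem Θ_tmul (Y T : Over (Spec (CommRingCat.of k))) (a : Γ(Y.left, ⊤)) (r : Γ(T.left, ⊤)) :
    Θ Y T (a ⊗ₜ r) = (fst Y T).left.appTop a * (snd Y T).left.appTop r := by
  simp only [Θ, Algebra.TensorProduct.productMap_apply_tmul]
  rfl

theorem Θ_whiskerLeft (Y : Over (Spec (CommRingCat.of k))) {T T' : Over (Spec (CommRingCat.of k))}
    (t : T ⟶ T') :
    (appTopAlg (Y ◁ t)).comp (Θ Y T') =
      (Θ Y T).comp (Algebra.TensorProduct.map (AlgHom.id k _) (appTopAlg t)) := by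
  apply Algebra.TensorProduct.ext'
  intro a r
  simp only [AlgHom.comp_apply, Θ_tmul, Algebra.TensorProduct.map_tmul, AlgHom.id_apply,
    appTopAlg_apply, map_mul]
  rw [← CommRingCat.comp_apply, ← CommRingCat.comp_apply, ← Scheme.Hom.comp_appTop,
    ← Scheme.Hom.comp_appTop, ← Over.comp_left, ← Over.comp_left, whiskerLeft_fst,
    whiskerLeft_snd, Over.comp_left, Scheme.Hom.comp_appTop, CommRingCat.comp_apply]

theorem Θ_whiskerRight {Y Y' : Over (Spec (CommRingCat.of k))} (y : Y ⟶ Y')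
    (T : Over (Spec (CommRingCat.of k))) :
    (appTopAlg (y ▷ T)).comp (Θ Y' T) =
      (Θ Y T).comp (Algebra.TensorProduct.map (appTopAlg y) (AlgHom.id k _)) := by
  apply Algebra.TensorProduct.ext'
  intro a r
  simp only [AlgHom.comp_apply, Θ_tmul, Algebra.TensorProduct.map_tmul, AlgHom.id_apply,
    appTopAlg_apply, map_mul]
  rw [← CommRingCat.comp_apply, ← CommRingCat.comp_apply, ← Scheme.Hom.comp_appTop,
    ← Scheme.Hom.comp_appTop, ← Over.comp_left, ← Over.comp_left, whiskerRight_fst,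
    whiskerRight_snd, Over.comp_left, Scheme.Hom.comp_appTop, CommRingCat.comp_apply]

theorem Θ_bijective (Y T : Over (Spec (CommRingCat.of k))) [IsAffine Y.left] [IsAffine T.left] :
    Function.Bijective (Θ Y T) := by
  have hpb : IsPullback (fst Y T).left (snd Y T).left Y.hom T.hom :=
    IsPullback.of_hasPullback Y.hom T.hom
  have hP := isPushout_appTop_of_isPullback hpb
  have hP' : IsPushout (CommRingCat.ofHom (algebraMap k Γ(Y.left, ⊤)))
      (CommRingCat.ofHom (algebraMap k Γ(T.left, ⊤))) (fst Y T).left.appTop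
      (snd Y T).left.appTop := by
    refine IsPushout.of_iso hP (Scheme.ΓSpecIso (CommRingCat.of k)) (Iso.refl _) (Iso.refl _)
      (Iso.refl _) ?_ ?_ (by simp) (by simp)
    · ext c
      simp [algebraMap_apply]
    · ext c
      simp [algebraMap_apply]
  have hT := CommRingCat.isPushout_tensorProduct k Γ(Y.left, ⊤) Γ(T.left, ⊤)
  let e := hT.isoIsPushout _ _ hP'
  have he : e.hom.hom = (Θ Y T).toRingHom := by
    apply Algebra.TensorProduct.ringHom_ext
    · have h1 := hT.inl_isoIsPushout_hom _ _ hP'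
      ext a
      have h2 : e.hom.hom (a ⊗ₜ 1) = (fst Y T).left.appTop a := congrArg (fun φ => φ.hom a) h1
      change e.hom.hom (a ⊗ₜ 1) = Θ Y T (a ⊗ₜ 1)
      rw [h2, Θ_tmul, _root_.map_one, _root_.mul_one]
    · have h1 := hT.inr_isoIsPushout_hom _ _ hP'
      ext a
      have h2 : e.hom.hom (1 ⊗ₜ a) = (snd Y T).left.appTop a := congrArg (fun φ => φ.hom a) h1
      change e.hom.hom (1 ⊗ₜ a) = Θ Y T (1 ⊗ₜ a)
      rw [h2, Θ_tmul, _root_.map_one, _root_.one_mul]
  have hb := ConcreteCategory.bijective_of_isIso e.hom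
  have : (⇑(Θ Y T) : _ → _) = ⇑(ConcreteCategory.hom e.hom) := by
    ext z
    have := congrArg (fun φ => φ z) he
    exact this.symm
  rw [this]
  exact hb


section schemes

theorem exists_lift_injective {P Q B : Type*} [CommRing P] [CommRing Q] [CommRing B] (f : B →+* Q)
    (g : P →+* Q) (hg : Function.Injective g) (h : ∀ b, f b ∈ g.range) :
    ∃ ψ : B →+* P, g.comp ψ = f := by
  have hbij : Function.Bijective g.rangeRestrict :=
    ⟨fun a b hab => hg (congrArg Subtype.val hab), g.rangeRestrict_surjective⟩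
  refine ⟨(RingEquiv.ofBijective g.rangeRestrict hbij).symm.toRingHom.comp
    (f.codRestrict g.range h), ?_⟩
  ext b
  have := (RingEquiv.ofBijective g.rangeRestrict hbij).apply_symm_apply (f.codRestrict g.range h b)
  exact congrArg Subtype.val this

def homOfRing (W X : Scheme.{u}) [IsAffine X] (ψ : Γ(X, ⊤) ⟶ Γ(W, ⊤)) : W ⟶ X :=
  W.toSpecΓ ≫ Spec.map ψ ≫ X.isoSpec.inv

theorem isoSpec_inv_appTop' (X : Scheme.{u}) [IsAffine X] :
    X.isoSpec.inv.appTop = (Scheme.ΓSpecIso Γ(X, ⊤)).inv := by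
  have h := congrArg Scheme.Hom.appTop X.isoSpec.inv_hom_id
  rw [Scheme.Hom.comp_appTop] at h
  have h2 : X.isoSpec.hom.appTop = (Scheme.ΓSpecIso Γ(X, ⊤)).hom := Scheme.toSpecΓ_appTop X
  rw [h2] at h
  rw [← Iso.cancel_iso_hom_left (Scheme.ΓSpecIso Γ(X, ⊤)), h, Iso.hom_inv_id]
  rfl

theorem homOfRing_appTop (W X : Scheme.{u}) [IsAffine X] (ψ : Γ(X, ⊤) ⟶ Γ(W, ⊤)) :
    (homOfRing W X ψ).appTop = ψ := by
  unfold homOfRing
  rw [Scheme.Hom.comp_appTop, Scheme.Hom.comp_appTop, isoSpec_inv_appTop', Scheme.toSpecΓ_appTop,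
    Category.assoc, ← Scheme.ΓSpecIso_inv_naturality_assoc, Iso.inv_hom_id, Category.comp_id]

theorem eq_of_dominant {U Y X : Scheme.{u}} (d : U ⟶ Y) [IsSchemeTheoreticallyDominant d]
    [QuasiCompact d] [IsAffine X] (f g : Y ⟶ X) (h : d ≫ f = d ≫ g) : f = g := by
  apply ext_of_isAffine
  have h1 := congrArg Scheme.Hom.appTop h
  rw [Scheme.Hom.comp_appTop, Scheme.Hom.comp_appTop] at h1
  ext a
  have h2 := congrArg (fun φ => φ.hom a) h1
  exact Scheme.Hom.app_injective d ⊤ h2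

def closedι (X : Scheme.{u}) [IsAffine X] (I : Ideal Γ(X, ⊤)) :
    Spec (CommRingCat.of (Γ(X, ⊤) ⧸ I)) ⟶ X :=
  Spec.map (CommRingCat.ofHom (Ideal.Quotient.mk I)) ≫ X.isoSpec.inv

instance (X : Scheme.{u}) [IsAffine X] (I : Ideal Γ(X, ⊤)) : IsClosedImmersion (closedι X I) := by
  have : IsClosedImmersion (Spec.map (CommRingCat.ofHom (Ideal.Quotient.mk I))) :=
    IsClosedImmersion.spec_of_surjective _ Ideal.Quotient.mk_surjective
  unfold closedι
  infer_instance

theorem closedι_appTop (X : Scheme.{u}) [IsAffine X] (I : Ideal Γ(X, ⊤)) :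
    (closedι X I).appTop = CommRingCat.ofHom (Ideal.Quotient.mk I) ≫ (Scheme.ΓSpecIso _).inv := by
  unfold closedι
  rw [Scheme.Hom.comp_appTop, isoSpec_inv_appTop', ← Scheme.ΓSpecIso_inv_naturality]

theorem closedι_appTop_eq_zero (X : Scheme.{u}) [IsAffine X] (I : Ideal Γ(X, ⊤)) (b : Γ(X, ⊤))
    (hb : b ∈ I) : (closedι X I).appTop b = 0 := by
  rw [closedι_appTop]
  change (Scheme.ΓSpecIso (CommRingCat.of (Γ(X, ⊤) ⧸ I))).inv (Ideal.Quotient.mk I b) = 0
  rw [Ideal.Quotient.eq_zero_iff_mem.mpr hb, map_zero]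

theorem exists_factor_closedι (X : Scheme.{u}) [IsAffine X] (I : Ideal Γ(X, ⊤)) {T : Scheme.{u}}
    (x : T ⟶ X) (h : ∀ b ∈ I, x.appTop b = 0) : ∃ z : T ⟶ Spec (CommRingCat.of (Γ(X, ⊤) ⧸ I)),
      z ≫ closedι X I = x := by
  refine ⟨T.toSpecΓ ≫ Spec.map (CommRingCat.ofHom (Ideal.Quotient.lift I x.appTop.hom h)), ?_⟩
  unfold closedι
  rw [Category.assoc, ← Spec.map_comp_assoc]
  have h1 : CommRingCat.ofHom (Ideal.Quotient.mk I) ≫
      CommRingCat.ofHom (Ideal.Quotient.lift I x.appTop.hom h) = x.appTop := by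
    ext b
    simp
  rw [h1, ← Scheme.toSpecΓ_naturality_assoc]
  change x ≫ X.isoSpec.hom ≫ X.isoSpec.inv = x
  rw [Iso.hom_inv_id, Category.comp_id]

end schemes


section core

open Groth.Agent.Lib.Helper18.TensorFunctional Groth.Agent.Lib.Helper18.FpqcOver

def ΘEquiv (Y T : Over (Spec (CommRingCat.of k))) [IsAffine Y.left] [IsAffine T.left] :
    Γ(Y.left, ⊤) ⊗[k] Γ(T.left, ⊤) ≃ₐ[k] Γ((Y ⊗ T).left, ⊤) :=
  AlgEquiv.ofBijective (Θ Y T) (Θ_bijective Y T)

@[simp] theorem ΘEquiv_apply (Y T : Over (Spec (CommRingCat.of k))) [IsAffine Y.left]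
    [IsAffine T.left] (ξ : Γ(Y.left, ⊤) ⊗[k] Γ(T.left, ⊤)) : ΘEquiv Y T ξ = Θ Y T ξ := rfl

variable {M G X : Over (Spec (CommRingCat.of k))} [IsAffine M.left] [IsAffine G.left]
  [IsAffine X.left] (i : G ⟶ M) (act : G ⊗ X ⟶ X)

def ρ : Γ(X.left, ⊤) →ₐ[k] Γ(G.left, ⊤) ⊗[k] Γ(X.left, ⊤) :=
  ((ΘEquiv G X).symm : Γ((G ⊗ X).left, ⊤) →ₐ[k] Γ(G.left, ⊤) ⊗[k] Γ(X.left, ⊤)).comp
    (appTopAlg act)

theorem Θ_ρ (b : Γ(X.left, ⊤)) : Θ G X (ρ act b) = act.left.appTop b := by
  change ΘEquiv G X ((ΘEquiv G X).symm (appTopAlg act b)) = _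
  rw [AlgEquiv.apply_symm_apply]
  rfl

def coef (l : Γ(G.left, ⊤) →ₗ[k] k) (b : Γ(X.left, ⊤)) : Γ(X.left, ⊤) :=
  TensorProduct.lid k Γ(X.left, ⊤) (LinearMap.rTensor Γ(X.left, ⊤) l (ρ act b))

def I : Ideal Γ(X.left, ⊤) :=
  Ideal.span {c | ∃ (l : Γ(G.left, ⊤) →ₗ[k] k) (b : Γ(X.left, ⊤)),
    l ∘ₗ (appTopAlg i).toLinearMap = 0 ∧ c = coef act l b}

def Z : Over (Spec (CommRingCat.of k)) := Over.mk (closedι X.left (I i act) ≫ X.hom)

def j : Z i act ⟶ X := Over.homMk (closedι X.left (I i act)) rfl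

instance : IsClosedImmersion (j i act).left := by
  change IsClosedImmersion (closedι X.left (I i act))
  infer_instance

instance : IsAffine (Z i act).left := by
  change IsAffine (Spec _)
  infer_instance

theorem key_tensor {T : Over (Spec (CommRingCat.of k))} [IsAffine T.left] (x : T ⟶ X)
    (b : Γ(X.left, ⊤)) :
    Θ G T (LinearMap.lTensor Γ(G.left, ⊤) (appTopAlg x).toLinearMap (ρ act b)) =
      ((G ◁ x) ≫ act).left.appTop b := by
  have h1 := congrArg (fun f => f (ρ act b)) (Θ_whiskerLeft G x)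
  simp only [AlgHom.comp_apply] at h1
  change _ = Θ G T (LinearMap.lTensor Γ(G.left, ⊤) (appTopAlg x).toLinearMap (ρ act b)) at h1
  rw [← h1, Θ_ρ, appTopAlg_apply, Over.comp_left, Scheme.Hom.comp_appTop, CommRingCat.comp_apply]

theorem vanish_of_affine {T : Over (Spec (CommRingCat.of k))} [IsAffine T.left] (x : T ⟶ X)
    (φ : M ⊗ T ⟶ X) (h : (i ▷ T) ≫ φ = (G ◁ x) ≫ act) (b : Γ(X.left, ⊤)) (hb : b ∈ I i act) :
    x.left.appTop b = 0 := by
  unfold I at hb
  induction hb using Submodule.span_induction with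
  | mem c hc =>
    obtain ⟨l, b', hl, rfl⟩ := hc
    refine eval_eq_zero_of_mem_range (appTopAlg i).toLinearMap (appTopAlg x).toLinearMap
      (ρ act b') ?_ l hl
    refine ⟨(ΘEquiv M T).symm (φ.left.appTop b'), ?_⟩
    apply (Θ_bijective G T).1
    rw [key_tensor, ← h]
    have h1 := congrArg (fun f => f ((ΘEquiv M T).symm (φ.left.appTop b'))) (Θ_whiskerRight i T)
    simp only [AlgHom.comp_apply] at h1
    change _ = Θ G T (LinearMap.rTensor Γ(T.left, ⊤) (appTopAlg i).toLinearMap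
      ((ΘEquiv M T).symm (φ.left.appTop b'))) at h1
    rw [← h1, ← ΘEquiv_apply, AlgEquiv.apply_symm_apply, appTopAlg_apply, Over.comp_left,
      Scheme.Hom.comp_appTop, CommRingCat.comp_apply]
  | zero => exact map_zero _
  | add a b _ _ ha hb => rw [map_add, ha, hb, add_zero]
  | smul r a _ ha => rw [smul_eq_mul, map_mul, ha, mul_zero]


theorem isPullback_whiskerRight' {S : Scheme.{u}} {G M : Over S} (i : G ⟶ M) (T : Over S) :
    IsPullback (pullback.fst G.hom T.hom) (i ▷ T).left i.left (pullback.fst M.hom T.hom) :=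
  (isPullback_whiskerRight i T).flip

theorem dominant_whiskerRight {G M : Over (Spec (CommRingCat.of k))} (i : G ⟶ M)
    [QuasiCompact i.left] [IsSchemeTheoreticallyDominant i.left]
    (T : Over (Spec (CommRingCat.of k))) :
    IsSchemeTheoreticallyDominant (i ▷ T).left := by
  have : Flat T.hom := inferInstance
  have : Flat (pullback.fst M.hom T.hom) := inferInstance
  exact IsSchemeTheoreticallyDominant.of_isPullback (isPullback_whiskerRight' i T)

theorem quasiCompact_of_affine {A B : Scheme.{u}} [IsAffine A] [IsAffine B] (f : A ⟶ B) :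
    QuasiCompact f := inferInstance

theorem exists_factor {T : Over (Spec (CommRingCat.of k))} (x : T ⟶ X) (φ : M ⊗ T ⟶ X)
    (h : (i ▷ T) ≫ φ = (G ◁ x) ≫ act) : ∃ z : T ⟶ Z i act, z ≫ j i act = x := by
  let 𝒰 := T.left.affineCover
  have hloc : ∀ α, ∃ zα : 𝒰.X α ⟶ (Z i act).left, zα ≫ (j i act).left = 𝒰.f α ≫ x.left := by
    intro α
    let Tα : Over (Spec (CommRingCat.of k)) := Over.mk (𝒰.f α ≫ T.hom)
    let uα : Tα ⟶ T := Over.homMk (𝒰.f α) rfl
    have : IsAffine Tα.left := (inferInstance : IsAffine (𝒰.X α))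
    have hα : (i ▷ Tα) ≫ ((M ◁ uα) ≫ φ) = (G ◁ (uα ≫ x)) ≫ act := by
      rw [← whisker_exchange_assoc, h, MonoidalCategory.whiskerLeft_comp, Category.assoc]
    have hv := vanish_of_affine i act (uα ≫ x) ((M ◁ uα) ≫ φ) hα
    obtain ⟨z, hz⟩ := exists_factor_closedι X.left (I i act) (uα ≫ x).left hv
    exact ⟨z, hz⟩
  choose zα hzα using hloc
  have hmono : Mono (j i act).left := inferInstance
  let zl : T.left ⟶ (Z i act).left := 𝒰.glueMorphisms zα (by
    intro α β
    rw [← cancel_mono (j i act).left, Category.assoc, Category.assoc, hzα, hzα,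
      ← Category.assoc, ← Category.assoc, pullback.condition])
  have hzl : zl ≫ (j i act).left = x.left := by
    apply 𝒰.hom_ext
    intro α
    rw [← Category.assoc, 𝒰.ι_glueMorphisms, hzα]
  refine ⟨Over.homMk zl ?_, ?_⟩
  · change zl ≫ ((j i act).left ≫ X.hom) = T.hom
    rw [← Category.assoc, hzl, Over.w]
  · ext
    exact hzl

theorem exists_φZ [IsSchemeTheoreticallyDominant i.left] :
    ∃ φZ : M ⊗ Z i act ⟶ X, (i ▷ Z i act) ≫ φZ = (G ◁ j i act) ≫ act := by
  have hqc : QuasiCompact i.left := quasiCompact_of_affine _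
  have hqc' : QuasiCompact (i ▷ Z i act).left := prop_whiskerRight @QuasiCompact i _ hqc
  have hdom : IsSchemeTheoreticallyDominant (i ▷ Z i act).left := dominant_whiskerRight i _
  have hinj : Function.Injective (i ▷ Z i act).left.appTop.hom :=
    Scheme.Hom.app_injective (i ▷ Z i act).left ⊤
  have hrange : ∀ b, ((G ◁ j i act) ≫ act).left.appTop.hom b ∈
      ((i ▷ Z i act).left.appTop.hom).range := by
    intro b
    have hmem := mem_range_of_forall (appTopAlg i).toLinearMap (appTopAlg (j i act)).toLinearMap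
      (ρ act b) (by
        intro l hl
        apply closedι_appTop_eq_zero
        exact Ideal.subset_span ⟨l, b, hl, rfl⟩)
    obtain ⟨m, hm⟩ := hmem
    refine ⟨Θ M (Z i act) m, ?_⟩
    have h1 := congrArg (fun f => f m) (Θ_whiskerRight i (Z i act))
    simp only [AlgHom.comp_apply] at h1
    change (i ▷ Z i act).left.appTop (Θ M (Z i act) m) =
      Θ G (Z i act) (LinearMap.rTensor _ (appTopAlg i).toLinearMap m) at h1
    rw [hm, key_tensor] at h1
    exact h1
  obtain ⟨ψ, hψ⟩ := exists_lift_injective _ _ hinj hrange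
  let φl : (M ⊗ Z i act).left ⟶ X.left := homOfRing _ _ (CommRingCat.ofHom ψ)
  have hφl : (i ▷ Z i act).left ≫ φl = ((G ◁ j i act) ≫ act).left := by
    apply ext_of_isAffine
    rw [Scheme.Hom.comp_appTop, homOfRing_appTop]
    ext b
    exact congrArg (fun f => f b) hψ
  have hw : φl ≫ X.hom = (M ⊗ Z i act).hom := by
    apply eq_of_dominant (i ▷ Z i act).left
    rw [← Category.assoc, hφl, Over.w, Over.w]
  refine ⟨Over.homMk φl hw, ?_⟩
  ext
  exact hφl

end core

end Groth.Agent.Lib.Helper18.DXAffine
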