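import Mathlib
import Groth.Agent.Lib.Helper5.AMonPts

set_option autoImplicit false
set_option linter.unusedSectionVars false
universe u
open CategoryTheory CategoryTheory.Limits MonoidalCategory CartesianMonoidalCategory MonObj AlgebraicGeometry Opposite
open Magnet

noncomputable section

namespace Groth.Agent.Lib.Helper18.DiagField

open Groth.Agent.Lib.Helper5.AMonPts

theorem homEquiv_symm_eq {X : Scheme.{u}} {R : CommRingCat.{u}} (a : X ⟶ Spec R) :
    (ΓSpec.adjunction.homEquiv X (op R)).symm a = ((Scheme.ΓSpecIso R).inv ≫ a.appTop).op := by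
  rw [Adjunction.homEquiv_counit, ΓSpec.adjunction_counit_app]
  rfl

theorem toSpec_hom_ext {X : Scheme.{u}} {R : CommRingCat.{u}} (a b : X ⟶ Spec R)
    (h : (Scheme.ΓSpecIso R).inv ≫ a.appTop = (Scheme.ΓSpecIso R).inv ≫ b.appTop) : a = b := by
  apply (ΓSpec.adjunction.homEquiv X (op R)).symm.injective
  rw [homEquiv_symm_eq, homEquiv_symm_eq, h]

variable (k : Type u) [Field k] (M : Type) [AddCommMonoid M]

abbrev Sk : Scheme.{u} := Spec (CommRingCat.of k)

abbrev Alg : Type u := MonoidAlgebra k (Multiplicative M)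

abbrev TM : Over (Sk k) := Over.mk (Spec.map (CommRingCat.ofHom (algebraMap k (Alg k M))))

def gam : Alg k M →+* Γ((TM k M).left, ⊤) := (Scheme.ΓSpecIso (CommRingCat.of (Alg k M))).inv.hom

theorem gam_injective : Function.Injective (gam k M) := by
  intro a b hab
  have := congrArg (Scheme.ΓSpecIso (CommRingCat.of (Alg k M))).hom.hom hab
  simpa [gam] using this

def tauM : Multiplicative M →* Γ((TM k M).left, ⊤) :=
  (gam k M : Alg k M →* Γ((TM k M).left, ⊤)).comp (MonoidAlgebra.of k (Multiplicative M))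

def fM : TM k M ⟶ AMonS (Sk k) M := ptOfMonHom (tauM k M)

theorem monHomOfPt_fM : monHomOfPt (fM k M) = tauM k M := monHomOfPt_ptOfMonHom _

def univM : Multiplicative M →* Γ((AMonS (Sk k) M).left, ⊤) := monHomOfPt (𝟙 (AMonS (Sk k) M))

def strM : k →+* Γ((AMonS (Sk k) M).left, ⊤) :=
  ((Scheme.ΓSpecIso (CommRingCat.of k)).inv ≫ (AMonS (Sk k) M).hom.appTop).hom

def liftM : Alg k M →+* Γ((AMonS (Sk k) M).left, ⊤) :=
  MonoidAlgebra.liftNCRingHom (strM k M) (univM k M) (fun _ _ => Commute.all _ _)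

theorem liftM_of (m : Multiplicative M) : liftM k M (MonoidAlgebra.of k _ m) = univM k M m := by
  simp [liftM, MonoidAlgebra.liftNCRingHom]

theorem liftM_algebraMap (c : k) : liftM k M (algebraMap k (Alg k M) c) = strM k M c := by
  simp [liftM, MonoidAlgebra.liftNCRingHom, MonoidAlgebra.coe_algebraMap]

def gLeft : (AMonS (Sk k) M).left ⟶ Spec (CommRingCat.of (Alg k M)) :=
  ΓSpec.adjunction.homEquiv (AMonS (Sk k) M).left (op (CommRingCat.of (Alg k M)))
    (CommRingCat.ofHom (liftM k M)).op

theorem gLeft_appTop : (Scheme.ΓSpecIso (CommRingCat.of (Alg k M))).inv ≫ (gLeft k M).appTop =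
    CommRingCat.ofHom (liftM k M) :=
  ΓSpecIso_inv_ΓSpec_adjunction_homEquiv _

theorem gLeft_w : gLeft k M ≫ (TM k M).hom = (AMonS (Sk k) M).hom := by
  apply toSpec_hom_ext
  change _ ≫ (gLeft k M ≫ Spec.map (CommRingCat.ofHom (algebraMap k (Alg k M)))).appTop = _
  rw [Scheme.Hom.comp_appTop, ← Category.assoc, ← Scheme.ΓSpecIso_inv_naturality, Category.assoc,
    gLeft_appTop]
  ext c
  exact liftM_algebraMap k M c

def gM : AMonS (Sk k) M ⟶ TM k M := Over.homMk (gLeft k M) (gLeft_w k M)

theorem gLeft_appTop_apply (a : Alg k M) : (gLeft k M).appTop (gam k M a) = liftM k M a := by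
  have := congrArg (fun ψ => (ConcreteCategory.hom ψ) a) (gLeft_appTop k M)
  exact this

theorem gM_fM : gM k M ≫ fM k M = 𝟙 _ := by
  apply monHomOfPt_injective
  rw [monHomOfPt_comp, monHomOfPt_fM]
  refine MonoidHom.ext fun m => ?_
  change (gLeft k M).appTop (gam k M (MonoidAlgebra.of k _ m)) = _
  rw [gLeft_appTop_apply, liftM_of]
  rfl


theorem fM_appTop_univM (m : Multiplicative M) :
    (fM k M).left.appTop (univM k M m) = gam k M (MonoidAlgebra.of k _ m) := by
  have h := monHomOfPt_comp (fM k M) (𝟙 (AMonS (Sk k) M))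
  rw [Category.comp_id, monHomOfPt_fM] at h
  have := congrArg (fun ψ => ψ m) h
  exact this.symm

theorem fM_appTop_strM (c : k) :
    (fM k M).left.appTop (strM k M c) = gam k M (algebraMap k (Alg k M) c) := by
  have h1 : (fM k M).left ≫ (AMonS (Sk k) M).hom = (TM k M).hom := Over.w (fM k M)
  change (fM k M).left.appTop ((AMonS (Sk k) M).hom.appTop ((Scheme.ΓSpecIso (CommRingCat.of k)).inv c)) = _
  rw [← appTop_comp_apply, h1]
  have h2 := congrArg (fun ψ => (ConcreteCategory.hom ψ) c)
    (Scheme.ΓSpecIso_inv_naturality (CommRingCat.ofHom (algebraMap k (Alg k M))))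
  exact h2.symm

theorem fM_appTop_liftM (a : Alg k M) : (fM k M).left.appTop (liftM k M a) = gam k M a := by
  have : ((fM k M).left.appTop.hom).comp (liftM k M) = gam k M := by
    refine MonoidAlgebra.ringHom_ext (fun c => ?_) (fun m => ?_)
    · have h1 : (MonoidAlgebra.single (1 : Multiplicative M) c : Alg k M) = algebraMap k (Alg k M) c := by
        rw [MonoidAlgebra.coe_algebraMap]; rfl
      rw [h1]
      change (fM k M).left.appTop (liftM k M (algebraMap k (Alg k M) c)) = _
      rw [liftM_algebraMap, fM_appTop_strM]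
    · change (fM k M).left.appTop (liftM k M (MonoidAlgebra.of k _ m)) = gam k M (MonoidAlgebra.of k _ m)
      rw [liftM_of, fM_appTop_univM]
  exact congrArg (fun ψ => ψ a) this

theorem fM_gM : fM k M ≫ gM k M = 𝟙 _ := by
  ext1
  change (fM k M).left ≫ gLeft k M = 𝟙 _
  apply toSpec_hom_ext
  rw [Scheme.Hom.comp_appTop, ← Category.assoc, gLeft_appTop]
  refine CommRingCat.hom_ext (RingHom.ext fun a => ?_)
  change (fM k M).left.appTop (liftM k M a) =
    (Scheme.Hom.appTop (𝟙 (Spec (CommRingCat.of (Alg k M))))) (gam k M a)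
  rw [fM_appTop_liftM]
  simp

def isoM : TM k M ≅ AMonS (Sk k) M where
  hom := fM k M
  inv := gM k M
  hom_inv_id := fM_gM k M
  inv_hom_id := gM_fM k M

instance : IsIso (fM k M) := (isoM k M).isIso_hom

end Groth.Agent.Lib.Helper18.DiagField
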