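import Mathlib
import Groth.Agent.Lib.Helper5.AMonPts
import Groth.Agent.Lib.Helper18.DiagField

set_option autoImplicit false
set_option linter.unusedSectionVars false
universe u
open CategoryTheory CategoryTheory.Limits MonoidalCategory CartesianMonoidalCategory MonObj AlgebraicGeometry Opposite
open Magnet TensorProduct

noncomputable section

namespace Groth.Agent.Lib.Helper18.DiagHom

open Groth.Agent.Lib.Helper5.AMonPts Groth.Agent.Lib.Helper18.DiagField

variable (k : Type u) [Field k]

section Test

variable (B B' : Type u) [CommRing B] [CommRing B'] [Algebra k B] [Algebra k B']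

abbrev TB : Over (Sk k) := Over.mk (Spec.map (CommRingCat.ofHom (algebraMap k B)))

def gamB : B →+* Γ((TB k B).left, ⊤) := (Scheme.ΓSpecIso (CommRingCat.of B)).inv.hom

theorem gamB_injective : Function.Injective (gamB k B) := by
  intro a b hab
  have := congrArg (Scheme.ΓSpecIso (CommRingCat.of B)).hom.hom hab
  simpa [gamB] using this

variable {B B'}

def specHom (h : B →ₐ[k] B') : TB k B' ⟶ TB k B :=
  Over.homMk (Spec.map (CommRingCat.ofHom h.toRingHom)) (by
    change Spec.map _ ≫ Spec.map _ = Spec.map _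
    rw [← Spec.map_comp, ← CommRingCat.ofHom_comp]
    congr 2
    ext c
    simp)

theorem specHom_appTop (h : B →ₐ[k] B') (b : B) :
    (specHom k h).left.appTop (gamB k B b) = gamB k B' (h b) := by
  have h2 := congrArg (fun ψ => (ConcreteCategory.hom ψ) b)
    (Scheme.ΓSpecIso_inv_naturality (CommRingCat.ofHom h.toRingHom))
  exact h2.symm

end Test

variable {M N : Type} [AddCommGroup M] [AddCommGroup N]

theorem gam_eq_gamB : gam k M = gamB k (Alg k M) := rfl

theorem monHomOfPt_specHom_fM {B : Type u} [CommRing B] [Algebra k B] (h : Alg k M →ₐ[k] B)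
    (m : Multiplicative M) :
    monHomOfPt (specHom k h ≫ fM k M) m = gamB k B (h (MonoidAlgebra.of k _ m)) := by
  rw [monHomOfPt_comp, monHomOfPt_fM]
  change (specHom k h).left.appTop (gamB k (Alg k M) (MonoidAlgebra.of k _ m)) = _
  rw [specHom_appTop]


section Hom

variable (π : AMonS (Sk k) M ⟶ AMonS (Sk k) N)

def rho : Multiplicative N →* Γ((TM k M).left, ⊤) := monHomOfPt (fM k M ≫ π)

def gamInv (M : Type) [AddCommGroup M] : Γ((TM k M).left, ⊤) →+* Alg k M :=
  (Scheme.ΓSpecIso (CommRingCat.of (Alg k M))).hom.hom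

def aOf : Multiplicative N →* Alg k M :=
  (gamInv k M : Γ((TM k M).left, ⊤) →* Alg k M).comp (rho k π)

theorem gam_aOf (n : Multiplicative N) : gamB k (Alg k M) (aOf k π n) = rho k π n := by
  change (Scheme.ΓSpecIso (CommRingCat.of (Alg k M))).inv.hom
    ((Scheme.ΓSpecIso (CommRingCat.of (Alg k M))).hom.hom (rho k π n)) = _
  have := congrArg (fun ψ => (ConcreteCategory.hom ψ) (rho k π n))
    (Scheme.ΓSpecIso (CommRingCat.of (Alg k M))).hom_inv_id
  exact this

theorem monHomOfPt_specHom_fM_pi {B : Type u} [CommRing B] [Algebra k B] (h : Alg k M →ₐ[k] B)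
    (n : Multiplicative N) :
    monHomOfPt ((specHom k h ≫ fM k M) ≫ π) n = gamB k B (h (aOf k π n)) := by
  rw [Category.assoc, monHomOfPt_comp]
  change (specHom k h).left.appTop (rho k π n) = _
  rw [← gam_aOf, specHom_appTop]

theorem pt_comul :
    specHom k (Bialgebra.comulAlgHom k (Alg k M)) ≫ fM k M =
      (specHom k (Algebra.TensorProduct.includeLeft : Alg k M →ₐ[k] Alg k M ⊗[k] Alg k M) ≫ fM k M) *
        (specHom k (Algebra.TensorProduct.includeRight : Alg k M →ₐ[k] Alg k M ⊗[k] Alg k M) ≫ fM k M) := by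
  apply monHomOfPt_injective
  rw [monHomOfPt_mul]
  refine MonoidHom.ext fun m => ?_
  rw [MonoidHom.mul_apply, monHomOfPt_specHom_fM, monHomOfPt_specHom_fM, monHomOfPt_specHom_fM,
    ← map_mul]
  congr 1
  change Coalgebra.comul (R := k) (MonoidAlgebra.single m (1 : k)) = _
  rw [MonoidAlgebra.comul_single]
  simp

theorem comul_aOf [IsMonHom π] (n : Multiplicative N) :
    Coalgebra.comul (R := k) (aOf k π n) = aOf k π n ⊗ₜ[k] aOf k π n := by
  have h1 := congrArg (fun x => monHomOfPt (x ≫ π) n) (pt_comul k (M := M))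
  rw [MonObj.mul_comp, monHomOfPt_mul, MonoidHom.mul_apply, monHomOfPt_specHom_fM_pi,
    monHomOfPt_specHom_fM_pi, monHomOfPt_specHom_fM_pi, ← map_mul] at h1
  have h2 := gamB_injective k _ h1
  rw [show (Bialgebra.comulAlgHom k (Alg k M)) (aOf k π n) = Coalgebra.comul (R := k) (aOf k π n) from rfl] at h2
  rw [h2]
  simp



theorem pt_counit :
    specHom k (Bialgebra.counitAlgHom k (Alg k M)) ≫ fM k M = 1 := by
  apply monHomOfPt_injective
  rw [monHomOfPt_one]
  refine MonoidHom.ext fun m => ?_
  rw [monHomOfPt_specHom_fM, MonoidHom.one_apply]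
  have : (Bialgebra.counitAlgHom k (Alg k M)) (MonoidAlgebra.of k _ m) = 1 := by
    change Coalgebra.counit (R := k) (MonoidAlgebra.single m (1 : k)) = 1
    simp
  rw [this, map_one]

theorem counit_aOf [IsMonHom π] (n : Multiplicative N) :
    Coalgebra.counit (R := k) (aOf k π n) = 1 := by
  have h1 := congrArg (fun x => monHomOfPt (x ≫ π) n) (pt_counit k (M := M))
  rw [MonObj.one_comp, monHomOfPt_one, MonoidHom.one_apply, monHomOfPt_specHom_fM_pi] at h1
  have h2 : gamB k k ((Bialgebra.counitAlgHom k (Alg k M)) (aOf k π n)) = gamB k k 1 := by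
    rw [h1, map_one]
  exact gamB_injective k _ h2

theorem isGroupLikeElem_aOf [IsMonHom π] (n : Multiplicative N) :
    IsGroupLikeElem k (aOf k π n) where
  counit_eq_one := counit_aOf k π n
  comul_eq_tmul_self := comul_aOf k π n

theorem exists_of [IsMonHom π] (n : Multiplicative N) :
    ∃ m : Multiplicative M, MonoidAlgebra.of k _ m = aOf k π n := by
  have := MonoidAlgebra.isGroupLikeElem_iff_mem_range_single_one.mp (isGroupLikeElem_aOf k π n)
  obtain ⟨m, hm⟩ := this
  exact ⟨m, hm⟩

def phiMul [IsMonHom π] : Multiplicative N →* Multiplicative M where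
  toFun n := (exists_of k π n).choose
  map_one' := by
    apply MonoidAlgebra.of_injective (R := k)
    rw [(exists_of k π 1).choose_spec, map_one, map_one]
  map_mul' n n' := by
    apply MonoidAlgebra.of_injective (R := k)
    rw [(exists_of k π (n * n')).choose_spec, map_mul, map_mul, (exists_of k π n).choose_spec,
      (exists_of k π n').choose_spec]

theorem of_phiMul [IsMonHom π] (n : Multiplicative N) :
    MonoidAlgebra.of k _ (phiMul k π n) = aOf k π n := (exists_of k π n).choose_spec

def phi [IsMonHom π] : N →+ M := AddMonoidHom.toMultiplicative.symm (phiMul k π)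

theorem toMultiplicative_phi [IsMonHom π] : AddMonoidHom.toMultiplicative (phi k π) = phiMul k π :=
  Equiv.apply_symm_apply _ _

theorem eq_map_phi [IsMonHom π] : π = AMonS.map (Sk k) (phi k π) := by
  rw [← cancel_epi (fM k M)]
  apply monHomOfPt_injective
  rw [monHomOfPt_map, monHomOfPt_fM, toMultiplicative_phi]
  refine MonoidHom.ext fun n => ?_
  change rho k π n = gamB k (Alg k M) (MonoidAlgebra.of k _ (phiMul k π n))
  rw [of_phiMul, gam_aOf]

end Hom

theorem map_injective {φ φ' : N →+ M} (h : AMonS.map (Sk k) φ = AMonS.map (Sk k) φ') : φ = φ' := by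
  have h1 := congrArg (fun x => monHomOfPt (fM k M ≫ x)) h
  simp only [monHomOfPt_map, monHomOfPt_fM] at h1
  ext n
  have h2 := congrArg (fun ψ => ψ (Multiplicative.ofAdd n)) h1
  have h3 : MonoidAlgebra.of k (Multiplicative M) (Multiplicative.ofAdd (φ n)) =
      MonoidAlgebra.of k (Multiplicative M) (Multiplicative.ofAdd (φ' n)) := gam_injective k M h2
  exact Multiplicative.ofAdd.injective (MonoidAlgebra.of_injective h3)

end Groth.Agent.Lib.Helper18.DiagHom
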