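import Mathlib
import Groth.Prelude.Def_Magnet

set_option autoImplicit false
set_option linter.unusedSectionVars false
universe v₁ u₁

open CategoryTheory CategoryTheory.Limits MonoidalCategory CartesianMonoidalCategory MonObj Opposite
open Magnet

noncomputable section

namespace Groth.Agent.Lib.Helper18.EqvPushout

variable {C : Type u₁} [Category.{v₁} C] [CartesianMonoidalCategory C] {G : C} [MonObj G]
  {X Y Z P : C} {i : Z ⟶ X} {j : Z ⟶ Y} {a : X ⟶ P} {b : Y ⟶ P}
  (aX : MonAct G X) (aY : MonAct G Y) (aZ : MonAct G Z)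
  (hi : MonAct.IsEquivariant aZ aX i) (hj : MonAct.IsEquivariant aZ aY j)
  (hP : IsPushout i j a b)
  (hG : IsPushout (G ◁ i) (G ◁ j) (G ◁ a) (G ◁ b))
  (hGG : IsPushout ((G ⊗ G) ◁ i) ((G ⊗ G) ◁ j) ((G ⊗ G) ◁ a) ((G ⊗ G) ◁ b))

include hi hj hP in
theorem act_cond : (G ◁ i) ≫ aX.act ≫ a = (G ◁ j) ≫ aY.act ≫ b := by
  unfold MonAct.IsEquivariant at hi hj
  rw [← reassoc_of% hi, ← reassoc_of% hj, hP.w]

def actP : G ⊗ P ⟶ P :=
  hG.desc (aX.act ≫ a) (aY.act ≫ b) (act_cond aX aY aZ hi hj hP)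

theorem whisker_a_actP : (G ◁ a) ≫ actP aX aY aZ hi hj hP hG = aX.act ≫ a :=
  hG.inl_desc _ _ _

theorem whisker_b_actP : (G ◁ b) ≫ actP aX aY aZ hi hj hP hG = aY.act ≫ b :=
  hG.inr_desc _ _ _

theorem one_actP : (η[G] ▷ P) ≫ actP aX aY aZ hi hj hP hG = (λ_ P).hom := by
  rw [← cancel_epi (λ_ P).inv, Iso.inv_hom_id]
  apply hP.hom_ext
  · rw [Category.comp_id, leftUnitor_inv_naturality_assoc, whisker_exchange_assoc,
      whisker_a_actP, reassoc_of% aX.one_act, Iso.inv_hom_id_assoc]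
  · rw [Category.comp_id, leftUnitor_inv_naturality_assoc, whisker_exchange_assoc,
      whisker_b_actP, reassoc_of% aY.one_act, Iso.inv_hom_id_assoc]

include hGG in
theorem mul_actP : (μ[G] ▷ P) ≫ actP aX aY aZ hi hj hP hG =
    (α_ G G P).hom ≫ (G ◁ actP aX aY aZ hi hj hP hG) ≫ actP aX aY aZ hi hj hP hG := by
  apply hGG.hom_ext
  · rw [whisker_exchange_assoc, whisker_a_actP, reassoc_of% aX.mul_act,
      associator_naturality_right_assoc, ← MonoidalCategory.whiskerLeft_comp_assoc, whisker_a_actP,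
      MonoidalCategory.whiskerLeft_comp_assoc, whisker_a_actP]
  · rw [whisker_exchange_assoc, whisker_b_actP, reassoc_of% aY.mul_act,
      associator_naturality_right_assoc, ← MonoidalCategory.whiskerLeft_comp_assoc, whisker_b_actP,
      MonoidalCategory.whiskerLeft_comp_assoc, whisker_b_actP]

def monActP : MonAct G P where
  act := actP aX aY aZ hi hj hP hG
  one_act := one_actP aX aY aZ hi hj hP hG
  mul_act := mul_actP aX aY aZ hi hj hP hG hGG

theorem isEquivariant_a :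
    MonAct.IsEquivariant aX (monActP aX aY aZ hi hj hP hG hGG) a :=
  (whisker_a_actP aX aY aZ hi hj hP hG).symm

theorem isEquivariant_b :
    MonAct.IsEquivariant aY (monActP aX aY aZ hi hj hP hG hGG) b :=
  (whisker_b_actP aX aY aZ hi hj hP hG).symm

theorem isEquivariant_desc {X' : C} (aX' : MonAct G X') (f₁ : X ⟶ X') (f₂ : Y ⟶ X')
    (w : i ≫ f₁ = j ≫ f₂) (h₁ : MonAct.IsEquivariant aX aX' f₁)
    (h₂ : MonAct.IsEquivariant aY aX' f₂) :
    MonAct.IsEquivariant (monActP aX aY aZ hi hj hP hG hGG) aX' (hP.desc f₁ f₂ w) := by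
  unfold MonAct.IsEquivariant at h₁ h₂ ⊢
  change actP aX aY aZ hi hj hP hG ≫ _ = _
  apply hG.hom_ext
  · rw [reassoc_of% whisker_a_actP, hP.inl_desc, ← MonoidalCategory.whiskerLeft_comp_assoc,
      hP.inl_desc, h₁]
  · rw [reassoc_of% whisker_b_actP, hP.inr_desc, ← MonoidalCategory.whiskerLeft_comp_assoc,
      hP.inr_desc, h₂]

end Groth.Agent.Lib.Helper18.EqvPushout
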