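import Mathlib
import Groth.Prelude.Def_Magnet4

set_option autoImplicit false
set_option linter.unusedSectionVars false
universe u

open Magnet

noncomputable section

namespace Groth.Agent.Lib.Helper18.FacePush

open MonoidAlgebra

variable (R : Type u) [CommRing R] {M : Type} [AddCommMonoid M]

section coeff

variable {N₁ N₂ : Type} [AddCommMonoid N₁] [AddCommMonoid N₂]

abbrev incHom (f : N₁ →+ N₂) :
    MonoidAlgebra R (Multiplicative N₁) →+* MonoidAlgebra R (Multiplicative N₂) :=
  (MonoidAlgebra.mapDomainBialgHom R (AddMonoidHom.toMultiplicative f)).toAlgHom.toRingHom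

theorem incHom_apply (f : N₁ →+ N₂) (x : MonoidAlgebra R (Multiplicative N₁)) :
    incHom R f x = MonoidAlgebra.mapDomain (AddMonoidHom.toMultiplicative f) x := rfl

theorem coeff_incHom_apply (f : N₁ →+ N₂) (hf : Function.Injective f)
    (x : MonoidAlgebra R (Multiplicative N₁)) (n : N₁) :
    (incHom R f x).coeff (Multiplicative.ofAdd (f n)) = x.coeff (Multiplicative.ofAdd n) := by
  rw [incHom_apply, mapDomain]
  have hj : Function.Injective (AddMonoidHom.toMultiplicative f) := fun a b h => hf h
  exact Finsupp.mapDomain_apply hj _ (Multiplicative.ofAdd n)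

theorem coeff_incHom_notin (f : N₁ →+ N₂) (x : MonoidAlgebra R (Multiplicative N₁)) (m : N₂)
    (hm : m ∉ Set.range f) : (incHom R f x).coeff (Multiplicative.ofAdd m) = 0 := by
  rw [incHom_apply, mapDomain]
  apply Finsupp.mapDomain_of_notMem_range
  rintro ⟨a, ha⟩
  exact hm ⟨Multiplicative.toAdd a, congrArg Multiplicative.toAdd ha⟩

end coeff

section face

variable {N F : AddSubmonoid M}

theorem coeff_faceAlgHom (hF : IsFace N F) (x : MonoidAlgebra R (Multiplicative ↥N)) (n : ↥F) :
    (faceAlgHom R hF x).coeff (Multiplicative.ofAdd n) =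
      x.coeff (Multiplicative.ofAdd (AddSubmonoid.inclusion hF.le n)) := by
  classical
  induction x using MonoidAlgebra.induction_linear with
  | zero => simp
  | add x y hx hy => rw [map_add, coeff_add, Finsupp.add_apply, hx, hy, coeff_add, Finsupp.add_apply]
  | single m r =>
    obtain ⟨m0, hm0⟩ : ∃ m0 : ↥N, m0 = Multiplicative.toAdd m := ⟨_, rfl⟩
    have hs : (single m r : MonoidAlgebra R (Multiplicative ↥N)) =
        single (Multiplicative.ofAdd m0) r := by rw [hm0]; rfl
    rw [hs]
    by_cases h : (m0 : M) ∈ F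
    · rw [faceAlgHom_single_of_mem R hF m0 h r, coeff_single,
        Finsupp.single_apply, coeff_single, Finsupp.single_apply]
      have : (Multiplicative.ofAdd (⟨(m0 : M), h⟩ : ↥F) = Multiplicative.ofAdd n) ↔
          (Multiplicative.ofAdd m0 =
            Multiplicative.ofAdd (AddSubmonoid.inclusion hF.le n)) := by
        constructor
        · intro e
          have e' : (⟨(m0 : M), h⟩ : ↥F) = n := e
          rw [← e']
          rfl
        · intro e
          have e' : m0 = AddSubmonoid.inclusion hF.le n := e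
          have : (⟨(m0 : M), h⟩ : ↥F) = n := Subtype.ext (congrArg (fun z : ↥N => (z : M)) e')
          exact congrArg Multiplicative.ofAdd this
      by_cases h2 : Multiplicative.ofAdd m0 = Multiplicative.ofAdd (AddSubmonoid.inclusion hF.le n)
      · rw [if_pos h2, if_pos (this.mpr h2)]
      · rw [if_neg h2, if_neg (fun e => h2 (this.mp e))]
    · rw [faceAlgHom_single_of_not_mem R hF m0 h r, coeff_zero,
        Finsupp.zero_apply, coeff_single, Finsupp.single_apply, if_neg]
      intro e
      have e' : m0 = AddSubmonoid.inclusion hF.le n := e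
      apply h
      rw [e']
      exact n.2

end face


theorem ext_ofAdd {G : Type} [AddCommMonoid G] {x y : MonoidAlgebra R (Multiplicative G)}
    (h : ∀ g : G, x.coeff (Multiplicative.ofAdd g) = y.coeff (Multiplicative.ofAdd g)) : x = y := by
  rw [← coeff_inj]
  ext n
  exact h (Multiplicative.toAdd n)

section milnor

variable {N N' L L' : AddSubmonoid M} (hNL : N ≤ L) (hN'L' : N' ≤ L') (hL : IsFace L' L)
  (hN : IsFace N' N) (hdiff : (N' : Set M) = (L' : Set M) \ ((L : Set M) \ (N : Set M)))

include hdiff in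
theorem mem_N'_iff (x : M) : x ∈ N' ↔ x ∈ L' ∧ (x ∈ L → x ∈ N) := by
  have : x ∈ (N' : Set M) ↔ x ∈ (L' : Set M) \ ((L : Set M) \ (N : Set M)) := by rw [hdiff]
  simp only [SetLike.mem_coe, Set.mem_sdiff, not_and, not_not] at this
  exact this

abbrev pHom : MonoidAlgebra R (Multiplicative ↥L') →+* MonoidAlgebra R (Multiplicative ↥L) :=
  (faceAlgHom R hL).toRingHom

abbrev qHom : MonoidAlgebra R (Multiplicative ↥N) →+* MonoidAlgebra R (Multiplicative ↥L) :=
  incHom R (AddSubmonoid.inclusion hNL)

abbrev f1Hom : MonoidAlgebra R (Multiplicative ↥N') →+* MonoidAlgebra R (Multiplicative ↥N) :=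
  (faceAlgHom R hN).toRingHom

abbrev f2Hom : MonoidAlgebra R (Multiplicative ↥N') →+* MonoidAlgebra R (Multiplicative ↥L') :=
  incHom R (AddSubmonoid.inclusion hN'L')

theorem inclusion_injective' {A B : AddSubmonoid M} (h : A ≤ B) :
    Function.Injective (AddSubmonoid.inclusion h) := by
  intro a b hab
  apply Subtype.ext
  exact congrArg (fun z : ↥B => (z : M)) hab

theorem mem_range_inclusion_iff {A B : AddSubmonoid M} (h : A ≤ B) (b : ↥B) :
    b ∈ Set.range (AddSubmonoid.inclusion h) ↔ (b : M) ∈ A := by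
  constructor
  · rintro ⟨a, rfl⟩
    exact a.2
  · intro hb
    exact ⟨⟨b, hb⟩, Subtype.ext rfl⟩

include hdiff in
theorem comm_hom (c : MonoidAlgebra R (Multiplicative ↥N')) :
    qHom R hNL (f1Hom R hN c) = pHom R hL (f2Hom R hN'L' c) := by
  apply ext_ofAdd
  intro l0
  have hR : (pHom R hL (f2Hom R hN'L' c)).coeff (Multiplicative.ofAdd l0) =
      (f2Hom R hN'L' c).coeff (Multiplicative.ofAdd (AddSubmonoid.inclusion hL.le l0)) :=
    coeff_faceAlgHom R hL _ l0
  rw [hR]
  by_cases h : (l0 : M) ∈ N
  · have e1 : l0 = AddSubmonoid.inclusion hNL ⟨l0, h⟩ := Subtype.ext rfl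
    have e2 : AddSubmonoid.inclusion hL.le l0 = AddSubmonoid.inclusion hN'L' ⟨l0, hN.le h⟩ :=
      Subtype.ext rfl
    rw [e2, coeff_incHom_apply R _ (inclusion_injective' hN'L')]
    have e3 : (qHom R hNL (f1Hom R hN c)).coeff (Multiplicative.ofAdd l0) =
        (f1Hom R hN c).coeff (Multiplicative.ofAdd (⟨l0, h⟩ : ↥N)) := by
      conv_lhs => rw [e1]
      exact coeff_incHom_apply R _ (inclusion_injective' hNL) _ _
    rw [e3]
    exact coeff_faceAlgHom R hN c ⟨l0, h⟩
  · have h1 : (qHom R hNL (f1Hom R hN c)).coeff (Multiplicative.ofAdd l0) = 0 := by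
      apply coeff_incHom_notin
      rw [mem_range_inclusion_iff]
      exact h
    have h2 : (f2Hom R hN'L' c).coeff (Multiplicative.ofAdd (AddSubmonoid.inclusion hL.le l0)) = 0 := by
      apply coeff_incHom_notin
      rw [mem_range_inclusion_iff]
      intro h3
      exact h (((mem_N'_iff hdiff _).mp h3).2 l0.2)
    rw [h1, h2]

theorem pHom_surjective : Function.Surjective (pHom R hL) := by
  intro y
  refine ⟨incHom R (AddSubmonoid.inclusion hL.le) y, ?_⟩
  have := faceAlgHom_comp_mapDomain R hL
  exact DFunLike.congr_fun this y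

theorem inj_hom (c : MonoidAlgebra R (Multiplicative ↥N')) (h2 : f2Hom R hN'L' c = 0) : c = 0 := by
  apply ext_ofAdd
  intro n0
  rw [← coeff_incHom_apply R _ (inclusion_injective' hN'L') c n0]
  change (f2Hom R hN'L' c).coeff _ = _
  rw [h2]
  rfl

include hdiff in
theorem pb_hom (b : MonoidAlgebra R (Multiplicative ↥N)) (a' : MonoidAlgebra R (Multiplicative ↥L'))
    (h : qHom R hNL b = pHom R hL a') :
    ∃ c, f1Hom R hN c = b ∧ f2Hom R hN'L' c = a' := by
  have hg : Function.Injective (AddMonoidHom.toMultiplicative (AddSubmonoid.inclusion hN'L')) :=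
    fun x y hxy => inclusion_injective' hN'L' hxy
  let c : MonoidAlgebra R (Multiplicative ↥N') :=
    MonoidAlgebra.ofCoeff (Finsupp.comapDomain
      (AddMonoidHom.toMultiplicative (AddSubmonoid.inclusion hN'L')) a'.coeff hg.injOn)
  have hc : ∀ n0 : ↥N', c.coeff (Multiplicative.ofAdd n0) =
      a'.coeff (Multiplicative.ofAdd (AddSubmonoid.inclusion hN'L' n0)) := fun n0 => rfl
  have key : ∀ l0 : ↥L, (qHom R hNL b).coeff (Multiplicative.ofAdd l0) =
      a'.coeff (Multiplicative.ofAdd (AddSubmonoid.inclusion hL.le l0)) := by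
    intro l0
    rw [h]
    exact coeff_faceAlgHom R hL a' l0
  refine ⟨c, ?_, ?_⟩
  · apply ext_ofAdd
    intro n0
    have e1 : (f1Hom R hN c).coeff (Multiplicative.ofAdd n0) =
        c.coeff (Multiplicative.ofAdd (AddSubmonoid.inclusion hN.le n0)) := coeff_faceAlgHom R hN c n0
    rw [e1, hc, ← coeff_incHom_apply R _ (inclusion_injective' hNL) b n0]
    have := key (AddSubmonoid.inclusion hNL n0)
    exact this.symm
  · apply ext_ofAdd
    intro l0
    by_cases hl : (l0 : M) ∈ N'
    · have e1 : l0 = AddSubmonoid.inclusion hN'L' ⟨l0, hl⟩ := Subtype.ext rfl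
      conv_lhs => rw [e1]
      rw [coeff_incHom_apply R _ (inclusion_injective' hN'L'), hc]
      rw [← e1]
    · have h1 : (f2Hom R hN'L' c).coeff (Multiplicative.ofAdd l0) = 0 := by
        apply coeff_incHom_notin
        rw [mem_range_inclusion_iff]
        exact hl
      rw [h1]
      have h3 : (l0 : M) ∈ L ∧ (l0 : M) ∉ N := by
        by_contra hcon
        apply hl
        rw [mem_N'_iff hdiff]
        refine ⟨l0.2, fun hL0 => ?_⟩
        by_contra hN0
        exact hcon ⟨hL0, hN0⟩
      have h4 := key ⟨l0, h3.1⟩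
      have h5 : (qHom R hNL b).coeff (Multiplicative.ofAdd (⟨l0, h3.1⟩ : ↥L)) = 0 := by
        apply coeff_incHom_notin
        rw [mem_range_inclusion_iff]
        exact h3.2
      rw [h5] at h4
      have e2 : AddSubmonoid.inclusion hL.le ⟨l0, h3.1⟩ = l0 := Subtype.ext rfl
      rw [e2] at h4
      exact h4

end milnor

end Groth.Agent.Lib.Helper18.FacePush
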