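import Mathlib
import Groth.Prelude.Def_Magnet4
import Groth.Agent.Lib.Helper18.FacePush
import Groth.Agent.Lib.Helper18.FpqcOver
import Groth.Agent.Lib.Helper79.FerrandTorBC
import Groth.Agent.Lib.Helper79.FerrandAffine

set_option autoImplicit false
set_option linter.unusedSectionVars false
universe u

open CategoryTheory CategoryTheory.Limits MonoidalCategory CartesianMonoidalCategory AlgebraicGeometry Opposite
open Magnet Groth.Agent.Lib.Helper18.FpqcOver

noncomputable section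

namespace Groth.Agent.Lib.Helper18.FacePush

variable {M : Type} [AddCommMonoid M] {N N' L L' : AddSubmonoid M} (hNL : N ≤ L) (hN'L' : N' ≤ L')
  (hL : IsFace L' L) (hN : IsFace N' N)
  (hdiff : (N' : Set M) = (L' : Set M) \ ((L : Set M) \ (N : Set M)))

include hdiff in
theorem isPushout_Z : IsPushout (AMon.faceMap (ULift.{u} ℤ) hL).left
    (AMon.map (ULift.{u} ℤ) (AddSubmonoid.inclusion hNL)).left
    (AMon.map (ULift.{u} ℤ) (AddSubmonoid.inclusion hN'L')).left
    (AMon.faceMap (ULift.{u} ℤ) hN).left := by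
  have := Groth.Agent.Lib.Helper79.Ferrand.isPushout_Spec (pHom (ULift.{u} ℤ) hL)
    (qHom (ULift.{u} ℤ) hNL) (f1Hom (ULift.{u} ℤ) hN) (f2Hom (ULift.{u} ℤ) hN'L')
    (comm_hom (ULift.{u} ℤ) hNL hN'L' hL hN hdiff) (pHom_surjective (ULift.{u} ℤ) hL)
    (pb_hom (ULift.{u} ℤ) hNL hN'L' hL hN hdiff)
    (fun c _ h2 => inj_hom (ULift.{u} ℤ) hN'L' c h2)
  exact this


theorem cond_affine {X Y Z : Scheme.{u}} [IsAffine X] [IsAffine Y] (i : Z ⟶ X) (j : Z ⟶ Y)
    [IsClosedImmersion i] : Groth.Agent.Lib.Helper79.Ferrand.Cond i j := by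
  intro y
  exact ⟨⟨⊤, ⊤, isAffineOpen_top X, isAffineOpen_top Y, rfl⟩, trivial⟩

theorem flat_AMon_hom (K : AddSubmonoid M) : Flat (AMon (ULift.{u} ℤ) ↥K).hom := by
  have h1 : (AMon (ULift.{u} ℤ) ↥K).hom = Spec.map (CommRingCat.ofHom
      (algebraMap (ULift.{u} ℤ) (MonoidAlgebra (ULift.{u} ℤ) (Multiplicative ↥K)))) := rfl
  have h2 : Flat (Spec.map (CommRingCat.ofHom
      (algebraMap (ULift.{u} ℤ) (MonoidAlgebra (ULift.{u} ℤ) (Multiplicative ↥K))))) := by
    rw [Flat.SpecMap_iff]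
    change (algebraMap (ULift.{u} ℤ) (MonoidAlgebra (ULift.{u} ℤ) (Multiplicative ↥K))).Flat
    rw [RingHom.flat_algebraMap_iff]
    infer_instance
  rw [h1]
  exact h2

include hdiff in
theorem comm_Z : AMon.faceMap (ULift.{u} ℤ) hL ≫ AMon.map (ULift.{u} ℤ) (AddSubmonoid.inclusion hN'L') =
    AMon.map (ULift.{u} ℤ) (AddSubmonoid.inclusion hNL) ≫ AMon.faceMap (ULift.{u} ℤ) hN := by
  ext : 1
  exact (isPushout_Z hNL hN'L' hL hN hdiff).w

include hdiff in
theorem comm_S (S : Scheme.{u}) :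
    AMonS.faceMap S hL ≫ AMonS.map S (AddSubmonoid.inclusion hN'L') =
      AMonS.map S (AddSubmonoid.inclusion hNL) ≫ AMonS.faceMap S hN := by
  unfold AMonS.faceMap AMonS.map
  rw [← Functor.map_comp, ← Functor.map_comp, comm_Z hNL hN'L' hL hN hdiff]

include hdiff in
theorem isPushout_left (S : Scheme.{u}) : IsPushout (AMonS.faceMap S hL).left
    (AMonS.map S (AddSubmonoid.inclusion hNL)).left
    (AMonS.map S (AddSubmonoid.inclusion hN'L')).left (AMonS.faceMap S hN).left := by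
  have hcl : IsClosedImmersion (AMon.faceMap (ULift.{u} ℤ) hL).left :=
    IsClosedImmersion.spec_of_surjective _ (pHom_surjective (ULift.{u} ℤ) hL)
  have hA1 : IsAffine (AMon (ULift.{u} ℤ) ↥L').left := by
    change IsAffine (Spec _)
    infer_instance
  have hA2 : IsAffine (AMon (ULift.{u} ℤ) ↥N).left := by
    change IsAffine (Spec _)
    infer_instance
  have hF := cond_affine (AMon.faceMap (ULift.{u} ℤ) hL).left
    (AMon.map (ULift.{u} ℤ) (AddSubmonoid.inclusion hNL)).left
  have hP := isPushout_Z hNL hN'L' hL hN hdiff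
  have hflat : Flat (((AMon.faceMap (ULift.{u} ℤ) hL).left ≫
      (AMon.map (ULift.{u} ℤ) (AddSubmonoid.inclusion hN'L')).left) ≫
      (AMon (ULift.{u} ℤ) ↥N').hom) := by
    rw [Category.assoc, Over.w, Over.w]
    exact flat_AMon_hom L
  have hj2 := congrArg (fun k => k.left) (comm_S hNL hN'L' hL hN hdiff S)
  exact Groth.Agent.Lib.Helper79.Ferrand.isPushout_of_flat_trace hF hP (AMon (ULift.{u} ℤ) ↥N').hom
    (Limits.IsTerminal.from specULiftZIsTerminal S)
    (IsPullback.of_hasPullback _ _)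
    (isPullback_pullback_map _ (AMon.map (ULift.{u} ℤ) (AddSubmonoid.inclusion hN'L'))).flip
    (isPullback_pullback_map _ (AMon.faceMap (ULift.{u} ℤ) hN)).flip
    (isPullback_pullback_map _ (AMon.faceMap (ULift.{u} ℤ) hL)).flip
    (isPullback_pullback_map _ (AMon.map (ULift.{u} ℤ) (AddSubmonoid.inclusion hNL))).w
    hj2


include hdiff in
theorem isPushout_over (S : Scheme.{u}) : IsPushout (AMonS.faceMap S hL)
    (AMonS.map S (AddSubmonoid.inclusion hNL))
    (AMonS.map S (AddSubmonoid.inclusion hN'L')) (AMonS.faceMap S hN) := by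
  apply IsPushout.of_map (Over.forget S) (comm_S hNL hN'L' hL hN hdiff S)
  exact isPushout_left hNL hN'L' hL hN hdiff S

end Groth.Agent.Lib.Helper18.FacePush
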