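import Mathlib
import Groth.Prelude.Def_Magnet4
import Groth.Agent.Lib.Helper18.FpqcOver
import Groth.Agent.Lib.Helper18.FacePushSch
import Groth.Agent.Lib.Helper79.FerrandFlatBC
import Groth.Agent.Lib.Helper79.FerrandAffine

set_option autoImplicit false
set_option linter.unusedSectionVars false
universe u

open CategoryTheory CategoryTheory.Limits MonoidalCategory CartesianMonoidalCategory AlgebraicGeometry Opposite
open Magnet Groth.Agent.Lib.Helper18.FpqcOver

noncomputable section

namespace Groth.Agent.Lib.Helper18.EqvPushoutSch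

open Groth.Agent.Lib.Helper79.FerrandRing in
theorem exists_affine_pushout {X Y Z : Scheme.{u}} [IsAffine X] [IsAffine Y] [IsAffine Z]
    (i : Z ⟶ X) (j : Z ⟶ Y) [IsClosedImmersion i] :
    ∃ (P : Scheme.{u}) (a : X ⟶ P) (b : Y ⟶ P), IsAffine P ∧ IsPushout i j a b := by
  have hp : Function.Surjective i.appTop.hom :=
    (IsClosedImmersion.isAffine_surjective_of_isAffine i).2
  have h := Groth.Agent.Lib.Helper79.Ferrand.isPushout_Spec i.appTop.hom j.appTop.hom
    (fpFst j.appTop.hom i.appTop.hom) (fpSnd j.appTop.hom i.appTop.hom)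
    (fp_comm j.appTop.hom i.appTop.hom) hp (fp_hPB j.appTop.hom i.appTop.hom)
    (fp_hINJ j.appTop.hom i.appTop.hom)
  refine ⟨Spec (CommRingCat.of (fp j.appTop.hom i.appTop.hom)),
    X.isoSpec.hom ≫ Spec.map (CommRingCat.ofHom (fpSnd j.appTop.hom i.appTop.hom)),
    Y.isoSpec.hom ≫ Spec.map (CommRingCat.ofHom (fpFst j.appTop.hom i.appTop.hom)),
    inferInstance, ?_⟩
  refine IsPushout.of_iso h Z.isoSpec.symm X.isoSpec.symm Y.isoSpec.symm (Iso.refl _) ?_ ?_ ?_ ?_
  · exact Scheme.isoSpec_inv_naturality i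
  · exact Scheme.isoSpec_inv_naturality j
  · simp
  · simp

variable {T : Scheme.{u}}

theorem isPushout_whiskerLeft_of_flat (W : Over T) [Flat W.hom] {X Y Z P : Over T} {i : Z ⟶ X}
    {j : Z ⟶ Y} {a : X ⟶ P} {b : Y ⟶ P} [IsClosedImmersion i.left]
    (hF : Groth.Agent.Lib.Helper79.Ferrand.Cond i.left j.left)
    (hP : IsPushout i.left j.left a.left b.left) (comm : i ≫ a = j ≫ b) :
    IsPushout (W ◁ i) (W ◁ j) (W ◁ a) (W ◁ b) := by
  have comm' : (W ◁ i) ≫ (W ◁ a) = (W ◁ j) ≫ (W ◁ b) := by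
    rw [← MonoidalCategory.whiskerLeft_comp, ← MonoidalCategory.whiskerLeft_comp, comm]
  apply IsPushout.of_map (Over.forget T) comm'
  have hflat : Flat (snd W P).left := by
    have := (IsPullback.of_hasPullback W.hom P.hom)
    exact MorphismProperty.of_isPullback (P := @Flat) this (inferInstance : Flat W.hom)
  have hj1 : (W ◁ j).left ≫ (snd W Y).left = (snd W Z).left ≫ j.left := by
    rw [← Over.comp_left, ← Over.comp_left, whiskerLeft_snd]
  have hj2 : (W ◁ i).left ≫ (W ◁ a).left = (W ◁ j).left ≫ (W ◁ b).left :=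
    congrArg (fun k => k.left) comm'
  exact Groth.Agent.Lib.Helper79.Ferrand.isPushout_of_flat hF hP (h := (snd W P).left)
    (isPullback_whiskerLeft W a).flip (isPullback_whiskerLeft W b).flip
    (isPullback_whiskerLeft W i).flip hj1 hj2

end Groth.Agent.Lib.Helper18.EqvPushoutSch
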