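import Mathlib
import Groth.Prelude.Def_Magnet4
import Groth.Agent.Lib.Helper18.FacePushSch

set_option autoImplicit false
set_option linter.unusedSectionVars false
universe u

open CategoryTheory CategoryTheory.Limits MonoidalCategory CartesianMonoidalCategory AlgebraicGeometry Opposite
open Magnet Groth.Agent.Lib.Helper18.FpqcOver

noncomputable section

namespace Groth.Agent.Lib.Helper18.FacePush

section whisker

variable {S : Scheme.{u}}

theorem isPullback_whisker_Z (T : Over S)
    {X₀ Y₀ : Over (Spec (CommRingCat.of (ULift.{u} ℤ)))} (g : X₀ ⟶ Y₀) :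
    IsPullback
      ((fst ((Over.pullback (Limits.IsTerminal.from specULiftZIsTerminal S)).obj X₀) T).left ≫
        pullback.fst X₀.hom (Limits.IsTerminal.from specULiftZIsTerminal S))
      (((Over.pullback (Limits.IsTerminal.from specULiftZIsTerminal S)).map g) ▷ T).left g.left
      ((fst ((Over.pullback (Limits.IsTerminal.from specULiftZIsTerminal S)).obj Y₀) T).left ≫
        pullback.fst Y₀.hom (Limits.IsTerminal.from specULiftZIsTerminal S)) :=
  (isPullback_whiskerRight _ T).flip.paste_horiz (isPullback_pullback_map _ g).flip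

theorem isPullback_prod_Z (T : Over S) (X₀ : Over (Spec (CommRingCat.of (ULift.{u} ℤ)))) :
    IsPullback
      ((fst ((Over.pullback (Limits.IsTerminal.from specULiftZIsTerminal S)).obj X₀) T).left ≫
        pullback.fst X₀.hom (Limits.IsTerminal.from specULiftZIsTerminal S))
      (snd ((Over.pullback (Limits.IsTerminal.from specULiftZIsTerminal S)).obj X₀) T).left
      X₀.hom (T.hom ≫ Limits.IsTerminal.from specULiftZIsTerminal S) :=
  (IsPullback.of_hasPullback
    ((Over.pullback (Limits.IsTerminal.from specULiftZIsTerminal S)).obj X₀).hom T.hom).paste_horiz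
    (IsPullback.of_hasPullback X₀.hom (Limits.IsTerminal.from specULiftZIsTerminal S))

end whisker

variable {M : Type} [AddCommMonoid M] {N N' L L' : AddSubmonoid M} (hNL : N ≤ L) (hN'L' : N' ≤ L')
  (hL : IsFace L' L) (hN : IsFace N' N)
  (hdiff : (N' : Set M) = (L' : Set M) \ ((L : Set M) \ (N : Set M)))

include hdiff in
theorem comm_whisker {S : Scheme.{u}} (T : Over S) :
    (AMonS.faceMap S hL ▷ T) ≫ (AMonS.map S (AddSubmonoid.inclusion hN'L') ▷ T) =
      (AMonS.map S (AddSubmonoid.inclusion hNL) ▷ T) ≫ (AMonS.faceMap S hN ▷ T) := by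
  rw [← comp_whiskerRight, ← comp_whiskerRight, comm_S hNL hN'L' hL hN hdiff S]

include hdiff in
theorem isPushout_whisker_left {S : Scheme.{u}} (T : Over S) :
    IsPushout (AMonS.faceMap S hL ▷ T).left (AMonS.map S (AddSubmonoid.inclusion hNL) ▷ T).left
      (AMonS.map S (AddSubmonoid.inclusion hN'L') ▷ T).left (AMonS.faceMap S hN ▷ T).left := by
  have hcl : IsClosedImmersion (AMon.faceMap (ULift.{u} ℤ) hL).left :=
    IsClosedImmersion.spec_of_surjective _ (pHom_surjective (ULift.{u} ℤ) hL)
  have hA1 : IsAffine (AMon (ULift.{u} ℤ) ↥L').left := by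
    change IsAffine (Spec _)
    infer_instance
  have hA2 : IsAffine (AMon (ULift.{u} ℤ) ↥N).left := by
    change IsAffine (Spec _)
    infer_instance
  have hF := cond_affine (AMon.faceMap (ULift.{u} ℤ) hL).left
    (AMon.map (ULift.{u} ℤ) (AddSubmonoid.inclusion hNL)).left
  have hP := isPushout_Z hNL hN'L' hL hN hdiff
  have hflat : Flat (((AMon.faceMap (ULift.{u} ℤ) hL).left ≫
      (AMon.map (ULift.{u} ℤ) (AddSubmonoid.inclusion hN'L')).left) ≫
      (AMon (ULift.{u} ℤ) ↥N').hom) := by
    rw [Category.assoc, Over.w, Over.w]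
    exact flat_AMon_hom L
  have hj2 := congrArg (fun k => k.left) (comm_whisker hNL hN'L' hL hN hdiff T)
  exact Groth.Agent.Lib.Helper79.Ferrand.isPushout_of_flat_trace hF hP (AMon (ULift.{u} ℤ) ↥N').hom
    (T.hom ≫ Limits.IsTerminal.from specULiftZIsTerminal S)
    (isPullback_prod_Z T (AMon (ULift.{u} ℤ) ↥N'))
    (isPullback_whisker_Z T (AMon.map (ULift.{u} ℤ) (AddSubmonoid.inclusion hN'L')))
    (isPullback_whisker_Z T (AMon.faceMap (ULift.{u} ℤ) hN))
    (isPullback_whisker_Z T (AMon.faceMap (ULift.{u} ℤ) hL))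
    (isPullback_whisker_Z T (AMon.map (ULift.{u} ℤ) (AddSubmonoid.inclusion hNL))).w.symm
    hj2

include hdiff in
theorem isPushout_whisker {S : Scheme.{u}} (T : Over S) :
    IsPushout (AMonS.faceMap S hL ▷ T) (AMonS.map S (AddSubmonoid.inclusion hNL) ▷ T)
      (AMonS.map S (AddSubmonoid.inclusion hN'L') ▷ T) (AMonS.faceMap S hN ▷ T) := by
  apply IsPushout.of_map (Over.forget S) (comm_whisker hNL hN'L' hL hN hdiff T)
  exact isPushout_whisker_left hNL hN'L' hL hN hdiff T

end Groth.Agent.Lib.Helper18.FacePush
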