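import Mathlib
import Groth.Prelude.Def_Magnet4
import Groth.Agent.Lib.Helper18.FacePushWhisker

set_option autoImplicit false
set_option linter.unusedSectionVars false
universe u

open CategoryTheory CategoryTheory.Limits MonoidalCategory CartesianMonoidalCategory MonObj AlgebraicGeometry Opposite
open Magnet Groth.Agent.Lib.Helper18.FpqcOver

noncomputable section

namespace Groth.Agent.Lib.Helper18.FacePush

section general

variable {C : Type*} [Category C] [CartesianMonoidalCategory C]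

def sw (A G T : C) : A ⊗ (G ⊗ T) ⟶ G ⊗ (A ⊗ T) :=
  lift (snd A (G ⊗ T) ≫ fst G T) (lift (fst A (G ⊗ T)) (snd A (G ⊗ T) ≫ snd G T))

theorem lift_sw {A G T W : C} (x : W ⟶ A) (g : W ⟶ G) (t : W ⟶ T) :
    lift x (lift g t) ≫ sw A G T = lift g (lift x t) := by
  unfold sw
  rw [comp_lift, comp_lift, lift_fst, ← Category.assoc, lift_snd, lift_fst, ← Category.assoc, lift_snd,
    lift_snd]

theorem sw_sw (A G T : C) : sw A G T ≫ sw G A T = 𝟙 _ := by
  apply Magnet.hom_ext_lift₂
  intro W x z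
  have hz : z = lift (z ≫ fst _ _) (z ≫ snd _ _) := (lift_comp_fst_snd z).symm
  generalize z ≫ fst _ _ = g at hz
  generalize z ≫ snd _ _ = t at hz
  subst hz
  rw [← Category.assoc, lift_sw, lift_sw, Category.comp_id]

theorem whisker_sw {A B : C} (h : A ⟶ B) (G T : C) :
    (h ▷ (G ⊗ T)) ≫ sw B G T = sw A G T ≫ (G ◁ (h ▷ T)) := by
  apply Magnet.hom_ext_lift₂
  intro W x z
  have hz : z = lift (z ≫ fst _ _) (z ≫ snd _ _) := (lift_comp_fst_snd z).symm
  generalize z ≫ fst _ _ = g at hz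
  generalize z ≫ snd _ _ = t at hz
  subst hz
  rw [lift_whiskerRight_assoc, lift_sw, ← Category.assoc, lift_sw, lift_whiskerLeft, lift_whiskerRight]

variable {A : C} [MonObj A]

theorem isEquivariant_whiskerRight {B B' : C} {ρ' : MonAct A B'} {ρ : MonAct A B} (ψ : B' ⟶ B)
    (hψ : MonAct.IsEquivariant ρ' ρ ψ) (T : C) :
    MonAct.IsEquivariant (ρ'.prod (MonAct.trivial A T)) (ρ.prod (MonAct.trivial A T)) (ψ ▷ T) := by
  rw [MonAct.isEquivariant_iff] at hψ ⊢
  intro T' g z
  have hz : z = lift (z ≫ fst _ _) (z ≫ snd _ _) := (lift_comp_fst_snd z).symm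
  generalize z ≫ fst _ _ = b at hz
  generalize z ≫ snd _ _ = t at hz
  subst hz
  rw [MonAct.lift_prod_act_assoc, MonAct.lift_trivial_act, lift_whiskerRight, lift_whiskerRight,
    MonAct.lift_prod_act, MonAct.lift_trivial_act, Category.assoc, hψ]

end general


section attr

variable {S : Scheme.{u}} {M : Type} [AddCommMonoid M] {N N' L L' : AddSubmonoid M} (hNL : N ≤ L)
  (hN'L' : N' ≤ L') (hL : IsFace L' L) (hN : IsFace N' N)
  (hdiff : (N' : Set M) = (L' : Set M) \ ((L : Set M) \ (N : Set M)))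
  {X : Over S} (a : MonAct (AMonS S M) X)

theorem isEquivariant_map {K K' : AddSubmonoid M} (h : K ≤ K') :
    MonAct.IsEquivariant (subAct S M K') (subAct S M K) (AMonS.map S (AddSubmonoid.inclusion h)) :=
  MonAct.isEquivariant_restrict_regular _ _ _ (by rw [← AMonS.map_comp]; rfl)

include hNL hL hdiff in
theorem jointly_epi (T : Over S) (u v : AMonS S M ⊗ (AMonS S ↥N' ⊗ T) ⟶ X)
    (h1 : (AMonS S M ◁ (AMonS.map S (AddSubmonoid.inclusion hN'L') ▷ T)) ≫ u =
      (AMonS S M ◁ (AMonS.map S (AddSubmonoid.inclusion hN'L') ▷ T)) ≫ v)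
    (h2 : (AMonS S M ◁ (AMonS.faceMap S hN ▷ T)) ≫ u = (AMonS S M ◁ (AMonS.faceMap S hN ▷ T)) ≫ v) :
    u = v := by
  have key : sw (AMonS S ↥N') (AMonS S M) T ≫ u = sw (AMonS S ↥N') (AMonS S M) T ≫ v := by
    apply (isPushout_whisker hNL hN'L' hL hN hdiff (AMonS S M ⊗ T)).hom_ext
    · rw [← Category.assoc, whisker_sw, Category.assoc, h1, ← Category.assoc, ← whisker_sw,
        Category.assoc]
    · rw [← Category.assoc, whisker_sw, Category.assoc, h2, ← Category.assoc, ← whisker_sw,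
        Category.assoc]
  have e1 : u = (sw (AMonS S M) (AMonS S ↥N') T ≫ sw (AMonS S ↥N') (AMonS S M) T) ≫ u := by
    rw [sw_sw, Category.id_comp]
  have e2 : v = (sw (AMonS S M) (AMonS S ↥N') T ≫ sw (AMonS S ↥N') (AMonS S M) T) ≫ v := by
    rw [sw_sw, Category.id_comp]
  rw [e1, e2, Category.assoc, Category.assoc, key]

include hNL hL hdiff in
theorem isEquivariant_desc (T : Over S) (φ : AMonS S ↥N' ⊗ T ⟶ X)
    (h1 : MonAct.IsEquivariant ((subAct S M L').prod (MonAct.trivial (AMonS S M) T)) a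
      ((AMonS.map S (AddSubmonoid.inclusion hN'L') ▷ T) ≫ φ))
    (h2 : MonAct.IsEquivariant ((subAct S M N).prod (MonAct.trivial (AMonS S M) T)) a
      ((AMonS.faceMap S hN ▷ T) ≫ φ)) :
    MonAct.IsEquivariant ((subAct S M N').prod (MonAct.trivial (AMonS S M) T)) a φ := by
  have e1 := isEquivariant_whiskerRight (AMonS.map S (AddSubmonoid.inclusion hN'L'))
    (isEquivariant_map (S := S) hN'L') T
  have e2 := isEquivariant_whiskerRight (AMonS.faceMap S hN) (isEquivariant_faceMapS S hN) T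
  unfold MonAct.IsEquivariant at h1 h2 e1 e2 ⊢
  apply jointly_epi hNL hN'L' hL hN hdiff T
  · rw [← Category.assoc, ← e1, Category.assoc, h1, MonoidalCategory.whiskerLeft_comp, Category.assoc]
  · rw [← Category.assoc, ← e2, Category.assoc, h2, MonoidalCategory.whiskerLeft_comp, Category.assoc]

include hdiff in
theorem isPullback_attr :
    IsPullback (attrMap a hN'L') (attrFace a hN) (attrFace a hL) (attrMap a hNL) := by
  apply IsPullback.of_forall_isPullback_app
  intro T
  rw [Types.isPullback_iff]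
  refine ⟨?_, ?_, ?_⟩
  · ext x
    apply Subtype.ext
    change (AMonS.faceMap S hL ▷ unop T) ≫ (AMonS.map S (AddSubmonoid.inclusion hN'L') ▷ unop T) ≫ x.1 =
      (AMonS.map S (AddSubmonoid.inclusion hNL) ▷ unop T) ≫ (AMonS.faceMap S hN ▷ unop T) ≫ x.1
    rw [← Category.assoc, comm_whisker hNL hN'L' hL hN hdiff, Category.assoc]
  · rintro x₁ y₁ ⟨h1, h2⟩
    apply Subtype.ext
    apply (isPushout_whisker hNL hN'L' hL hN hdiff (unop T)).hom_ext
    · exact congrArg Subtype.val h1
    · exact congrArg Subtype.val h2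
  · intro x₂ x₃ h
    have hc : (AMonS.faceMap S hL ▷ unop T) ≫ x₂.1 =
        (AMonS.map S (AddSubmonoid.inclusion hNL) ▷ unop T) ≫ x₃.1 := congrArg Subtype.val h
    let φ := (isPushout_whisker hNL hN'L' hL hN hdiff (unop T)).desc x₂.1 x₃.1 hc
    have hφ1 : (AMonS.map S (AddSubmonoid.inclusion hN'L') ▷ unop T) ≫ φ = x₂.1 :=
      (isPushout_whisker hNL hN'L' hL hN hdiff (unop T)).inl_desc _ _ _
    have hφ2 : (AMonS.faceMap S hN ▷ unop T) ≫ φ = x₃.1 :=
      (isPushout_whisker hNL hN'L' hL hN hdiff (unop T)).inr_desc _ _ _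
    have hφ : MonAct.IsEquivariant ((subAct S M N').prod (MonAct.trivial (AMonS S M) (unop T))) a φ := by
      apply isEquivariant_desc hNL hN'L' hL hN hdiff a (unop T) φ
      · rw [hφ1]; exact x₂.2
      · rw [hφ2]; exact x₃.2
    exact ⟨⟨φ, hφ⟩, Subtype.ext hφ1, Subtype.ext hφ2⟩

end attr

end Groth.Agent.Lib.Helper18.FacePush
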