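import Mathlib.Tactic
import Mathlib.LinearAlgebra.Basis.Basic
import Mathlib.LinearAlgebra.Finsupp.LinearCombination
import Mathlib.Algebra.Module.Submodule.Range
import Mathlib.LinearAlgebra.Quotient.Basic
import Mathlib.RingTheory.Localization.Module
import Mathlib.Algebra.Module.LocalizedModule.Basic

set_option autoImplicit false
universe u v w

namespace Groth.Agent.Lib.Helper18

section GenBasis

variable {R : Type u} [CommRing R] {M : Type v} [AddCommGroup M] [Module R M]

def IsGenBasis (f : R) {ι : Type w} (m : ι → M) : Prop :=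
  (∀ (c : ι →₀ R) (k : ℕ), f ^ k • Finsupp.linearCombination R m c = 0 → c = 0) ∧
    ∀ x : M, ∃ k : ℕ, f ^ k • x ∈ Submodule.span R (Set.range m)

variable (R M) in
def GenFree : Prop :=
  ∃ f : R, f ≠ 0 ∧ ∃ (ι : Type v) (m : ι → M), IsGenBasis f m

theorem IsGenBasis.mul [IsDomain R] {f : R} {ι : Type w} {m : ι → M} (h : IsGenBasis f m)
    {g : R} (hg : g ≠ 0) : IsGenBasis (f * g) m := by
  refine ⟨fun c k hc => ?_, fun x => ?_⟩
  · rw [mul_pow, mul_smul, ← map_smul] at hc
    have := h.1 _ k hc
    ext i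
    have hi := DFunLike.congr_fun this i
    simp only [Finsupp.smul_apply, smul_eq_mul, Finsupp.coe_zero, Pi.zero_apply] at hi
    rcases mul_eq_zero.1 hi with h0 | h0
    · exact absurd h0 (pow_ne_zero _ hg)
    · exact h0
  · obtain ⟨k, hk⟩ := h.2 x
    refine ⟨k, ?_⟩
    rw [mul_pow, mul_comm, mul_smul]
    exact Submodule.smul_mem _ _ hk

theorem isGenBasis_of_torsion {f : R} (hM : ∀ x : M, f • x = 0) :
    IsGenBasis f (fun e : PEmpty.{w + 1} => (e.elim : M)) := by
  refine ⟨fun c _ _ => ?_, fun x => ⟨1, ?_⟩⟩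
  · ext e
    exact e.elim
  · rw [pow_one, hM]
    exact Submodule.zero_mem _

theorem isGenBasis_of_basis {ι : Type w} (b : Module.Basis ι R M) : IsGenBasis (1 : R) b := by
  refine ⟨fun c k hc => ?_, fun x => ⟨0, ?_⟩⟩
  · rw [one_pow, one_smul] at hc
    exact (linearIndependent_iff.1 b.linearIndependent) c hc
  · rw [b.span_eq]
    trivial

theorem IsGenBasis.of_injective_of_cotorsion [IsDomain R] {N : Type v} [AddCommGroup N] [Module R N]
    {f f' : R} (hf : f ≠ 0) {ι : Type w} {m : ι → N} (h : IsGenBasis f' m)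
    (j : N →ₗ[R] M) (hj : Function.Injective j)
    (hcot : ∀ x : M, ∃ k : ℕ, f ^ k • x ∈ LinearMap.range j) :
    IsGenBasis (f' * f) (j ∘ m) := by
  refine ⟨fun c k hc => ?_, fun x => ?_⟩
  · have h1 : Finsupp.linearCombination R (j ∘ m) c = j (Finsupp.linearCombination R m c) := by
      rw [Finsupp.linearCombination_apply, Finsupp.linearCombination_apply, map_finsuppSum]
      simp
    rw [h1, ← map_smul] at hc
    have h2 := hj (hc.trans (map_zero j).symm)
    exact (h.mul hf).1 c k h2
  · obtain ⟨k, y, hy⟩ := hcot x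
    obtain ⟨l, hl⟩ := h.2 y
    refine ⟨k + l, ?_⟩
    have h3 : (f' * f) ^ (k + l) • x = (f' ^ k * f ^ l) • j (f' ^ l • y) := by
      rw [map_smul, hy, smul_smul, smul_smul]
      congr 1
      ring
    rw [h3]
    apply Submodule.smul_mem
    rw [Set.range_comp, ← Submodule.map_span]
    exact ⟨_, hl, rfl⟩

theorem IsGenBasis.extension [IsDomain R] {M' M'' : Type v} [AddCommGroup M'] [Module R M']
    [AddCommGroup M''] [Module R M''] (j : M' →ₗ[R] M) (p : M →ₗ[R] M'')
    (hj : Function.Injective j) (hp : Function.Surjective p) (hex : Function.Exact j p)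
    {f' f'' : R} (hf' : f' ≠ 0) (hf'' : f'' ≠ 0) {ι' ι'' : Type w} {m' : ι' → M'} {m'' : ι'' → M''}
    (h' : IsGenBasis f' m') (h'' : IsGenBasis f'' m'') :
    IsGenBasis (f' * f'') (Sum.elim (j ∘ m') (Function.surjInv hp ∘ m'')) := by
  set σ := Function.surjInv hp with hσ
  have hσp : ∀ y, p (σ y) = y := Function.surjInv_eq hp
  have hpj : ∀ x, p (j x) = 0 := fun x => hex.apply_apply_eq_zero x
  have hlc : ∀ (c₁ : ι' →₀ R) (c₂ : ι'' →₀ R),
      Finsupp.linearCombination R (Sum.elim (j ∘ m') (σ ∘ m'')) (c₁.sumElim c₂) =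
        j (Finsupp.linearCombination R m' c₁) + Finsupp.linearCombination R (σ ∘ m'') c₂ := by
    intro c₁ c₂
    rw [Finsupp.linearCombination_apply, Finsupp.sum_sumElim, Finsupp.linearCombination_apply,
      Finsupp.linearCombination_apply, map_finsuppSum]
    simp [Function.comp_def]
  have hpσ : ∀ c₂ : ι'' →₀ R, p (Finsupp.linearCombination R (σ ∘ m'') c₂) =
      Finsupp.linearCombination R m'' c₂ := by
    intro c₂
    rw [Finsupp.linearCombination_apply, Finsupp.linearCombination_apply, map_finsuppSum]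
    simp [hσp]
  refine ⟨fun c k hc => ?_, fun x => ?_⟩
  · rw [← Finsupp.comapDomain_sumElim_comapDomain c] at hc ⊢
    set c₁ := Finsupp.comapDomain Sum.inl c Sum.inl_injective.injOn
    set c₂ := Finsupp.comapDomain Sum.inr c Sum.inr_injective.injOn
    rw [hlc] at hc
    have h2 : (f' * f'') ^ k • Finsupp.linearCombination R m'' c₂ = 0 := by
      have := congrArg p hc
      rwa [map_smul, map_add, hpj, zero_add, hpσ, map_zero] at this
    rw [mul_comm] at h2
    have hc₂ : c₂ = 0 := (h''.mul hf').1 c₂ k h2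
    rw [hc₂, map_zero, add_zero, ← map_smul] at hc
    have hc₁ : c₁ = 0 := (h'.mul hf'').1 c₁ k (hj (hc.trans (map_zero j).symm))
    rw [hc₁, hc₂, Finsupp.sumElim_zero_zero]
  · obtain ⟨k, hk⟩ := h''.2 (p x)
    obtain ⟨c₂, hc₂⟩ := (Finsupp.mem_span_range_iff_exists_finsupp).1 hk
    have hker : p (f'' ^ k • x - Finsupp.linearCombination R (σ ∘ m'') c₂) = 0 := by
      rw [map_sub, map_smul, hpσ, Finsupp.linearCombination_apply, hc₂, sub_self]
    obtain ⟨y, hy⟩ := (hex _).1 hker
    obtain ⟨l, hl⟩ := h'.2 y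
    refine ⟨k + l, ?_⟩
    have h3 : (f' * f'') ^ (k + l) • x = (f' ^ k * f'' ^ l) • (j (f' ^ l • y) +
        f' ^ l • Finsupp.linearCombination R (σ ∘ m'') c₂) := by
      rw [map_smul, hy, ← smul_add, sub_add_cancel, smul_smul, smul_smul]
      congr 1
      ring
    rw [h3]
    apply Submodule.smul_mem
    apply Submodule.add_mem
    · have : Submodule.map j (Submodule.span R (Set.range m')) ≤
          Submodule.span R (Set.range (Sum.elim (j ∘ m') (σ ∘ m''))) := by
        rw [Submodule.map_span, ← Set.range_comp]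
        apply Submodule.span_mono
        rintro _ ⟨i, rfl⟩
        exact ⟨Sum.inl i, rfl⟩
      exact this ⟨_, hl, rfl⟩
    · apply Submodule.smul_mem
      have : Submodule.span R (Set.range (σ ∘ m'')) ≤
          Submodule.span R (Set.range (Sum.elim (j ∘ m') (σ ∘ m''))) := by
        apply Submodule.span_mono
        rintro _ ⟨i, rfl⟩
        exact ⟨Sum.inr i, rfl⟩
      apply this
      rw [Finsupp.mem_span_range_iff_exists_finsupp]
      exact ⟨c₂, (Finsupp.linearCombination_apply R c₂).symm⟩

end GenBasis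

section ToFree

variable {R : Type u} [CommRing R] {M : Type v} [AddCommGroup M] [Module R M]

theorem IsGenBasis.linearIndependent_localized {f : R} {ι : Type w} {m : ι → M}
    (h : IsGenBasis f m) (Rf : Type*) [CommRing Rf] [Algebra R Rf]
    [IsLocalization (Submonoid.powers f) Rf] {Mf : Type*} [AddCommGroup Mf] [Module R Mf]
    [Module Rf Mf] [IsScalarTower R Rf Mf] (g : M →ₗ[R] Mf)
    [IsLocalizedModule (Submonoid.powers f) g] : LinearIndependent Rf (g ∘ m) := by
  classical
  rw [linearIndependent_iff]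
  intro c hc
  obtain ⟨⟨_, k, rfl⟩, hb⟩ := IsLocalization.exist_integer_multiples
    (Submonoid.powers f) c.support c
  choose! a ha using hb
  let c' : ι →₀ R := Finsupp.onFinset c.support (fun i => if i ∈ c.support then a i else 0)
    (fun i hi => by
      by_contra hcon
      exact hi (if_neg hcon))
  have hc' : ∀ i, algebraMap R Rf (c' i) = f ^ k • c i := by
    intro i
    by_cases hi : i ∈ c.support
    · simp only [c', Finsupp.onFinset_apply, if_pos hi]
      exact ha i hi
    · simp only [c', Finsupp.onFinset_apply, if_neg hi, map_zero]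
      rw [Finsupp.notMem_support_iff.1 hi, smul_zero]
  have h1 : g (Finsupp.linearCombination R m c') = 0 := by
    rw [Finsupp.linearCombination_apply, map_finsuppSum]
    have h2 : (c'.sum fun i r => g (r • m i)) = f ^ k • (c.sum fun i r => r • g (m i)) := by
      rw [Finsupp.sum, Finsupp.sum, Finset.smul_sum]
      have hsub : c'.support ⊆ c.support := Finsupp.support_onFinset_subset
      rw [Finset.sum_subset hsub]
      · apply Finset.sum_congr rfl
        intro i _
        rw [map_smul, ← algebraMap_smul Rf (c' i), hc', smul_assoc]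
      · intro i _ hi
        rw [Finsupp.notMem_support_iff.1 hi, zero_smul, map_zero]
    rw [h2]
    rw [Finsupp.linearCombination_apply] at hc
    have : (c.sum fun i r => r • g (m i)) = 0 := hc
    rw [this, smul_zero]
  obtain ⟨⟨_, l, rfl⟩, hl⟩ := (IsLocalizedModule.eq_zero_iff (Submonoid.powers f) g).1 h1
  have hc'0 : c' = 0 := h.1 c' l hl
  ext i
  have := hc' i
  rw [hc'0, Finsupp.zero_apply, map_zero] at this
  have hu : IsUnit (algebraMap R Rf (f ^ k)) :=
    IsLocalization.map_units Rf (⟨f ^ k, k, rfl⟩ : Submonoid.powers f)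
  rw [Algebra.smul_def] at this
  exact (hu.mul_right_eq_zero.1 this.symm)

theorem IsGenBasis.span_localized {f : R} {ι : Type w} {m : ι → M}
    (h : IsGenBasis f m) (Rf : Type*) [CommRing Rf] [Algebra R Rf]
    [IsLocalization (Submonoid.powers f) Rf] {Mf : Type*} [AddCommGroup Mf] [Module R Mf]
    [Module Rf Mf] [IsScalarTower R Rf Mf] (g : M →ₗ[R] Mf)
    [IsLocalizedModule (Submonoid.powers f) g] :
    ⊤ ≤ Submodule.span Rf (Set.range (g ∘ m)) := by
  rintro x -
  obtain ⟨⟨y, ⟨_, k, rfl⟩⟩, hy⟩ := IsLocalizedModule.surj (Submonoid.powers f) g x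
  obtain ⟨l, hl⟩ := h.2 y
  have hu : IsUnit (algebraMap R Rf (f ^ k)) :=
    IsLocalization.map_units Rf (⟨f ^ k, k, rfl⟩ : Submonoid.powers f)
  have hu' : IsUnit (algebraMap R Rf (f ^ l)) :=
    IsLocalization.map_units Rf (⟨f ^ l, l, rfl⟩ : Submonoid.powers f)
  have h1 : g (f ^ l • y) ∈ Submodule.span Rf (Set.range (g ∘ m)) := by
    have : g (f ^ l • y) ∈ Submodule.map g (Submodule.span R (Set.range m)) := ⟨_, hl, rfl⟩
    rw [Submodule.map_span, ← Set.range_comp] at this
    exact Submodule.span_subset_span R Rf _ this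
  have h2 : x = (hu.unit⁻¹ * hu'.unit⁻¹ : Rfˣ) • g (f ^ l • y) := by
    have hy' : algebraMap R Rf (f ^ k) • x = g y := by
      rw [algebraMap_smul]
      exact hy
    rw [map_smul, ← hy', Units.smul_def, Units.val_mul, mul_smul, ← algebraMap_smul Rf (f ^ l),
      smul_smul (↑hu'.unit⁻¹ : Rf), IsUnit.val_inv_mul, one_smul, smul_smul, IsUnit.val_inv_mul,
      one_smul]
  rw [h2]
  exact Submodule.smul_mem _ _ h1

theorem IsGenBasis.free_localized {f : R} {ι : Type w} {m : ι → M}
    (h : IsGenBasis f m) (Rf : Type*) [CommRing Rf] [Algebra R Rf]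
    [IsLocalization (Submonoid.powers f) Rf] {Mf : Type*} [AddCommGroup Mf] [Module R Mf]
    [Module Rf Mf] [IsScalarTower R Rf Mf] (g : M →ₗ[R] Mf)
    [IsLocalizedModule (Submonoid.powers f) g] : Module.Free Rf Mf :=
  Module.Free.of_basis (Module.Basis.mk (h.linearIndependent_localized Rf g) (h.span_localized Rf g))

end ToFree

end Groth.Agent.Lib.Helper18
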