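import Groth.Agent.Lib.Helper18.GenBasis
import Groth.Agent.S2073
import Groth.Agent.Lib.Helper14.DimAlg
import Mathlib.RingTheory.KrullDimension.NonZeroDivisors
import Mathlib.RingTheory.IntegralClosure.Algebra.Basic
import Mathlib.RingTheory.MvPolynomial.Basic

set_option autoImplicit false
set_option linter.style.haveILetI false
universe u

namespace Groth.Agent.Lib.Helper18

open TensorProduct

theorem nn_hom {R S₁ : Type u} [CommRing R] [IsDomain R] [CommRing S₁] [Algebra R S₁]
    [Algebra.FiniteType R S₁] (hinj : Function.Injective (algebraMap R S₁)) :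
    ∃ (d₁ : ℕ) (y : Fin d₁ → S₁), AlgebraicIndependent R y ∧ ∃ f : R, f ≠ 0 ∧ ∃ G : Finset S₁,
      ∀ s : S₁, ∃ (n : ℕ) (c : S₁ → MvPolynomial (Fin d₁) R),
        f ^ n • s = ∑ g ∈ G, MvPolynomial.aeval y (c g) * g := by
  classical
  obtain ⟨d₁, y, S', hAI, hyS', ⟨t, ht⟩, hint, f, hf, hfS'⟩ := Groth.Agent.S2073.nn_main hinj
  refine ⟨d₁, y, hAI, f, hf, ?_⟩
  set 𝒜 := Algebra.adjoin R (Set.range y) with h𝒜
  have hfg : (Algebra.adjoin 𝒜 (t : Set S₁)).toSubmodule.FG :=
    fg_adjoin_of_finite t.finite_toSet (fun x hx => hint x (ht ▸ Algebra.subset_adjoin hx))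
  obtain ⟨G, hG⟩ := hfg
  refine ⟨G, fun s => ?_⟩
  obtain ⟨n, hn⟩ := hfS' s
  have h1 : S' ≤ (Algebra.adjoin 𝒜 (t : Set S₁)).restrictScalars R := by
    rw [← ht]
    exact Algebra.adjoin_le (fun x hx => Algebra.subset_adjoin hx)
  have h2 : f ^ n • s ∈ Submodule.span 𝒜 (G : Set S₁) := by
    rw [hG]
    exact h1 hn
  obtain ⟨a, -, ha⟩ := Submodule.mem_span_finset.1 h2
  have h3 : ∀ g : S₁, ∃ p : MvPolynomial (Fin d₁) R, MvPolynomial.aeval y p = (a g : S₁) := by
    intro g
    have h4 : (a g : S₁) ∈ Algebra.adjoin R (Set.range y) := (a g).2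
    rw [Algebra.adjoin_range_eq_range_aeval] at h4
    exact h4
  choose c hc using h3
  refine ⟨n, c, ?_⟩
  rw [← ha]
  apply Finset.sum_congr rfl
  intro g _
  rw [hc, Subalgebra.smul_def, smul_eq_mul]

theorem genFree_of_bound {R : Type u} [CommRing R] [IsDomain R] (d : ℕ)
    (IH : ∀ d', d' < d → ∀ (N : Type u) [AddCommGroup N] [Module R N]
      [Module (MvPolynomial (Fin d') R) N] [IsScalarTower R (MvPolynomial (Fin d') R) N]
      [Module.Finite (MvPolynomial (Fin d') R) N], GenFree R N)
    (S₁ : Type u) [CommRing S₁] [Algebra R S₁] [Algebra.FiniteType R S₁]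
    (hbound : ∀ (d₁ : ℕ) (y : Fin d₁ → S₁), AlgebraicIndependent R y → d₁ < d)
    (M : Type u) [AddCommGroup M] [Module R M] [Module S₁ M] [IsScalarTower R S₁ M]
    [Module.Finite S₁ M] : GenFree R M := by
  classical
  by_cases hinj : Function.Injective (algebraMap R S₁)
  · obtain ⟨d₁, y, hAI, f, hf, G, hG⟩ := nn_hom hinj
    have hlt := hbound d₁ y hAI
    letI : Module (MvPolynomial (Fin d₁) R) M :=
      Module.compHom M (MvPolynomial.aeval y : MvPolynomial (Fin d₁) R →ₐ[R] S₁).toRingHom
    have smul_def : ∀ (p : MvPolynomial (Fin d₁) R) (x : M),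
        p • x = MvPolynomial.aeval y p • x := fun _ _ => rfl
    haveI : IsScalarTower R (MvPolynomial (Fin d₁) R) M := ⟨fun r p x => by
      rw [smul_def, smul_def, map_smul, smul_assoc]⟩
    obtain ⟨X, hX⟩ := (Module.Finite.fg_top : (⊤ : Submodule S₁ M).FG)
    let N' : Submodule (MvPolynomial (Fin d₁) R) M :=
      Submodule.span (MvPolynomial (Fin d₁) R) (Set.image2 (fun (g : S₁) (x : M) => g • x) G X)
    haveI : Module.Finite (MvPolynomial (Fin d₁) R) N' :=
      Module.Finite.span_of_finite _ (Set.Finite.image2 _ G.finite_toSet X.finite_toSet)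
    obtain ⟨f', hf', ι, m, hm⟩ := IH d₁ hlt N'
    have hsingle : ∀ (a : S₁) (x : M), x ∈ X → ∃ n, f ^ n • (a • x) ∈ N' := by
      intro a x hx
      obtain ⟨n, c, hc⟩ := hG a
      refine ⟨n, ?_⟩
      rw [← smul_assoc, hc, Finset.sum_smul]
      apply Submodule.sum_mem
      intro g hg
      rw [mul_smul, ← smul_def]
      exact Submodule.smul_mem _ _ (Submodule.subset_span ⟨g, hg, x, hx, rfl⟩)
    have hsum : ∀ (X' : Finset M) (a : M → S₁), X' ⊆ X →
        ∃ k, f ^ k • (∑ x ∈ X', a x • x) ∈ N' := by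
      intro X' a
      induction X' using Finset.induction_on with
      | empty =>
        intro _
        exact ⟨0, by simp⟩
      | insert x₀ X'' hx₀ ih =>
        intro hsub
        obtain ⟨k₁, hk₁⟩ := ih (fun z hz => hsub (Finset.mem_insert_of_mem hz))
        obtain ⟨n, hn⟩ := hsingle (a x₀) x₀ (hsub (Finset.mem_insert_self _ _))
        refine ⟨n + k₁, ?_⟩
        rw [Finset.sum_insert hx₀, smul_add]
        apply Submodule.add_mem
        · rw [pow_add, mul_comm, mul_smul]
          exact N'.smul_of_tower_mem _ hn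
        · rw [pow_add, mul_smul]
          exact N'.smul_of_tower_mem _ hk₁
    have hcot : ∀ x : M, ∃ k : ℕ,
        f ^ k • x ∈ LinearMap.range (N'.subtype.restrictScalars R) := by
      intro x
      have hx : x ∈ Submodule.span S₁ (X : Set M) := by rw [hX]; trivial
      obtain ⟨a, -, ha⟩ := Submodule.mem_span_finset.1 hx
      obtain ⟨k, hk⟩ := hsum X a (Finset.Subset.refl _)
      rw [ha] at hk
      exact ⟨k, ⟨⟨_, hk⟩, rfl⟩⟩
    exact ⟨f' * f, mul_ne_zero hf' hf, ι, _, hm.of_injective_of_cotorsion hf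
      (N'.subtype.restrictScalars R) Subtype.val_injective hcot⟩
  · rw [injective_iff_map_eq_zero] at hinj
    push Not at hinj
    obtain ⟨c, hc0, hc⟩ := hinj
    refine ⟨c, hc, PEmpty.{u + 1}, _, isGenBasis_of_torsion (fun x => ?_)⟩
    rw [← algebraMap_smul S₁, hc0, zero_smul]

theorem algebraicIndependent_tmul {R : Type u} [CommRing R] [IsDomain R] {S₁ : Type u}
    [CommRing S₁] [Algebra R S₁] {d₁ : ℕ} (y : Fin d₁ → S₁) (hy : AlgebraicIndependent R y) :
    AlgebraicIndependent (FractionRing R)
      (fun i => ((1 : FractionRing R) ⊗ₜ[R] y i : FractionRing R ⊗[R] S₁)) := by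
  rw [algebraicIndependent_iff_injective_aeval]
  rw [algebraicIndependent_iff_injective_aeval] at hy
  set φ : MvPolynomial (Fin d₁) (FractionRing R) →ₐ[FractionRing R] FractionRing R ⊗[R] S₁ :=
    (Algebra.TensorProduct.map (AlgHom.id (FractionRing R) (FractionRing R))
      (MvPolynomial.aeval y : MvPolynomial (Fin d₁) R →ₐ[R] S₁)).comp
      (MvPolynomial.algebraTensorAlgEquiv R (FractionRing R)).symm.toAlgHom with hφ
  have h1 : MvPolynomial.aeval (fun i => ((1 : FractionRing R) ⊗ₜ[R] y i :
      FractionRing R ⊗[R] S₁)) = φ := by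
    apply MvPolynomial.algHom_ext
    intro i
    rw [MvPolynomial.aeval_X, hφ, AlgHom.comp_apply]
    simp [MvPolynomial.algebraTensorAlgEquiv_symm_X]
  rw [h1, hφ, AlgHom.coe_comp]
  refine Function.Injective.comp ?_ (AlgEquiv.injective _)
  have := Module.Flat.lTensor_preserves_injective_linearMap (M := FractionRing R)
    (MvPolynomial.aeval y : MvPolynomial (Fin d₁) R →ₐ[R] S₁).toLinearMap hy
  exact this

theorem bound_of_quotient {R : Type u} [CommRing R] [IsDomain R] (d : ℕ)
    (I : Ideal (MvPolynomial (Fin d) R)) (h : MvPolynomial (Fin d) R) (hh : h ≠ 0) (hI : h ∈ I)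
    (d₁ : ℕ) (y : Fin d₁ → MvPolynomial (Fin d) R ⧸ I) (hy : AlgebraicIndependent R y) :
    d₁ < d := by
  haveI : Algebra.FiniteType R (MvPolynomial (Fin d) R ⧸ I) :=
    Algebra.FiniteType.of_surjective (Ideal.Quotient.mkₐ R I) (Ideal.Quotient.mkₐ_surjective R I)
  have h1 := Groth.Agent.Lib.Helper14.natCast_le_ringKrullDim_of_algebraicIndependent
    (FractionRing R) (FractionRing R ⊗[R] (MvPolynomial (Fin d) R ⧸ I)) _
    (algebraicIndependent_tmul y hy)
  set ψ : MvPolynomial (Fin d) (FractionRing R) →ₐ[FractionRing R]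
      FractionRing R ⊗[R] (MvPolynomial (Fin d) R ⧸ I) :=
    (Algebra.TensorProduct.map (AlgHom.id (FractionRing R) (FractionRing R))
      (Ideal.Quotient.mkₐ R I)).comp
      (MvPolynomial.algebraTensorAlgEquiv R (FractionRing R)).symm.toAlgHom with hψ
  have hψs : Function.Surjective ψ := by
    rw [hψ, AlgHom.coe_comp]
    refine Function.Surjective.comp ?_ (AlgEquiv.surjective _)
    exact Algebra.TensorProduct.map_surjective (f := AlgHom.id (FractionRing R) (FractionRing R))
      (g := Ideal.Quotient.mkₐ R I) Function.surjective_id (Ideal.Quotient.mkₐ_surjective R I)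
  set h' := MvPolynomial.map (algebraMap R (FractionRing R)) h with hh'
  have hh'0 : h' ≠ 0 := by
    intro h0
    apply hh
    apply MvPolynomial.map_injective _ (IsFractionRing.injective R (FractionRing R))
    rw [← hh', h0, map_zero]
  have hψh : ψ h' = 0 := by
    rw [hψ, AlgHom.comp_apply]
    show (Algebra.TensorProduct.map _ _) ((MvPolynomial.algebraTensorAlgEquiv R (FractionRing R)).symm h') = 0
    rw [hh', MvPolynomial.algebraTensorAlgEquiv_symm_map, Algebra.TensorProduct.map_tmul]
    have : (Ideal.Quotient.mkₐ R I) h = 0 := Ideal.Quotient.eq_zero_iff_mem.2 hI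
    rw [this, TensorProduct.tmul_zero]
  have hle : Ideal.span {h'} ≤ RingHom.ker ψ.toRingHom := by
    rw [Ideal.span_le]
    rintro _ rfl
    exact hψh
  have h2 : ringKrullDim (FractionRing R ⊗[R] (MvPolynomial (Fin d) R ⧸ I)) ≤
      ringKrullDim (MvPolynomial (Fin d) (FractionRing R) ⧸ Ideal.span {h'}) :=
    ringKrullDim_le_of_surjective (Ideal.Quotient.lift (Ideal.span {h'}) ψ.toRingHom
      (fun a ha => hle ha)) (Ideal.Quotient.lift_surjective_of_surjective _ _ hψs)
  have h3 := ringKrullDim_quotient_succ_le_of_nonZeroDivisor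
    (mem_nonZeroDivisors_of_ne_zero hh'0)
  rw [Groth.Agent.S10843.dim_mvPoly] at h3
  have h4 : ((d₁ : ℕ) : WithBot ℕ∞) + 1 ≤ (d : WithBot ℕ∞) :=
    le_trans (add_le_add_left (le_trans h1 h2) 1) h3
  have h5 : ((d₁ + 1 : ℕ) : WithBot ℕ∞) ≤ (d : WithBot ℕ∞) := by
    push_cast
    exact h4
  have h6 : d₁ + 1 ≤ d := by exact_mod_cast h5
  omega

section Main

variable {R : Type u} [CommRing R] [IsDomain R]

theorem genFree_torsion (d : ℕ)
    (IH : ∀ d', d' < d → ∀ (N : Type u) [AddCommGroup N] [Module R N]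
      [Module (MvPolynomial (Fin d') R) N] [IsScalarTower R (MvPolynomial (Fin d') R) N]
      [Module.Finite (MvPolynomial (Fin d') R) N], GenFree R N)
    (M : Type u) [AddCommGroup M] [Module R M] [Module (MvPolynomial (Fin d) R) M]
    [IsScalarTower R (MvPolynomial (Fin d) R) M] [Module.Finite (MvPolynomial (Fin d) R) M]
    (h : MvPolynomial (Fin d) R) (hh : h ≠ 0) (hM : ∀ x : M, h • x = 0) : GenFree R M := by
  have hT : Module.IsTorsionBy (MvPolynomial (Fin d) R) M h := fun x => hM x
  have hT' : Module.IsTorsionBySet (MvPolynomial (Fin d) R) M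
      (Ideal.span {h} : Ideal (MvPolynomial (Fin d) R)) :=
    (Module.isTorsionBySet_span_singleton_iff h).2 hT
  letI : Module (MvPolynomial (Fin d) R ⧸ Ideal.span {h}) M := hT'.module
  haveI : IsScalarTower (MvPolynomial (Fin d) R) (MvPolynomial (Fin d) R ⧸ Ideal.span {h}) M :=
    hT'.isScalarTower
  haveI : IsScalarTower R (MvPolynomial (Fin d) R ⧸ Ideal.span {h}) M := hT'.isScalarTower
  haveI : Module.Finite (MvPolynomial (Fin d) R ⧸ Ideal.span {h}) M :=
    Module.Finite.of_restrictScalars_finite (MvPolynomial (Fin d) R) _ M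
  haveI : Algebra.FiniteType R (MvPolynomial (Fin d) R ⧸ Ideal.span {h}) :=
    Algebra.FiniteType.of_surjective (Ideal.Quotient.mkₐ R _) (Ideal.Quotient.mkₐ_surjective R _)
  exact genFree_of_bound d IH (MvPolynomial (Fin d) R ⧸ Ideal.span {h})
    (bound_of_quotient d _ h hh (Ideal.subset_span rfl)) M

theorem genFree_cyclic (d : ℕ)
    (IH : ∀ d', d' < d → ∀ (N : Type u) [AddCommGroup N] [Module R N]
      [Module (MvPolynomial (Fin d') R) N] [IsScalarTower R (MvPolynomial (Fin d') R) N]
      [Module.Finite (MvPolynomial (Fin d') R) N], GenFree R N)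
    (M : Type u) [AddCommGroup M] [Module R M] [Module (MvPolynomial (Fin d) R) M]
    [IsScalarTower R (MvPolynomial (Fin d) R) M] (g : M)
    (hg : Submodule.span (MvPolynomial (Fin d) R) {g} = ⊤) : GenFree R M := by
  haveI : Module.Finite (MvPolynomial (Fin d) R) M := ⟨⟨{g}, by simpa using hg⟩⟩
  by_cases hker : ∀ p : MvPolynomial (Fin d) R, p • g = 0 → p = 0
  · have hinj : Function.Injective
        (LinearMap.toSpanSingleton (MvPolynomial (Fin d) R) M g) := by
      rw [← LinearMap.ker_eq_bot, LinearMap.ker_eq_bot']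
      intro p hp
      exact hker p hp
    have hsurj : Function.Surjective
        (LinearMap.toSpanSingleton (MvPolynomial (Fin d) R) M g) := by
      rw [← LinearMap.range_eq_top, LinearMap.range_toSpanSingleton]
      exact hg
    let e : MvPolynomial (Fin d) R ≃ₗ[R] M :=
      (LinearEquiv.ofBijective (LinearMap.toSpanSingleton (MvPolynomial (Fin d) R) M g)
        ⟨hinj, hsurj⟩).restrictScalars R
    let b : Module.Basis (ULift.{u} (Fin d →₀ ℕ)) R M :=
      ((MvPolynomial.basisMonomials (Fin d) R).map e).reindex Equiv.ulift.symm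
    exact ⟨1, one_ne_zero, _, _, isGenBasis_of_basis b⟩
  · push Not at hker
    obtain ⟨h, hhg, hh⟩ := hker
    refine genFree_torsion d IH M h hh (fun x => ?_)
    have hx : x ∈ Submodule.span (MvPolynomial (Fin d) R) {g} := by rw [hg]; trivial
    obtain ⟨p, rfl⟩ := Submodule.mem_span_singleton.1 hx
    rw [smul_comm, hhg, smul_zero]

theorem genFree_of_fin (d : ℕ)
    (IH : ∀ d', d' < d → ∀ (N : Type u) [AddCommGroup N] [Module R N]
      [Module (MvPolynomial (Fin d') R) N] [IsScalarTower R (MvPolynomial (Fin d') R) N]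
      [Module.Finite (MvPolynomial (Fin d') R) N], GenFree R N) :
    ∀ (n : ℕ) (M : Type u) [AddCommGroup M] [Module R M] [Module (MvPolynomial (Fin d) R) M]
    [IsScalarTower R (MvPolynomial (Fin d) R) M] (g : Fin n → M)
    (_ : Submodule.span (MvPolynomial (Fin d) R) (Set.range g) = ⊤), GenFree R M := by
  intro n
  induction n with
  | zero =>
    intro M _ _ _ _ g hg
    refine ⟨1, one_ne_zero, PEmpty.{u + 1}, _, isGenBasis_of_torsion (fun x => ?_)⟩
    have hx : x ∈ Submodule.span (MvPolynomial (Fin d) R) (Set.range g) := by rw [hg]; trivial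
    rw [Set.range_eq_empty, Submodule.span_empty, Submodule.mem_bot] at hx
    rw [hx, smul_zero]
  | succ n ih =>
    intro M _ _ _ _ g hg
    let M₁ : Submodule (MvPolynomial (Fin d) R) M := Submodule.span _ {g 0}
    have h1 : GenFree R M₁ := by
      refine genFree_cyclic d IH M₁ ⟨g 0, Submodule.subset_span rfl⟩ ?_
      rw [eq_top_iff]
      rintro ⟨x, hx⟩ -
      obtain ⟨p, rfl⟩ := Submodule.mem_span_singleton.1 hx
      exact Submodule.mem_span_singleton.2 ⟨p, rfl⟩
    have h2 : GenFree R (M ⧸ M₁) := by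
      refine ih (M ⧸ M₁) (fun i => M₁.mkQ (g i.succ)) ?_
      rw [eq_top_iff]
      rintro x -
      obtain ⟨x, rfl⟩ := M₁.mkQ_surjective x
      have hx : x ∈ Submodule.span (MvPolynomial (Fin d) R) (Set.range g) := by rw [hg]; trivial
      induction hx using Submodule.span_induction with
      | mem z hz =>
        obtain ⟨i, rfl⟩ := hz
        refine Fin.cases ?_ (fun i => ?_) i
        · have : M₁.mkQ (g 0) = 0 := (Submodule.Quotient.mk_eq_zero _).2 (Submodule.subset_span rfl)
          rw [this]
          exact Submodule.zero_mem _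
        · exact Submodule.subset_span ⟨i, rfl⟩
      | zero => rw [map_zero]; exact Submodule.zero_mem _
      | add a b _ _ ha hb => rw [map_add]; exact Submodule.add_mem _ ha hb
      | smul p a _ ha => rw [map_smul]; exact Submodule.smul_mem _ _ ha
    obtain ⟨f', hf', ι', m', hm'⟩ := h1
    obtain ⟨f'', hf'', ι'', m'', hm''⟩ := h2
    have hex : Function.Exact (M₁.subtype.restrictScalars R) (M₁.mkQ.restrictScalars R) := by
      intro x
      constructor
      · intro hx
        exact ⟨⟨x, (Submodule.Quotient.mk_eq_zero _).1 hx⟩, rfl⟩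
      · rintro ⟨y, rfl⟩
        exact (Submodule.Quotient.mk_eq_zero _).2 y.2
    exact ⟨f' * f'', mul_ne_zero hf' hf'', _, _, IsGenBasis.extension
      (M₁.subtype.restrictScalars R) (M₁.mkQ.restrictScalars R) Subtype.val_injective
      M₁.mkQ_surjective hex hf' hf'' hm' hm''⟩

theorem genFree_mvPolynomial : ∀ (d : ℕ) (M : Type u) [AddCommGroup M] [Module R M]
    [Module (MvPolynomial (Fin d) R) M] [IsScalarTower R (MvPolynomial (Fin d) R) M]
    [Module.Finite (MvPolynomial (Fin d) R) M], GenFree R M := by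
  intro d
  induction d using Nat.strong_induction_on with
  | _ d IH =>
    intro M _ _ _ _ _
    obtain ⟨n, g, hg⟩ := Module.Finite.exists_fin (R := MvPolynomial (Fin d) R) (M := M)
    exact genFree_of_fin d (fun d' hd' N _ _ _ _ _ => IH d' hd' N) n M g hg

end Main

section General

variable {R : Type u} [CommRing R] [IsDomain R]

theorem genFree_finiteType (S : Type u) [CommRing S] [Algebra R S] [Algebra.FiniteType R S]
    (M : Type u) [AddCommGroup M] [Module R M] [Module S M] [IsScalarTower R S M]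
    [Module.Finite S M] : GenFree R M := by
  obtain ⟨n, φ, hφ⟩ := Algebra.FiniteType.iff_quotient_mvPolynomial''.1
    (inferInstance : Algebra.FiniteType R S)
  letI : Algebra (MvPolynomial (Fin n) R) S := φ.toRingHom.toAlgebra
  letI : Module (MvPolynomial (Fin n) R) M := Module.compHom M φ.toRingHom
  haveI : IsScalarTower (MvPolynomial (Fin n) R) S M := ⟨fun p s x => by
    show (φ p * s) • x = φ p • (s • x)
    rw [mul_smul]⟩
  haveI : IsScalarTower R (MvPolynomial (Fin n) R) M := ⟨fun r p x => by
    show φ (r • p) • x = r • (φ p • x)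
    rw [map_smul, smul_assoc]⟩
  haveI : Module.Finite (MvPolynomial (Fin n) R) S :=
    Module.Finite.of_surjective (Algebra.linearMap (MvPolynomial (Fin n) R) S) hφ
  haveI : Module.Finite (MvPolynomial (Fin n) R) M := Module.Finite.trans S M
  exact genFree_mvPolynomial n M

theorem exists_free_localizedModule (S : Type u) [CommRing S] [Algebra R S]
    [Algebra.FiniteType R S] (M : Type u) [AddCommGroup M] [Module R M] [Module S M]
    [IsScalarTower R S M] [Module.Finite S M] :
    ∃ f : R, f ≠ 0 ∧ Module.Free (Localization.Away f) (LocalizedModule (Submonoid.powers f) M) := by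
  obtain ⟨f, hf, ι, m, hm⟩ := genFree_finiteType (R := R) S M
  exact ⟨f, hf, hm.free_localized (Localization.Away f)
    (LocalizedModule.mkLinearMap (Submonoid.powers f) M)⟩

theorem exists_free_tensor (S : Type u) [CommRing S] [Algebra R S]
    [Algebra.FiniteType R S] (M : Type u) [AddCommGroup M] [Module R M] [Module S M]
    [IsScalarTower R S M] [Module.Finite S M] :
    ∃ f : R, f ≠ 0 ∧ Module.Free (Localization.Away f) (Localization.Away f ⊗[R] M) := by
  obtain ⟨f, hf, ι, m, hm⟩ := genFree_finiteType (R := R) S M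
  haveI : IsLocalizedModule (Submonoid.powers f)
      (TensorProduct.mk R (Localization.Away f) M 1) :=
    (isLocalizedModule_iff_isBaseChange (Submonoid.powers f) (Localization.Away f) _).2
      (TensorProduct.isBaseChange R M (Localization.Away f))
  exact ⟨f, hf, hm.free_localized (Localization.Away f)
    (TensorProduct.mk R (Localization.Away f) M 1)⟩

end General

end Groth.Agent.Lib.Helper18
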