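import Groth.Agent.Lib.Helper18.GenFlat
import Groth.Agent.Lib.Helper18.GenericFreeness
import Mathlib.RingTheory.Noetherian.Basic
import Mathlib.RingTheory.Noetherian.Orzech
import Mathlib.RingTheory.FiniteType
import Mathlib.RingTheory.Polynomial.Basic
import Mathlib.LinearAlgebra.Isomorphisms

set_option autoImplicit false
universe u

namespace Groth.Agent.Lib.Helper18

open TensorProduct

section Step

variable {R : Type u} [CommRing R]
  {C : Type u} [CommRing C] [Algebra R C]
  {N : Type u} [AddCommGroup N] [Module C N] [Module R N] [IsScalarTower R C N]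

def Mseq (θ : N →ₗ[C] N) (N' : Submodule C N) : ℕ → Submodule C N
  | 0 => N'
  | j + 1 => Mseq θ N' j ⊔ N'.map (θ ^ (j + 1))

theorem Mseq_zero (θ : N →ₗ[C] N) (N' : Submodule C N) : Mseq θ N' 0 = N' := rfl

theorem Mseq_succ (θ : N →ₗ[C] N) (N' : Submodule C N) (j : ℕ) :
    Mseq θ N' (j + 1) = Mseq θ N' j ⊔ N'.map (θ ^ (j + 1)) := rfl

theorem Mseq_mono (θ : N →ₗ[C] N) (N' : Submodule C N) : Monotone (Mseq θ N') :=
  monotone_nat_of_le_succ (fun _ => le_sup_left)

theorem le_Mseq (θ : N →ₗ[C] N) (N' : Submodule C N) (j : ℕ) : N' ≤ Mseq θ N' j :=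
  Mseq_mono θ N' (Nat.zero_le j)

theorem map_Mseq_le (θ : N →ₗ[C] N) (N' : Submodule C N) (j : ℕ) :
    (Mseq θ N' j).map θ ≤ Mseq θ N' (j + 1) := by
  induction j with
  | zero =>
    rw [Mseq_succ, Mseq_zero, pow_one]
    exact le_sup_right
  | succ j ih =>
    rw [Mseq_succ θ N' (j + 1), Mseq_succ θ N' j, Submodule.map_sup]
    apply sup_le_sup
    · rw [← Mseq_succ]
      exact ih
    · rw [← Submodule.map_comp, pow_succ' θ (j + 1), Module.End.mul_eq_comp]

def Kseq (θ : N →ₗ[C] N) (N' : Submodule C N) (j : ℕ) : Submodule C N' :=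
  ((Mseq θ N' j).comap (θ ^ (j + 1))).comap N'.subtype

theorem mem_Kseq (θ : N →ₗ[C] N) (N' : Submodule C N) (j : ℕ) (x : N') :
    x ∈ Kseq θ N' j ↔ (θ ^ (j + 1)) (x : N) ∈ Mseq θ N' j := Iff.rfl

theorem Kseq_mono (θ : N →ₗ[C] N) (N' : Submodule C N) : Monotone (Kseq θ N') := by
  apply monotone_nat_of_le_succ
  intro j x hx
  rw [mem_Kseq] at hx ⊢
  rw [pow_succ' θ (j + 1), Module.End.mul_apply]
  exact map_Mseq_le θ N' j ⟨_, hx, rfl⟩

variable [IsDomain R] [IsNoetherianRing R] [Algebra.FiniteType R C]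

theorem gflat_step (θ : N →ₗ[C] N) (N' : Submodule C N) (hN' : N'.FG)
    {D : Type u} [AddCommGroup D] [Module R D] (q : N →ₗ[R] D) (hq : ∀ x, q x = 0 ↔ x ∈ N') :
    ∃ f : R, f ≠ 0 ∧
      GFlat f (⨆ j, ((Mseq θ N' j).restrictScalars R).map q : Submodule R D) := by
  classical
  haveI : IsNoetherianRing C := Algebra.FiniteType.isNoetherianRing R C
  haveI : Module.Finite C N' := Module.Finite.iff_fg.2 hN'
  haveI : IsNoetherian C N' := isNoetherian_of_isNoetherianRing_of_finite C N'
  obtain ⟨n₀, hn₀⟩ := monotone_stabilizes_iff_noetherian.2 (inferInstance : IsNoetherian C N')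
    ⟨Kseq θ N', Kseq_mono θ N'⟩
  have hgf : ∀ j, ∃ f : R, f ≠ 0 ∧ GFlat f (N' ⧸ Kseq θ N' j) := fun j => by
    obtain ⟨f, hf, ι, m, hm⟩ := genFree_finiteType (R := R) C (N' ⧸ Kseq θ N' j)
    exact ⟨f, hf, GFlat.of_isGenBasis hm⟩
  choose fj hfj hGj using hgf
  have hf : (∏ j ∈ Finset.range (n₀ + 1), fj j) ≠ 0 :=
    Finset.prod_ne_zero_iff.2 (fun j _ => hfj j)
  have hG : ∀ j, GFlat (∏ j ∈ Finset.range (n₀ + 1), fj j) (N' ⧸ Kseq θ N' j) := by
    intro j
    by_cases hj : j ≤ n₀
    · exact (hGj j).of_dvd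
        (Finset.dvd_prod_of_mem fj (Finset.mem_range.2 (Nat.lt_succ_of_le hj)))
    · have h1 : Kseq θ N' n₀ = Kseq θ N' j := hn₀ j (le_of_not_ge hj)
      rw [← h1]
      exact (hGj n₀).of_dvd (Finset.dvd_prod_of_mem fj (Finset.self_mem_range_succ n₀))
  refine ⟨_, hf, ?_⟩
  set f := ∏ j ∈ Finset.range (n₀ + 1), fj j with hfdef
  have hEmono : Monotone (fun j => ((Mseq θ N' j).restrictScalars R).map q) :=
    fun a b hab => Submodule.map_mono (fun x hx => Mseq_mono θ N' hab hx)
  apply GFlat.iSup_of_monotone _ hEmono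
  intro j
  induction j with
  | zero =>
    have h0 : ((Mseq θ N' 0).restrictScalars R).map q = ⊥ := by
      rw [eq_bot_iff]
      rintro _ ⟨x, hx, rfl⟩
      exact (hq x).2 hx
    show GFlat f (((Mseq θ N' 0).restrictScalars R).map q : Submodule R D)
    rw [h0]
    exact GFlat.of_subsingleton f
  | succ j ih =>
    have hmem : ∀ x : N', q ((θ ^ (j + 1)) (x : N)) ∈
        ((Mseq θ N' (j + 1)).restrictScalars R).map q := by
      intro x
      refine ⟨_, ?_, rfl⟩
      show (θ ^ (j + 1)) (x : N) ∈ Mseq θ N' (j + 1)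
      rw [Mseq_succ]
      exact Submodule.mem_sup_right ⟨x, x.2, rfl⟩
    let ψ₀ : N' →ₗ[R] (((Mseq θ N' (j + 1)).restrictScalars R).map q : Submodule R D) :=
      LinearMap.codRestrict _
        (q ∘ₗ ((θ ^ (j + 1)).restrictScalars R) ∘ₗ (N'.subtype.restrictScalars R)) hmem
    let ψ := ((((Mseq θ N' j).restrictScalars R).map q).comap
      (((Mseq θ N' (j + 1)).restrictScalars R).map q).subtype).mkQ ∘ₗ ψ₀
    have hψsurj : Function.Surjective ψ := by
      intro y
      obtain ⟨⟨y, hy⟩, rfl⟩ := Submodule.mkQ_surjective _ y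
      obtain ⟨m, hm, rfl⟩ := hy
      have hm' : m ∈ Mseq θ N' j ⊔ N'.map (θ ^ (j + 1)) := hm
      obtain ⟨a, ha, b, ⟨x, hx, rfl⟩, rfl⟩ := Submodule.mem_sup.1 hm'
      refine ⟨⟨x, hx⟩, ?_⟩
      show Submodule.mkQ _ (ψ₀ ⟨x, hx⟩) = Submodule.mkQ _ _
      rw [Submodule.mkQ_apply, Submodule.mkQ_apply, Submodule.Quotient.eq,
        Submodule.mem_comap]
      refine ⟨-a, ?_, ?_⟩
      · exact Submodule.neg_mem _ ha
      · simp [ψ₀]
    have hψker : LinearMap.ker ψ = (Kseq θ N' j).restrictScalars R := by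
      ext x
      rw [LinearMap.mem_ker, Submodule.restrictScalars_mem, mem_Kseq]
      show Submodule.mkQ _ (ψ₀ x) = 0 ↔ _
      rw [Submodule.mkQ_apply, Submodule.Quotient.mk_eq_zero, Submodule.mem_comap]
      constructor
      · rintro ⟨a, ha, hqa⟩
        have h1 : q (a - (θ ^ (j + 1)) (x : N)) = 0 := by
          rw [map_sub, hqa]
          simp [ψ₀]
        have h2 := le_Mseq θ N' j ((hq _).1 h1)
        have h3 : (θ ^ (j + 1)) (x : N) = a - (a - (θ ^ (j + 1)) (x : N)) := by abel
        rw [h3]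
        exact Submodule.sub_mem _ ha h2
      · intro hx
        exact ⟨_, hx, rfl⟩
    have hQ : GFlat f (((((Mseq θ N' (j + 1)).restrictScalars R).map q : Submodule R D)) ⧸
        ((((Mseq θ N' j).restrictScalars R).map q).comap
          (((Mseq θ N' (j + 1)).restrictScalars R).map q).subtype)) :=
      (hG j).of_equiv
        (((Submodule.Quotient.restrictScalarsEquiv R (Kseq θ N' j)).symm.trans
          (Submodule.quotEquivOfEq _ _ hψker.symm)).trans (ψ.quotKerEquivOfSurjective hψsurj))
    refine GFlat.of_exact (Submodule.inclusion (hEmono (Nat.le_succ j)))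
      ((((Mseq θ N' j).restrictScalars R).map q).comap
          (((Mseq θ N' (j + 1)).restrictScalars R).map q).subtype).mkQ
      (Submodule.inclusion_injective _) ?_ (Submodule.mkQ_surjective _) ih hQ
    intro y
    rw [Submodule.mkQ_apply, Submodule.Quotient.mk_eq_zero, Submodule.mem_comap]
    constructor
    · intro hy
      exact ⟨⟨y.1, hy⟩, rfl⟩
    · rintro ⟨z, rfl⟩
      exact z.2

end Step

section Tower

variable {R : Type u} [CommRing R] [IsDomain R] [IsNoetherianRing R]

theorem gflat_tower : ∀ (h : ℕ) (A B : Type u) [CommRing A] [CommRing B] [Algebra R A]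
    [Algebra R B] [Algebra A B] [IsScalarTower R A B] [Algebra.FiniteType R A] (s : Finset B)
    (_ : Algebra.adjoin A (s : Set B) = ⊤) (_ : s.card = h)
    (N : Type u) [AddCommGroup N] [Module B N] [Module A N] [Module R N] [IsScalarTower A B N]
    [IsScalarTower R A N] [IsScalarTower R B N] [Module.Finite B N] (N' : Submodule A N)
    (_ : N'.FG), ∃ f : R, f ≠ 0 ∧ GFlat f (N ⧸ N'.restrictScalars R) := by
  intro h
  induction h with
  | zero =>
    intro A B _ _ _ _ _ _ _ s hs hcard N _ _ _ _ _ _ _ _ N' hN'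
    have hs0 : s = ∅ := Finset.card_eq_zero.1 hcard
    rw [hs0, Finset.coe_empty, Algebra.adjoin_empty] at hs
    have hsurj : Function.Surjective (algebraMap A B) :=
      Algebra.surjective_algebraMap_iff.2 hs.symm
    haveI : Module.Finite A B := Module.Finite.of_surjective (Algebra.linearMap A B) hsurj
    haveI : Module.Finite A N := Module.Finite.trans B N
    obtain ⟨f, hf, ι, m, hm⟩ := genFree_finiteType (R := R) A (N ⧸ N')
    exact ⟨f, hf, (GFlat.of_isGenBasis hm).of_equiv
      (Submodule.Quotient.restrictScalarsEquiv R N').symm⟩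
  | succ h ih =>
    intro A B _ _ _ _ _ _ _ s hs hcard N _ _ _ _ _ _ _ _ N' hN'
    classical
    obtain ⟨θ, hθ⟩ : s.Nonempty := Finset.card_pos.1 (by rw [hcard]; exact Nat.succ_pos h)
    let A' : Subalgebra A B := Algebra.adjoin A ({θ} : Set B)
    haveI : Algebra.FiniteType A A' :=
      (Subalgebra.fg_iff_finiteType A').1 ⟨{θ}, by simp [A']⟩
    haveI : Algebra.FiniteType R A' :=
      Algebra.FiniteType.trans (inferInstance : Algebra.FiniteType R A) inferInstance
    have hs' : Algebra.adjoin A' ((s.erase θ : Finset B) : Set B) = ⊤ := by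
      apply Subalgebra.restrictScalars_injective A
      rw [Subalgebra.restrictScalars_top, ← Algebra.adjoin_union_eq_adjoin_adjoin, ← hs]
      congr 1
      rw [Finset.coe_erase, Set.union_diff_self, Set.union_eq_right.2]
      rw [Set.singleton_subset_iff]
      exact hθ
    have hcard' : (s.erase θ).card = h := by
      rw [Finset.card_erase_of_mem hθ, hcard]
      rfl
    let N'' : Submodule A' N := Submodule.span A' (N' : Set N)
    have hN'' : N''.FG := by
      obtain ⟨t, ht⟩ := hN'
      refine ⟨t, ?_⟩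
      show Submodule.span A' (t : Set N) = Submodule.span A' (N' : Set N)
      rw [← ht, Submodule.span_span_of_tower]
    obtain ⟨f₁, hf₁, hG₁⟩ := ih A' B (s.erase θ) hs' hcard' N N'' hN''
    let Θ : N →ₗ[A] N :=
      { toFun := fun x => θ • x
        map_add' := smul_add θ
        map_smul' := fun a x => smul_comm θ a x }
    have hΘpow : ∀ (k : ℕ) (x : N), (Θ ^ k) x = θ ^ k • x := by
      intro k
      induction k with
      | zero => intro x; simp
      | succ k ihk =>
        intro x
        rw [pow_succ' Θ k, Module.End.mul_apply, ihk, pow_succ' θ k, mul_smul]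
        rfl
    obtain ⟨f₂, hf₂, hG₂⟩ := gflat_step (R := R) Θ N' hN' (N'.restrictScalars R).mkQ
      (fun x => by rw [Submodule.mkQ_apply, Submodule.Quotient.mk_eq_zero]; rfl)
    have hθmem : θ ∈ A' := Algebra.subset_adjoin rfl
    have hsub : ∀ j, ∀ x ∈ Mseq Θ N' j, x ∈ N'' := by
      intro j
      induction j with
      | zero => exact fun x hx => Submodule.subset_span hx
      | succ j ihj =>
        intro x hx
        rw [Mseq_succ] at hx
        obtain ⟨a, ha, b, ⟨y, hy, rfl⟩, rfl⟩ := Submodule.mem_sup.1 hx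
        refine N''.add_mem (ihj a ha) ?_
        rw [hΘpow]
        exact N''.smul_mem (⟨θ ^ (j + 1), pow_mem hθmem _⟩ : A') (Submodule.subset_span hy)
    have hsmul : ∀ (a : B) (_ : a ∈ A') (j : ℕ) (x : N), x ∈ Mseq Θ N' j →
        ∃ j', a • x ∈ Mseq Θ N' j' := by
      intro a ha
      induction ha using Algebra.adjoin_induction with
      | mem a ha =>
        intro j x hx
        rw [Set.mem_singleton_iff] at ha
        subst ha
        exact ⟨j + 1, map_Mseq_le Θ N' j ⟨x, hx, rfl⟩⟩
      | algebraMap r =>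
        intro j x hx
        refine ⟨j, ?_⟩
        rw [algebraMap_smul]
        exact Submodule.smul_mem _ r hx
      | add a b _ _ iha ihb =>
        intro j x hx
        obtain ⟨j₁, h₁⟩ := iha j x hx
        obtain ⟨j₂, h₂⟩ := ihb j x hx
        refine ⟨max j₁ j₂, ?_⟩
        rw [add_smul]
        exact Submodule.add_mem _ (Mseq_mono Θ N' (le_max_left _ _) h₁)
          (Mseq_mono Θ N' (le_max_right _ _) h₂)
      | mul a b _ _ iha ihb =>
        intro j x hx
        obtain ⟨j₁, h₁⟩ := ihb j x hx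
        obtain ⟨j₂, h₂⟩ := iha j₁ _ h₁
        exact ⟨j₂, by rw [mul_smul]; exact h₂⟩
    have hsup : ∀ x ∈ N'', ∃ j, x ∈ Mseq Θ N' j := by
      intro x hx
      induction hx using Submodule.span_induction with
      | mem x hx => exact ⟨0, hx⟩
      | zero => exact ⟨0, Submodule.zero_mem _⟩
      | add x y _ _ hx hy =>
        obtain ⟨j₁, h₁⟩ := hx
        obtain ⟨j₂, h₂⟩ := hy
        exact ⟨max j₁ j₂, Submodule.add_mem _ (Mseq_mono Θ N' (le_max_left _ _) h₁)
          (Mseq_mono Θ N' (le_max_right _ _) h₂)⟩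
      | smul a x _ hx =>
        obtain ⟨j, hj⟩ := hx
        exact hsmul a.1 a.2 j x hj
    have hEmono : Monotone (fun j => ((Mseq Θ N' j).restrictScalars R).map
        (N'.restrictScalars R).mkQ) :=
      fun a b hab => Submodule.map_mono (fun x hx => Mseq_mono Θ N' hab hx)
    have hiSup : (⨆ j, ((Mseq Θ N' j).restrictScalars R).map (N'.restrictScalars R).mkQ) =
        (N''.restrictScalars R).map (N'.restrictScalars R).mkQ := by
      ext y
      rw [Submodule.mem_iSup_of_directed _ hEmono.directed_le]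
      constructor
      · rintro ⟨j, x, hx, rfl⟩
        exact ⟨x, hsub j x hx, rfl⟩
      · rintro ⟨x, hx, rfl⟩
        obtain ⟨j, hj⟩ := hsup x hx
        exact ⟨j, x, hj, rfl⟩
    rw [hiSup] at hG₂
    have hle : N'.restrictScalars R ≤ (N''.restrictScalars R).comap LinearMap.id :=
      fun x hx => Submodule.subset_span hx
    refine ⟨f₁ * f₂, mul_ne_zero hf₁ hf₂, ?_⟩
    refine GFlat.of_exact ((N''.restrictScalars R).map (N'.restrictScalars R).mkQ).subtype
      (Submodule.mapQ (N'.restrictScalars R) (N''.restrictScalars R) LinearMap.id hle)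
      (Submodule.injective_subtype _) ?_ ?_ (hG₂.mul_left f₁) (hG₁.mul_right f₂)
    · intro y
      obtain ⟨x, rfl⟩ := (N'.restrictScalars R).mkQ_surjective y
      rw [Submodule.mkQ_apply, Submodule.mapQ_apply, Submodule.Quotient.mk_eq_zero]
      constructor
      · intro hx
        exact ⟨⟨_, x, hx, rfl⟩, rfl⟩
      · rintro ⟨⟨_, x', hx', rfl⟩, hxx'⟩
        replace hxx' : (N'.restrictScalars R).mkQ x' = Submodule.Quotient.mk x := hxx'
        have h1 : x' - x ∈ N'.restrictScalars R := by
          rw [← Submodule.Quotient.eq]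
          exact hxx'
        have h2 : x = x' - (x' - x) := by abel
        show x ∈ N''
        rw [h2]
        exact N''.sub_mem hx' (Submodule.subset_span h1)
    · intro z
      obtain ⟨x, rfl⟩ := (N''.restrictScalars R).mkQ_surjective z
      exact ⟨(N'.restrictScalars R).mkQ x, rfl⟩

end Tower

end Groth.Agent.Lib.Helper18
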