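import Groth.Agent.Lib.Helper18.GenericFreeness
import Mathlib.RingTheory.MvPolynomial.Localization
import Mathlib.RingTheory.Localization.Ideal
import Mathlib.RingTheory.FiniteStability
import Mathlib.LinearAlgebra.TensorProduct.RightExactness
import Mathlib.Algebra.Module.FinitePresentation
import Mathlib.Algebra.Module.LocalizedModule.Submodule
import Mathlib.RingTheory.Localization.Finiteness
import Mathlib.RingTheory.Localization.BaseChange

set_option autoImplicit false
set_option linter.style.haveILetI false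
universe u

namespace Groth.Agent.Lib.Helper18

open TensorProduct

section Torsion

variable {R : Type u} [CommRing R] [IsDomain R] {M : Type u} [AddCommGroup M] [Module R M]

theorem IsGenBasis.of_dvd {f f' : R} {ι : Type*} {m : ι → M} (h : IsGenBasis f m)
    (hdvd : f ∣ f') (hf' : f' ≠ 0) : IsGenBasis f' m := by
  obtain ⟨g, rfl⟩ := hdvd
  exact h.mul (right_ne_zero_of_mul hf')

theorem IsGenBasis.pow_smul_eq_zero {f : R} {ι : Type*} {m : ι → M} (h : IsGenBasis f m)
    {c : R} (hc : c ≠ 0) {z : M} (hz : c • z = 0) : ∃ k : ℕ, f ^ k • z = 0 := by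
  obtain ⟨k, hk⟩ := h.2 z
  obtain ⟨b, hb⟩ := Finsupp.mem_span_range_iff_exists_finsupp.1 hk
  have hb' : Finsupp.linearCombination R m b = f ^ k • z := by
    rw [Finsupp.linearCombination_apply]; exact hb
  have h1 : f ^ 0 • Finsupp.linearCombination R m (c • b) = 0 := by
    rw [pow_zero, one_smul, map_smul, hb', smul_comm, hz, smul_zero]
  have h2 := h.1 (c • b) 0 h1
  have h3 : b = 0 := by
    rcases smul_eq_zero.1 h2 with h4 | h4
    · exact absurd h4 hc
    · exact h4
  refine ⟨k, ?_⟩
  rw [← hb', h3, map_zero]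

omit [IsDomain R] in
theorem lTensor_injective_of_torsion_ker {M' : Type u} [AddCommGroup M'] [Module R M']
    (f : R) (Rf : Type u) [CommRing Rf] [Algebra R Rf] [IsLocalization.Away f Rf]
    (π : M' →ₗ[R] M) (hπ : Function.Surjective π)
    (hker : ∀ z, π z = 0 → ∃ k : ℕ, f ^ k • z = 0) : Function.Injective (π.lTensor Rf) := by
  have hex := lTensor_exact Rf (LinearMap.exact_subtype_ker_map π) hπ
  rw [injective_iff_map_eq_zero]
  intro x hx
  obtain ⟨w, rfl⟩ := (hex x).1 hx
  have hw : ∀ w : Rf ⊗[R] (LinearMap.ker π), w = 0 := by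
    intro w
    induction w using TensorProduct.induction_on with
    | zero => rfl
    | tmul a z =>
      obtain ⟨k, hk⟩ := hker z.1 z.2
      have hu : IsUnit (algebraMap R Rf (f ^ k)) := by
        rw [map_pow]
        exact (IsLocalization.Away.algebraMap_isUnit f).pow k
      have ha : a = f ^ k • ((↑hu.unit⁻¹ : Rf) * a) := by
        rw [Algebra.smul_def, ← mul_assoc, IsUnit.mul_val_inv, one_mul]
      have hz : f ^ k • z = 0 := Subtype.ext hk
      rw [ha, TensorProduct.smul_tmul, hz, TensorProduct.tmul_zero]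
    | add a b ha hb => rw [ha, hb, add_zero]
  rw [hw w, map_zero]

end Torsion

section FPApprox

variable {R : Type u} [CommRing R] [IsDomain R]

attribute [local instance] MvPolynomial.algebraMvPolynomial in
theorem exists_fp_approx (S : Type u) [CommRing S] [Algebra R S] [Algebra.FiniteType R S] :
    ∃ (n : ℕ) (I' : Ideal (MvPolynomial (Fin n) R))
      (π : (MvPolynomial (Fin n) R ⧸ I') →ₐ[R] S), I'.FG ∧ Function.Surjective π ∧
        ∀ z, π z = 0 → ∃ c : R, c ≠ 0 ∧ c • z = 0 := by
  classical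
  obtain ⟨n, φ, hφ⟩ := Algebra.FiniteType.iff_quotient_mvPolynomial''.1
    (inferInstance : Algebra.FiniteType R S)
  set I : Ideal (MvPolynomial (Fin n) R) := RingHom.ker φ.toRingHom with hI
  set ι : MvPolynomial (Fin n) R →+* MvPolynomial (Fin n) (FractionRing R) :=
    algebraMap (MvPolynomial (Fin n) R) (MvPolynomial (Fin n) (FractionRing R)) with hι
  have hιinj : Function.Injective ι :=
    MvPolynomial.map_injective _ (IsFractionRing.injective R (FractionRing R))
  have hJ : (Ideal.map ι I).FG := IsNoetherian.noetherian _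
  rw [Ideal.map, Ideal.span] at hJ
  obtain ⟨T', hT'sub, hT'⟩ := (Submodule.fg_span_iff_fg_span_finset_subset _).1 hJ
  have hch : ∀ t' ∈ T', ∃ t ∈ I, ι t = t' := fun t' ht' => hT'sub ht'
  choose! pre hpreI hpre using hch
  set I' : Ideal (MvPolynomial (Fin n) R) := Ideal.span ((T'.image pre : Finset _) : Set _) with hI'
  have hI'le : I' ≤ I := by
    rw [hI', Ideal.span_le]
    intro t ht
    rw [Finset.coe_image] at ht
    obtain ⟨t', ht', rfl⟩ := ht
    exact hpreI t' ht'
  have hmap : Ideal.map ι I ≤ Ideal.map ι I' := by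
    rw [Ideal.map, Ideal.span, hT', Submodule.span_le]
    intro t' ht'
    rw [← hpre t' ht']
    exact Ideal.mem_map_of_mem ι (Ideal.subset_span (Finset.mem_coe.2
      (Finset.mem_image_of_mem pre ht')))
  have hkey : ∀ z ∈ I, ∃ c : R, c ≠ 0 ∧ MvPolynomial.C c * z ∈ I' := by
    intro z hz
    have h1 : ι z ∈ Ideal.map ι I' := hmap (Ideal.mem_map_of_mem ι hz)
    rw [hι, IsLocalization.mem_map_algebraMap_iff
      ((nonZeroDivisors R).map (MvPolynomial.C (σ := Fin n)))] at h1
    obtain ⟨⟨⟨a, ha⟩, ⟨_, c, hc, rfl⟩⟩, h2⟩ := h1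
    refine ⟨c, nonZeroDivisors.ne_zero hc, ?_⟩
    have h3 : MvPolynomial.C c * z = a := by
      apply hιinj
      rw [map_mul, mul_comm]
      exact h2
    rw [h3]
    exact ha
  let π : (MvPolynomial (Fin n) R ⧸ I') →ₐ[R] S :=
    Ideal.Quotient.liftₐ I' φ (fun a ha => hI'le ha)
  refine ⟨n, I', π, ⟨_, rfl⟩, ?_, ?_⟩
  · intro s
    obtain ⟨p, rfl⟩ := hφ s
    exact ⟨Ideal.Quotient.mk I' p, rfl⟩
  · intro z hz
    obtain ⟨p, rfl⟩ := Ideal.Quotient.mk_surjective z
    have hp : p ∈ I := hz
    obtain ⟨c, hc, hcp⟩ := hkey p hp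
    refine ⟨c, hc, ?_⟩
    rw [← Ideal.Quotient.eq_zero_iff_mem] at hcp
    rw [← MvPolynomial.smul_eq_C_mul] at hcp
    exact hcp

end FPApprox

section FPAlg

variable {R : Type u} [CommRing R] [IsDomain R]

theorem exists_finitePresentation_tensor (S : Type u) [CommRing S] [Algebra R S]
    [Algebra.FiniteType R S] :
    ∃ f₀ : R, f₀ ≠ 0 ∧ ∀ f : R, f₀ ∣ f → f ≠ 0 →
      ∀ (Rf : Type u) [CommRing Rf] [Algebra R Rf] [IsLocalization.Away f Rf],
        Algebra.FinitePresentation Rf (Rf ⊗[R] S) := by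
  obtain ⟨n, I', π, hfg, hπ, hker⟩ := exists_fp_approx (R := R) S
  haveI : Algebra.FinitePresentation R (MvPolynomial (Fin n) R ⧸ I') :=
    Algebra.FinitePresentation.quotient hfg
  haveI : Algebra.FiniteType R (MvPolynomial (Fin n) R ⧸ I') :=
    Algebra.FiniteType.of_finitePresentation
  obtain ⟨f₀, hf₀, ι, m, hm⟩ := genFree_finiteType (R := R) (MvPolynomial (Fin n) R ⧸ I')
    (MvPolynomial (Fin n) R ⧸ I')
  refine ⟨f₀, hf₀, fun f hdvd hf Rf _ _ _ => ?_⟩
  have hm' := hm.of_dvd hdvd hf
  have hinj : Function.Injective (π.toLinearMap.lTensor Rf) :=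
    lTensor_injective_of_torsion_ker f Rf π.toLinearMap hπ (fun z hz => by
      obtain ⟨c, hc, hcz⟩ := hker z hz
      exact hm'.pow_smul_eq_zero hc hcz)
  have hsurj : Function.Surjective (Algebra.TensorProduct.map (AlgHom.id Rf Rf) π) :=
    Algebra.TensorProduct.map_surjective (f := AlgHom.id Rf Rf) (g := π)
      Function.surjective_id hπ
  have hinj' : Function.Injective (Algebra.TensorProduct.map (AlgHom.id Rf Rf) π) := hinj
  let e : (Rf ⊗[R] (MvPolynomial (Fin n) R ⧸ I')) ≃ₐ[Rf] (Rf ⊗[R] S) :=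
    AlgEquiv.ofBijective (Algebra.TensorProduct.map (AlgHom.id Rf Rf) π) ⟨hinj', hsurj⟩
  exact Algebra.FinitePresentation.equiv (R := Rf)
    (A := Rf ⊗[R] (MvPolynomial (Fin n) R ⧸ I')) (B := Rf ⊗[R] S) e

end FPAlg

section FPMod

variable {R : Type u} [CommRing R] [IsDomain R]

attribute [local instance] Algebra.TensorProduct.rightAlgebra in
theorem isNoetherianRing_localization_algebraMapSubmonoid (S : Type u) [CommRing S] [Algebra R S]
    [Algebra.FiniteType R S] :
    IsNoetherianRing (Localization (Algebra.algebraMapSubmonoid S (nonZeroDivisors R))) := by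
  haveI : IsLocalization (Algebra.algebraMapSubmonoid S (nonZeroDivisors R))
      (FractionRing R ⊗[R] S) := IsLocalization.tensorRight _ (nonZeroDivisors R)
  haveI : IsNoetherianRing (FractionRing R ⊗[R] S) :=
    Algebra.FiniteType.isNoetherianRing (FractionRing R) (FractionRing R ⊗[R] S)
  exact isNoetherianRing_of_ringEquiv (FractionRing R ⊗[R] S)
    (IsLocalization.algEquiv (Algebra.algebraMapSubmonoid S (nonZeroDivisors R))
      (Localization (Algebra.algebraMapSubmonoid S (nonZeroDivisors R)))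
      (FractionRing R ⊗[R] S)).symm.toRingEquiv

theorem exists_fp_approx_module (S : Type u) [CommRing S] [Algebra R S] [Algebra.FiniteType R S]
    (M : Type u) [AddCommGroup M] [Module S M] [Module.Finite S M] :
    ∃ (r : ℕ) (Q' : Submodule S (Fin r → S)) (π : ((Fin r → S) ⧸ Q') →ₗ[S] M), Q'.FG ∧
      Function.Surjective π ∧ ∀ z, π z = 0 → ∃ c : R, c ≠ 0 ∧ algebraMap R S c • z = 0 := by
  classical
  obtain ⟨r, ρ, hρ⟩ := Module.Finite.exists_fin' S M
  set W := Algebra.algebraMapSubmonoid S (nonZeroDivisors R) with hW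
  haveI : IsNoetherianRing (Localization W) := isNoetherianRing_localization_algebraMapSubmonoid S
  set loc := LocalizedModule.mkLinearMap W (Fin r → S) with hloc
  haveI : IsNoetherian (Localization W) (LocalizedModule W (Fin r → S)) :=
    isNoetherian_of_isNoetherianRing_of_finite _ _
  set Q := LinearMap.ker ρ with hQ
  have hfg : (Submodule.span (Localization W) (loc '' (Q : Set (Fin r → S)))).FG :=
    IsNoetherian.noetherian _
  obtain ⟨T', hT'sub, hT'⟩ := (Submodule.fg_span_iff_fg_span_finset_subset _).1 hfg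
  have hch : ∀ t' ∈ T', ∃ t ∈ Q, loc t = t' := fun t' ht' => hT'sub ht'
  choose! pre hpreQ hpre using hch
  set Q' : Submodule S (Fin r → S) := Submodule.span S ((T'.image pre : Finset _) : Set _) with hQ'
  have hQ'le : Q' ≤ Q := by
    rw [hQ', Submodule.span_le]
    intro t ht
    rw [Finset.coe_image] at ht
    obtain ⟨t', ht', rfl⟩ := ht
    exact hpreQ t' ht'
  have hkey : ∀ z ∈ Q, ∃ c : R, c ≠ 0 ∧ algebraMap R S c • z ∈ Q' := by
    intro z hz
    have h1 : loc z ∈ Submodule.localized' (Localization W) W loc Q' := by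
      rw [Submodule.localized'_eq_span]
      have h2 : loc z ∈ Submodule.span (Localization W) (loc '' (Q : Set (Fin r → S))) :=
        Submodule.subset_span ⟨z, hz, rfl⟩
      rw [hT'] at h2
      refine Submodule.span_mono ?_ h2
      intro t' ht'
      exact ⟨pre t', Submodule.subset_span (Finset.mem_coe.2 (Finset.mem_image_of_mem pre ht')),
        hpre t' ht'⟩
    rw [Submodule.mem_localized'] at h1
    obtain ⟨m, hm, s, hms⟩ := h1
    rw [IsLocalizedModule.mk'_eq_iff, Submonoid.smul_def, ← map_smul] at hms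
    obtain ⟨s', hs'⟩ := (IsLocalizedModule.eq_iff_exists W loc).1 hms
    obtain ⟨c, hc, hcs⟩ := (s' * s).2
    refine ⟨c, nonZeroDivisors.ne_zero hc, ?_⟩
    have h3 : algebraMap R S c • z = s' • m := by
      rw [hcs, hs', Submonoid.coe_mul, mul_smul]
      rfl
    rw [h3]
    exact Q'.smul_mem _ hm
  refine ⟨r, Q', Q'.liftQ ρ hQ'le, ⟨_, rfl⟩, ?_, ?_⟩
  · intro x
    obtain ⟨y, rfl⟩ := hρ x
    exact ⟨Q'.mkQ y, rfl⟩
  · intro z hz
    obtain ⟨x, rfl⟩ := Q'.mkQ_surjective z
    have hx : x ∈ Q := hz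
    obtain ⟨c, hc, hcx⟩ := hkey x hx
    refine ⟨c, hc, ?_⟩
    rw [← map_smul]
    exact (Submodule.Quotient.mk_eq_zero _).2 hcx

theorem exists_finitePresentation_localizedModule (S : Type u) [CommRing S] [Algebra R S]
    [Algebra.FiniteType R S] (M : Type u) [AddCommGroup M] [Module S M] [Module.Finite S M] :
    ∃ f₀ : R, f₀ ≠ 0 ∧ ∀ f : R, f₀ ∣ f → f ≠ 0 →
      Module.FinitePresentation (Localization.Away (algebraMap R S f))
        (LocalizedModule (Submonoid.powers (algebraMap R S f)) M) := by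
  obtain ⟨r, Q', π, hfg, hπ, hker⟩ := exists_fp_approx_module (R := R) S M
  haveI : Module.FinitePresentation S ((Fin r → S) ⧸ Q') :=
    Module.finitePresentation_of_surjective Q'.mkQ Q'.mkQ_surjective (by rwa [Submodule.ker_mkQ])
  obtain ⟨f₀, hf₀, ι, m, hm⟩ := genFree_finiteType (R := R) S ((Fin r → S) ⧸ Q')
  refine ⟨f₀, hf₀, fun f hdvd hf => ?_⟩
  have hm' := hm.of_dvd hdvd hf
  set Wf := Submonoid.powers (algebraMap R S f) with hWf
  have hsurj : Function.Surjective (LocalizedModule.map Wf π) :=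
    LocalizedModule.map_surjective Wf π hπ
  have hinj : LinearMap.ker (LocalizedModule.map Wf π) = ⊥ := by
    rw [LinearMap.ker_eq_bot']
    intro x hx
    induction x using LocalizedModule.induction_on with
    | h m' s =>
      rw [LocalizedModule.map_mk, ← LocalizedModule.zero_mk (1 : Wf), LocalizedModule.mk_eq] at hx
      obtain ⟨t, ht⟩ := hx
      rw [smul_zero, smul_zero, one_smul] at ht
      have h1 : π (t • m') = 0 := by
        rw [Submonoid.smul_def, map_smul]
        exact ht
      obtain ⟨c, hc, hcz⟩ := hker _ h1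
      rw [algebraMap_smul] at hcz
      obtain ⟨k, hk⟩ := hm'.pow_smul_eq_zero hc hcz
      rw [← LocalizedModule.zero_mk (1 : Wf), LocalizedModule.mk_eq]
      refine ⟨⟨algebraMap R S f ^ k, k, rfl⟩ * t, ?_⟩
      rw [smul_zero, smul_zero, one_smul, mul_smul]
      have h2 : f ^ k • (t • m') = (algebraMap R S f ^ k) • (t • m') := by
        rw [← map_pow, algebraMap_smul]
      rw [h2] at hk
      exact hk
  exact Module.finitePresentation_of_surjective (LocalizedModule.map Wf π) hsurj
    (by rw [hinj]; exact Submodule.fg_bot)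

end FPMod

section Dvd

variable {R : Type u} [CommRing R] [IsDomain R]

theorem exists_free_tensor_dvd (S : Type u) [CommRing S] [Algebra R S]
    [Algebra.FiniteType R S] (M : Type u) [AddCommGroup M] [Module R M] [Module S M]
    [IsScalarTower R S M] [Module.Finite S M] :
    ∃ f₀ : R, f₀ ≠ 0 ∧ ∀ f : R, f₀ ∣ f → f ≠ 0 →
      ∀ (Rf : Type u) [CommRing Rf] [Algebra R Rf] [IsLocalization.Away f Rf],
        Module.Free Rf (Rf ⊗[R] M) := by
  obtain ⟨f₀, hf₀, ι, m, hm⟩ := genFree_finiteType (R := R) S M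
  refine ⟨f₀, hf₀, fun f hdvd hf Rf _ _ _ => ?_⟩
  have hm' := hm.of_dvd hdvd hf
  haveI : IsLocalizedModule (Submonoid.powers f) (TensorProduct.mk R Rf M 1) :=
    (isLocalizedModule_iff_isBaseChange (Submonoid.powers f) Rf _).2
      (TensorProduct.isBaseChange R M Rf)
  exact hm'.free_localized Rf (TensorProduct.mk R Rf M 1)

theorem exists_free_localizedModule_dvd (S : Type u) [CommRing S] [Algebra R S]
    [Algebra.FiniteType R S] (M : Type u) [AddCommGroup M] [Module R M] [Module S M]
    [IsScalarTower R S M] [Module.Finite S M] :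
    ∃ f₀ : R, f₀ ≠ 0 ∧ ∀ f : R, f₀ ∣ f → f ≠ 0 →
      Module.Free (Localization.Away f) (LocalizedModule (Submonoid.powers f) M) := by
  obtain ⟨f₀, hf₀, ι, m, hm⟩ := genFree_finiteType (R := R) S M
  refine ⟨f₀, hf₀, fun f hdvd hf => ?_⟩
  exact (hm.of_dvd hdvd hf).free_localized (Localization.Away f)
    (LocalizedModule.mkLinearMap (Submonoid.powers f) M)

end Dvd

end Groth.Agent.Lib.Helper18
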