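import Mathlib
import Groth.Prelude.Def_HMNum
import Groth.Agent.Lib.Helper5.AMonAttr

set_option autoImplicit false
set_option linter.unusedSectionVars false
universe u

open CategoryTheory CategoryTheory.Limits MonoidalCategory CartesianMonoidalCategory MonObj
  AlgebraicGeometry Opposite
open Magnet

noncomputable section

namespace Groth.Agent.Lib.Helper18.HMLimit

open Groth.Agent.Lib.Helper5.AMonPts Groth.Agent.Lib.Helper5.AMonAttr HMNum

variable {S : Scheme.{u}} {G X : Over S} [GrpObj G] (a : AlgGrp.Action G X)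
  (l : Red.Gm S ⟶ G) [IsMonHom l]

/-- all points of `A({0})_S` coincide. -/
theorem pt_bot_eq {T' : Over S} (b b' : T' ⟶ AMonS S ↥(⊥ : AddSubmonoid ℤ)) : b = b' := by
  apply (equiv (M := ↥(⊥ : AddSubmonoid ℤ)) T').injective
  refine MonoidHom.ext fun m => ?_
  have hm : m = 1 := by
    have h1 : (Multiplicative.toAdd m : ↥(⊥ : AddSubmonoid ℤ)) = 0 :=
      Subtype.ext ((AddSubmonoid.mem_bot).mp (Multiplicative.toAdd m).2)
    exact congrArg Multiplicative.ofAdd h1
  rw [hm, map_one, map_one]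

/-- the origin of the affine line is fixed by the multiplicative group. -/
theorem origin_fixed {T' : Over S} (g : T' ⟶ AMonS S ℤ) :
    lift g (toUnit T' ≫ origin S) ≫ (subAct S ℤ plus).act = toUnit T' ≫ origin S := by
  have h := (MonAct.isEquivariant_iff _ _ _).mp (isEquivariant_faceMapS (S := S) isFace_bot) T' g
    (toUnit T' ≫ η[AMonS S ↥(⊥ : AddSubmonoid ℤ)])
  unfold origin
  rw [← Category.assoc (toUnit T'), ← h, ← Category.assoc]
  congr 1
  exact pt_bot_eq _ _


theorem isFixedBy_of_isLimitPt {T : Over S} {x y : T ⟶ X} (h : IsLimitPt a l x y) :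
    IsFixedBy a l y := by
  obtain ⟨φ, -, rfl⟩ := h
  rw [isFixedBy_iff]
  intro T' t g
  rw [limitPt_eq]
  have h1 : t ≫ lift (toUnit T ≫ origin S) (𝟙 T) ≫ φ.1 =
      lift (toUnit T' ≫ origin S) t ≫ φ.1 := by
    rw [← Category.assoc, comp_lift, Category.comp_id, ← Category.assoc,
      toUnit_unique (t ≫ toUnit T) (toUnit T')]
  rw [h1]
  have h2 := (MonAct.mem_eqvHom_iff φ.1).mp φ.2 T' g (toUnit T' ≫ origin S) t
  rw [← h2, origin_fixed]

theorem isLimitPt_self {T : Over S} {y : T ⟶ X} (h : IsFixedBy a l y) : IsLimitPt a l y y := by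
  rw [isFixedBy_iff] at h
  refine ⟨⟨snd (A1 S) T ≫ y, ?_⟩, ?_, ?_⟩
  · rw [MonAct.mem_eqvHom_iff]
    intro T' g b t
    rw [← Category.assoc, lift_snd, ← Category.assoc, lift_snd, h]
  · change lift _ _ ≫ snd _ _ ≫ y = y
    rw [← Category.assoc, lift_snd, Category.id_comp]
  · rw [limitPt_eq]
    change lift _ _ ≫ snd _ _ ≫ y = y
    rw [← Category.assoc, lift_snd, Category.id_comp]

variable [IsSeparated X.hom]

theorem limit_unique {T : Over S} {x y y' : T ⟶ X} (h : IsLimitPt a l x y)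
    (h' : IsLimitPt a l x y') : y = y' := by
  obtain ⟨φ, hφx, hφy⟩ := h
  obtain ⟨φ', hφ'x, hφ'y⟩ := h'
  have heq : φ.1 = φ'.1 :=
    eq_of_ev_eq (gmAct a l) plus φ.1 φ'.1 φ.2 φ'.2 (hφx.trans hφ'x.symm)
  have : φ = φ' := Subtype.ext heq
  rw [← hφy, ← hφ'y, this]

theorem isMuOf_iff_of_isLimitPt {V : Over S} (π : V ⟶ X)
    (chart : ∀ U : X.left.Opens, Set (Γ(V.left, π.left ⁻¹ᵁ U))) (Φ : AlgGrp.Action G V)
    {T : Over S} (x y : T ⟶ X) (hy : IsLimitPt a l x y) (m : ℤ) :
    IsMuOf a π chart Φ l x m ↔ IsMuOf a π chart Φ l y m := by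
  have hfix := isFixedBy_of_isLimitPt a l hy
  constructor
  · rintro ⟨y', hy', hw⟩
    have : y = y' := limit_unique a l hy hy'
    subst this
    exact ⟨y, isLimitPt_self a l hfix, hw⟩
  · rintro ⟨y'', hy'', hw⟩
    have : y = y'' := limit_unique a l (isLimitPt_self a l hfix) hy''
    subst this
    exact ⟨y, hy, hw⟩

end Groth.Agent.Lib.Helper18.HMLimit
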