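import Mathlib
import Groth.Prelude.Def_HMNum
import Groth.Agent.Lib.Helper18.HMLimit

set_option autoImplicit false
set_option linter.unusedSectionVars false
universe u

open CategoryTheory CategoryTheory.Limits MonoidalCategory CartesianMonoidalCategory MonObj
  AlgebraicGeometry Opposite
open Magnet

noncomputable section

namespace Groth.Agent.Lib.Helper18.HMConj

open Groth.Agent.Lib.Helper5.AMonPts Groth.Agent.Lib.Helper5.AMonAttr HMNum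

variable {S : Scheme.{u}} {G X : Over S} [GrpObj G] (a : AlgGrp.Action G X)

theorem act_mul {T : Over S} (g h : T ⟶ G) (x : T ⟶ X) :
    lift (g * h) x ≫ a.act = lift g (lift h x ≫ a.act) ≫ a.act :=
  (MonAct.ofAction a).lift_mul_act g h x

theorem act_one {T : Over S} (x : T ⟶ X) : lift (1 : T ⟶ G) x ≫ a.act = x :=
  (MonAct.ofAction a).lift_one_act x

theorem comp_act {T T' : Over S} (t : T' ⟶ T) (g : T ⟶ G) (x : T ⟶ X) :
    t ≫ lift g x ≫ a.act = lift (t ≫ g) (t ≫ x) ≫ a.act := by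
  rw [← Category.assoc, comp_lift]

section conj

variable (l l' : Red.Gm S ⟶ G) [IsMonHom l] [IsMonHom l'] {T : Over S} (c d : T ⟶ G)
  (hdc : d * c = 1)
  (hrel : ∀ (T' : Over S) (t : T' ⟶ T) (u : T' ⟶ Red.Gm S),
    u ≫ l' = (t ≫ d) * (u ≫ l) * (t ≫ c))

include hdc in
theorem comp_cd {T' : Over S} (t : T' ⟶ T) : (t ≫ c) * (t ≫ d) = 1 := by
  have hcd : c * d = 1 := mul_eq_one_comm.mp hdc
  rw [← MonObj.comp_mul, hcd, MonObj.comp_one]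

include hdc hrel in
theorem isLimitPt_conj {x y : T ⟶ X} (h : IsLimitPt a l (lift c x ≫ a.act) y) :
    IsLimitPt a l' x (lift d y ≫ a.act) := by
  obtain ⟨φ, hφx, hφy⟩ := h
  have hφx' : lift (toUnit T ≫ η[AMonS S ↥plus]) (𝟙 T) ≫ φ.1 = lift c x ≫ a.act := hφx
  let φ' : A1 S ⊗ T ⟶ X := lift (snd _ _ ≫ d) φ.1 ≫ a.act
  have hφ' : ∀ {T' : Over S} (b : T' ⟶ A1 S) (t : T' ⟶ T),
      lift b t ≫ φ' = lift (t ≫ d) (lift b t ≫ φ.1) ≫ a.act := by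
    intro T' b t
    rw [← Category.assoc, comp_lift, ← Category.assoc, lift_snd]
  refine ⟨⟨φ', ?_⟩, ?_, ?_⟩
  · rw [MonAct.mem_eqvHom_iff]
    intro T' g b t
    rw [hφ', hφ', (MonAct.mem_eqvHom_iff φ.1).mp φ.2 T' g b t]
    rw [MonAct.lift_restrict_act, MonAct.lift_restrict_act, MonAct.ofAction_act, ← act_mul,
      ← act_mul, hrel T' t g]
    congr 2
    rw [_root_.mul_assoc, _root_.mul_assoc, comp_cd c d hdc t, _root_.mul_one]
  · change lift _ _ ≫ φ' = x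
    rw [hφ', Category.id_comp, hφx', ← act_mul, hdc, act_one]
  · rw [limitPt_eq]
    change lift _ _ ≫ φ' = _
    rw [hφ', Category.id_comp, ← hφy, limitPt_eq]

include hdc hrel in
theorem isFixedBy_conj {y : T ⟶ X} (h : IsFixedBy a l y) :
    IsFixedBy a l' (lift d y ≫ a.act) := by
  intro T' t g
  rw [comp_act, hrel T' t g, ← act_mul]
  have h1 : (t ≫ d) * (g ≫ l) * (t ≫ c) * (t ≫ d) = (t ≫ d) * (g ≫ l) := by
    rw [_root_.mul_assoc, comp_cd c d hdc t, _root_.mul_one]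
  rw [h1, act_mul, h T' t g]

end conj


section chart

open GLinSh

variable {V : Over S} (π : V ⟶ X) (Φ : AlgGrp.Action G V) (hπ : Φ.act ≫ π = (G ◁ π) ≫ a.act)

theorem evalFn_congr {U : X.left.Opens} (y : Γ(V.left, π.left ⁻¹ᵁ U)) {T' : Over S} {v v' : T' ⟶ V}
    (e : v = v') (h : ⊤ ≤ v.left ⁻¹ᵁ (π.left ⁻¹ᵁ U)) (h' : ⊤ ≤ v'.left ⁻¹ᵁ (π.left ⁻¹ᵁ U)) :
    evalFn π y v h = evalFn π y v' h' := by
  subst e
  rfl

theorem appLE_appLE_apply {X₁ Y₁ Z₁ : Scheme.{u}} (f : X₁ ⟶ Y₁) (g : Y₁ ⟶ Z₁) (U : Z₁.Opens)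
    (V₁ : Y₁.Opens) (W : X₁.Opens) (e₁ : V₁ ≤ g ⁻¹ᵁ U) (e₂ : W ≤ f ⁻¹ᵁ V₁) (s : Γ(Z₁, U))
    (k : X₁ ⟶ Z₁) (hk : f ≫ g = k) (e₃ : W ≤ k ⁻¹ᵁ U) :
    (f.appLE V₁ W e₂).hom ((g.appLE U V₁ e₁).hom s) = (k.appLE U W e₃).hom s := by
  subst hk
  rw [← Scheme.Hom.appLE_comp_appLE f g U V₁ W e₁ e₂]
  rfl

include hπ in
theorem vact_π {T' : Over S} (gg : T' ⟶ G) (v : T' ⟶ V) :
    (lift gg v ≫ Φ.act) ≫ π = lift gg (v ≫ π) ≫ a.act := by
  rw [Category.assoc, hπ, lift_whiskerLeft_assoc]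

theorem linear_at {U U' : X.left.Opens} (yc : Γ(V.left, π.left ⁻¹ᵁ U))
    (yc' : Γ(V.left, π.left ⁻¹ᵁ U'))
    (cc : Γ((G ⊗ X).left, a.act.left ⁻¹ᵁ U' ⊓ (snd G X).left ⁻¹ᵁ U))
    (hcc : Φ.act.left.appLE (π.left ⁻¹ᵁ U') (liftOpen a π U U') (liftOpen_le_act a π Φ hπ) yc' =
          (G ◁ π).left.appLE _ (liftOpen a π U U') (liftOpen_le_base a π) cc *
            (snd G V).left.appLE (π.left ⁻¹ᵁ U) (liftOpen a π U U') (liftOpen_le_snd a π) yc)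
    {T' : Over S} (gg : T' ⟶ G) (v : T' ⟶ V) (x' : T' ⟶ X) (hvx : v ≫ π = x')
    (h1 : ⊤ ≤ (lift gg v ≫ Φ.act).left ⁻¹ᵁ (π.left ⁻¹ᵁ U'))
    (h2 : ⊤ ≤ v.left ⁻¹ᵁ (π.left ⁻¹ᵁ U))
    (h3 : ⊤ ≤ (lift gg x').left ⁻¹ᵁ (a.act.left ⁻¹ᵁ U' ⊓ (snd G X).left ⁻¹ᵁ U)) :
    evalFn π yc' (lift gg v ≫ Φ.act) h1 =
      ((lift gg x').left.appLE _ ⊤ h3).hom cc * evalFn π yc v h2 := by
  subst hvx
  have hk0 : lift gg v ≫ (G ◁ π) = lift gg (v ≫ π) := lift_whiskerLeft _ _ _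
  have hk1 : (lift gg v).left ≫ (G ◁ π).left = (lift gg (v ≫ π)).left :=
    congrArg (fun k => k.left) hk0
  have hk2 : (lift gg v).left ≫ (snd G V).left = v.left :=
    congrArg (fun k => k.left) (lift_snd gg v)
  have hp : ⊤ ≤ (lift gg v).left ⁻¹ᵁ (liftOpen a π U U') := by
    intro z _
    have hz := h3 (show z ∈ (⊤ : T'.left.Opens) from trivial)
    have hk1z : (G ◁ π).left ((lift gg v).left z) = (lift gg (v ≫ π)).left z := by
      rw [← Scheme.Hom.comp_apply, hk1]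
    constructor
    · change a.act.left ((G ◁ π).left ((lift gg v).left z)) ∈ U'
      rw [hk1z]
      exact hz.1
    · change (snd G X).left ((G ◁ π).left ((lift gg v).left z)) ∈ U
      rw [hk1z]
      exact hz.2
  have hcc' := congrArg (fun s => ((lift gg v).left.appLE (liftOpen a π U U') ⊤ hp).hom s) hcc
  simp only [map_mul] at hcc'
  rw [appLE_appLE_apply _ _ _ _ _ _ _ _ (lift gg v ≫ Φ.act).left rfl h1,
    appLE_appLE_apply _ _ _ _ _ _ _ _ (lift gg (v ≫ π)).left hk1 h3,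
    appLE_appLE_apply _ _ _ _ _ _ _ _ v.left hk2 h2] at hcc'
  exact hcc'

end chart


section wt

open GLinSh

variable {V : Over S} (π : V ⟶ X) (Φ : AlgGrp.Action G V) (hπ : Φ.act ≫ π = (G ◁ π) ≫ a.act)
  (chart : ∀ U : X.left.Opens, Set (Γ(V.left, π.left ⁻¹ᵁ U)))
  (hlin : IsLinearLift a π Φ chart hπ)
  (hcover : ∀ x : X.left, ∃ U : X.left.Opens, x ∈ U ∧ (chart U).Nonempty)
  (l l' : Red.Gm S ⟶ G) [IsMonHom l] [IsMonHom l'] {T : Over S} (c d : T ⟶ G)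
  (hdc : d * c = 1)
  (hrel : ∀ (T' : Over S) (t : T' ⟶ T) (u : T' ⟶ Red.Gm S),
    u ≫ l' = (t ≫ d) * (u ≫ l) * (t ≫ c))

include hlin hcover hdc hrel in
theorem hasFibreWt_conj [Subsingleton T.left] [Nonempty T.left] {y : T ⟶ X} {w : ℤ}
    (h : HasFibreWt a π chart Φ l y w) :
    HasFibreWt a π chart Φ l' (lift d y ≫ a.act) w := by
  obtain ⟨hfix, U, yc, hyc, hU, H⟩ := h
  refine ⟨isFixedBy_conj a l l' c d hdc hrel hfix, ?_⟩
  obtain ⟨p₀⟩ := (inferInstance : Nonempty T.left)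
  obtain ⟨U', hp₀U', yc', hyc'⟩ := hcover ((lift d y ≫ a.act).left p₀)
  have hU' : (lift d y ≫ a.act).left ⁻¹ᵁ U' = ⊤ := by
    rw [eq_top_iff]
    intro z _
    rw [Subsingleton.elim z p₀]
    exact hp₀U'
  obtain ⟨cc, hcc⟩ := hlin U U' yc yc' hyc hyc'
  refine ⟨U', yc', hyc', hU', ?_⟩
  intro T' t g v' hv' hgv'
  have hcd := comp_cd c d hdc t
  have hdc' : (t ≫ d) * (t ≫ c) = 1 := by
    rw [← MonObj.comp_mul, hdc, MonObj.comp_one]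
  -- the translated point over `t ≫ y`
  have hvπ : (lift (t ≫ c) v' ≫ Φ.act) ≫ π = t ≫ y := by
    rw [vact_π a π Φ hπ, hv', comp_act, ← act_mul, hcd, act_one]
  have hv₂π : (lift (g ≫ l) (lift (t ≫ c) v' ≫ Φ.act) ≫ Φ.act) ≫ π = t ≫ y := by
    rw [vact_π a π Φ hπ, hvπ]
    exact hfix T' t g
  have e1 : lift (t ≫ d) (lift (t ≫ c) v' ≫ Φ.act) ≫ Φ.act = v' := by
    rw [← act_mul Φ, hdc', act_one Φ]
  have e2 : lift (t ≫ d) (lift (g ≫ l) (lift (t ≫ c) v' ≫ Φ.act) ≫ Φ.act) ≫ Φ.act =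
      lift (g ≫ l') v' ≫ Φ.act := by
    rw [← act_mul Φ, ← act_mul Φ, hrel T' t g]
  have h3 : ⊤ ≤ (lift (t ≫ d) (t ≫ y)).left ⁻¹ᵁ
      (a.act.left ⁻¹ᵁ U' ⊓ (snd G X).left ⁻¹ᵁ U) := by
    intro z _
    constructor
    · change (lift (t ≫ d) (t ≫ y) ≫ a.act).left z ∈ U'
      rw [← comp_act]
      have : t.left z ∈ (lift d y ≫ a.act).left ⁻¹ᵁ U' := by rw [hU']; trivial
      exact this
    · change (lift (t ≫ d) (t ≫ y) ≫ snd G X).left z ∈ U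
      rw [lift_snd]
      have : t.left z ∈ y.left ⁻¹ᵁ U := by rw [hU]; trivial
      exact this
  have hA := linear_at a π Φ hπ yc yc' cc hcc (t ≫ d) (lift (t ≫ c) v' ≫ Φ.act) (t ≫ y) hvπ
    (top_le_preimage π hU' (e1.symm ▸ hv')) (top_le_preimage π hU hvπ) h3
  have hB := linear_at a π Φ hπ yc yc' cc hcc (t ≫ d)
    (lift (g ≫ l) (lift (t ≫ c) v' ≫ Φ.act) ≫ Φ.act) (t ≫ y) hv₂π
    (top_le_preimage π hU' (e2.symm ▸ hgv')) (top_le_preimage π hU hv₂π) h3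
  have hH := H T' t g (lift (t ≫ c) v' ≫ Φ.act) hvπ hv₂π
  rw [evalFn_congr π yc' e2.symm _ (top_le_preimage π hU' (e2.symm ▸ hgv')), hB, hH,
    evalFn_congr π yc' e1.symm _ (top_le_preimage π hU' (e1.symm ▸ hv')), hA]
  ring

end wt


section mu

open GLinSh

variable {V : Over S} (π : V ⟶ X) (Φ : AlgGrp.Action G V) (hπ : Φ.act ≫ π = (G ◁ π) ≫ a.act)
  (chart : ∀ U : X.left.Opens, Set (Γ(V.left, π.left ⁻¹ᵁ U)))
  (hlin : IsLinearLift a π Φ chart hπ)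
  (hcover : ∀ x : X.left, ∃ U : X.left.Opens, x ∈ U ∧ (chart U).Nonempty)
  (l l' : Red.Gm S ⟶ G) [IsMonHom l] [IsMonHom l'] {T : Over S} (c d : T ⟶ G)
  (hdc : d * c = 1)
  (hrel : ∀ (T' : Over S) (t : T' ⟶ T) (u : T' ⟶ Red.Gm S),
    u ≫ l' = (t ≫ d) * (u ≫ l) * (t ≫ c))

include hlin hcover hdc hrel in
theorem isMuOf_conj [Subsingleton T.left] [Nonempty T.left] (x : T ⟶ X) (m : ℤ) :
    IsMuOf a π chart Φ l (lift c x ≫ a.act) m ↔ IsMuOf a π chart Φ l' x m := by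
  have hcd : c * d = 1 := mul_eq_one_comm.mp hdc
  have hrel' : ∀ (T' : Over S) (t : T' ⟶ T) (u : T' ⟶ Red.Gm S),
      u ≫ l = (t ≫ c) * (u ≫ l') * (t ≫ d) := by
    intro T' t u
    have h1 := comp_cd c d hdc t
    rw [hrel T' t u]
    calc u ≫ l = 1 * (u ≫ l) * 1 := by rw [_root_.one_mul, _root_.mul_one]
      _ = ((t ≫ c) * (t ≫ d)) * (u ≫ l) * ((t ≫ c) * (t ≫ d)) := by rw [h1]
      _ = (t ≫ c) * ((t ≫ d) * (u ≫ l) * (t ≫ c)) * (t ≫ d) := by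
        simp only [_root_.mul_assoc]
  constructor
  · rintro ⟨y, hlim, hwt⟩
    exact ⟨lift d y ≫ a.act, isLimitPt_conj a l l' c d hdc hrel hlim,
      hasFibreWt_conj a π Φ hπ chart hlin hcover l l' c d hdc hrel hwt⟩
  · rintro ⟨y', hlim', hwt'⟩
    have hx : lift d (lift c x ≫ a.act) ≫ a.act = x := by rw [← act_mul, hdc, act_one]
    exact ⟨lift c y' ≫ a.act, isLimitPt_conj a l' l d c hcd hrel' (hx.symm ▸ hlim'),
      hasFibreWt_conj a π Φ hπ chart hlin hcover l' l d c hcd hrel' hwt'⟩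

end mu

end Groth.Agent.Lib.Helper18.HMConj
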