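import Mathlib
import Groth.Prelude.Def_HMNum
import Groth.Agent.Lib.Helper18.HMConj

set_option autoImplicit false
set_option linter.unusedSectionVars false
universe u

open CategoryTheory CategoryTheory.Limits MonoidalCategory CartesianMonoidalCategory MonObj
  AlgebraicGeometry Opposite
open Magnet

noncomputable section

namespace Groth.Agent.Lib.Helper18.HMConj2

open HMNum Groth.Agent.Lib.Helper18.HMConj

variable {S : Scheme.{u}} {A G X : Over S} [MonObj A] [GrpObj G]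

theorem isMonHom_conj (l : A ⟶ G) [IsMonHom l] (c : 𝟙_ (Over S) ⟶ G) :
    IsMonHom ((toUnit A ≫ c)⁻¹ * l * (toUnit A ≫ c)) where
  one_hom := by
    rw [MonObj.comp_mul, MonObj.comp_mul, GrpObj.comp_inv, IsMonHom.one_hom l,
      MonObj.one_eq_one G]
    group
  mul_hom := by
    have hK1 : fst A A ≫ (toUnit A ≫ c) = toUnit (A ⊗ A) ≫ c := by
      rw [← Category.assoc, toUnit_unique (fst A A ≫ toUnit A) (toUnit _)]
    have hK2 : snd A A ≫ (toUnit A ≫ c) = toUnit (A ⊗ A) ≫ c := by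
      rw [← Category.assoc, toUnit_unique (snd A A ≫ toUnit A) (toUnit _)]
    have hK3 : (fst A A * snd A A) ≫ (toUnit A ≫ c) = toUnit (A ⊗ A) ≫ c := by
      rw [← Category.assoc, toUnit_unique ((fst A A * snd A A) ≫ toUnit A) (toUnit _)]
    rw [← lift_fst_comp_snd_comp, ← Hom.mul_def, MonObj.mul_eq_mul A]
    rw [MonObj.comp_mul, MonObj.comp_mul, GrpObj.comp_inv, MonObj.comp_mul, MonObj.comp_mul,
      GrpObj.comp_inv, MonObj.comp_mul, MonObj.comp_mul, GrpObj.comp_inv, hK1, hK2, hK3,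
      MonObj.mul_comp]
    group


theorem isMu_conj_iff (k : Type u) [Field k]
    (G X : Over (Spec (CommRingCat.of k))) [GrpObj G]
    (a : AlgGrp.Action G X) (B : GLinSh.LinBun G a) (x : 𝟙_ (Over (Spec (CommRingCat.of k))) ⟶ X)
    (l : Red.Gm (Spec (CommRingCat.of k)) ⟶ G) [IsMonHom l]
    (g₀ : 𝟙_ (Over (Spec (CommRingCat.of k))) ⟶ G)
    (l' : Red.Gm (Spec (CommRingCat.of k)) ⟶ G) [IsMonHom l']
    (hl' : l' = (toUnit _ ≫ g₀)⁻¹ * l * (toUnit _ ≫ g₀))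
    (m : ℤ) : HMNum.IsMu B l (lift g₀ x ≫ a.act) m ↔ HMNum.IsMu B l' x m := by
  have hsub : Subsingleton (𝟙_ (Over (Spec (CommRingCat.of k)))).left :=
    (inferInstance : Subsingleton (PrimeSpectrum k))
  have hne : Nonempty (𝟙_ (Over (Spec (CommRingCat.of k)))).left :=
    (inferInstance : Nonempty (PrimeSpectrum k))
  refine isMuOf_conj a B.π B.lift B.lift_π B.atlas.chart
    B.lift_linear B.atlas.cover l l' g₀ g₀⁻¹ (inv_mul_cancel g₀) ?_ x m
  intro T' t u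
  rw [hl', MonObj.comp_mul, MonObj.comp_mul, GrpObj.comp_inv, GrpObj.comp_inv, ← Category.assoc,
    toUnit_unique (u ≫ toUnit _) t]

theorem mu_set_translate (k : Type u) [Field k]
    (G X : Over (Spec (CommRingCat.of k))) [GrpObj G]
    (a : AlgGrp.Action G X) (B : GLinSh.LinBun G a)
    (nrm : (Red.Gm (Spec (CommRingCat.of k)) ⟶ G) → ℝ)
    (hnrm : ∀ (l : Red.Gm (Spec (CommRingCat.of k)) ⟶ G) [IsMonHom l]
      (g : 𝟙_ (Over (Spec (CommRingCat.of k))) ⟶ G),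
      nrm ((toUnit _ ≫ g) * l * (toUnit _ ≫ g)⁻¹) = nrm l)
    (x : 𝟙_ (Over (Spec (CommRingCat.of k))) ⟶ X) (g : 𝟙_ (Over (Spec (CommRingCat.of k))) ⟶ G)
    (q : ℝ) :
    (∃ (l : Red.Gm (Spec (CommRingCat.of k)) ⟶ G) (_ : IsMonHom l) (m : ℤ),
        l ≠ 1 ∧ HMNum.IsMu B l (lift g x ≫ a.act) m ∧ q = (m : ℝ) / nrm l) ↔
      ∃ (l : Red.Gm (Spec (CommRingCat.of k)) ⟶ G) (_ : IsMonHom l) (m : ℤ),
        l ≠ 1 ∧ HMNum.IsMu B l x m ∧ q = (m : ℝ) / nrm l := by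
  constructor
  · rintro ⟨l, hl, m, hne1, hmu, hq⟩
    have hl'mon : IsMonHom ((toUnit _ ≫ g)⁻¹ * l * (toUnit _ ≫ g)) := isMonHom_conj l g
    refine ⟨(toUnit _ ≫ g)⁻¹ * l * (toUnit _ ≫ g), hl'mon, m, ?_, ?_, ?_⟩
    · intro h
      apply hne1
      have h2 : l = (toUnit _ ≫ g) * ((toUnit _ ≫ g)⁻¹ * l * (toUnit _ ≫ g)) * (toUnit _ ≫ g)⁻¹ := by
        group
      rw [h2, h]
      group
    · exact (isMu_conj_iff k G X a B x l g _ rfl m).mp hmu
    · have h1 := @hnrm ((toUnit _ ≫ g)⁻¹ * l * (toUnit _ ≫ g)) hl'mon g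
      have h2 : (toUnit _ ≫ g) * ((toUnit _ ≫ g)⁻¹ * l * (toUnit _ ≫ g)) * (toUnit _ ≫ g)⁻¹ = l := by
        group
      rw [h2] at h1
      rw [hq, h1]
  · rintro ⟨l', hl', m, hne1, hmu, hq⟩
    have hlmon : IsMonHom ((toUnit _ ≫ g) * l' * (toUnit _ ≫ g)⁻¹) := by
      have h0 := isMonHom_conj l' g⁻¹
      rw [← GrpObj.comp_inv, inv_inv] at h0
      rw [← GrpObj.comp_inv]
      exact h0
    refine ⟨(toUnit _ ≫ g) * l' * (toUnit _ ≫ g)⁻¹, hlmon, m, ?_, ?_, ?_⟩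
    · intro h
      apply hne1
      have h2 : l' = (toUnit _ ≫ g)⁻¹ * ((toUnit _ ≫ g) * l' * (toUnit _ ≫ g)⁻¹) * (toUnit _ ≫ g) := by
        group
      rw [h2, h]
      group
    · refine (isMu_conj_iff k G X a B x _ g l' ?_ m).mpr hmu
      group
    · rw [hq, hnrm l' g]

end Groth.Agent.Lib.Helper18.HMConj2
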