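import Mathlib
import Groth.Prelude.Def_HMNum
import Groth.Agent.Lib.Helper18.HMConj2

set_option autoImplicit false
set_option linter.unusedSectionVars false
universe u

open CategoryTheory CategoryTheory.Limits MonoidalCategory CartesianMonoidalCategory MonObj
  AlgebraicGeometry Opposite
open Magnet

noncomputable section

namespace Groth.Agent.Lib.Helper18.HMPar

open HMNum Groth.Agent.Lib.Helper18.HMConj Groth.Agent.Lib.Helper18.HMLimit
  Groth.Agent.Lib.Helper5.AMonAttr Groth.Agent.Lib.Helper5.AMonDom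

variable {S : Scheme.{u}} {G X : Over S} [GrpObj G] (a : AlgGrp.Action G X)
  (l : Red.Gm S ⟶ G) [IsMonHom l] (g₀ : 𝟙_ (Over S) ⟶ G) (f : A1 S ⟶ G)
  (hf : incl S ≫ f = l * (toUnit _ ≫ g₀) * l⁻¹)

theorem lift_subAct₁ {T' : Over S} (g : T' ⟶ AMonS S ℤ) (b : T' ⟶ AMonS S ↥plus) :
    lift g b ≫ (subAct S ℤ plus).act = (g ≫ AMonS.map S plus.subtype) * b := by
  unfold subAct
  rw [MonAct.lift_restrict_act, MonAct.lift_regular_act]

include hf in
theorem f_conj [IsSeparated G.hom] {T' : Over S} (u : T' ⟶ Red.Gm S) (z : T' ⟶ A1 S) :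
    (lift u z ≫ (subAct S ℤ plus).act) ≫ f = (u ≫ l) * (z ≫ f) * (u ≫ l)⁻¹ := by
  let L' : A1 S ⊗ Red.Gm S ⟶ G := lift (snd _ _) (fst _ _) ≫ (subAct S ℤ plus).act ≫ f
  let R' : A1 S ⊗ Red.Gm S ⟶ G := (snd _ _ ≫ l) * (fst _ _ ≫ f) * (snd _ _ ≫ l)⁻¹
  have hLR : L' = R' := by
    have hd := dominant_subtype (S := S) plus (Red.Gm S)
    apply ext_of_dominant_of_separated (AMonS.map S plus.subtype ▷ Red.Gm S).left
    have h1 : (AMonS.map S plus.subtype ▷ Red.Gm S) ≫ L' =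
        (AMonS.map S plus.subtype ▷ Red.Gm S) ≫ R' := by
      apply Magnet.hom_ext_lift₂
      intro T'' g' s
      have hL : lift g' s ≫ (AMonS.map S plus.subtype ▷ Red.Gm S) ≫ L' =
          ((s * g') ≫ l) * (toUnit T'' ≫ g₀) * ((s * g') ≫ l)⁻¹ := by
        rw [lift_whiskerRight_assoc, ← Category.assoc, comp_lift, lift_snd, lift_fst,
          ← Category.assoc, lift_subAct₁, ← MonObj.mul_comp, Category.assoc]
        change (s * g') ≫ (incl S ≫ f) = _
        rw [hf, MonObj.comp_mul, MonObj.comp_mul, GrpObj.comp_inv, ← Category.assoc,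
          toUnit_unique ((s * g') ≫ toUnit _) (toUnit T'')]
      have hR : lift g' s ≫ (AMonS.map S plus.subtype ▷ Red.Gm S) ≫ R' =
          (s ≫ l) * ((g' ≫ l) * (toUnit T'' ≫ g₀) * (g' ≫ l)⁻¹) * (s ≫ l)⁻¹ := by
        rw [lift_whiskerRight_assoc, MonObj.comp_mul, MonObj.comp_mul, GrpObj.comp_inv,
          ← Category.assoc, lift_snd, ← Category.assoc, lift_fst, Category.assoc]
        change _ * (g' ≫ (incl S ≫ f)) * _ = _
        rw [hf, MonObj.comp_mul, MonObj.comp_mul, GrpObj.comp_inv, ← Category.assoc,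
          toUnit_unique (g' ≫ toUnit _) (toUnit T'')]
      rw [hL, hR, MonObj.mul_comp]
      group
    exact congrArg (fun k => k.left) h1
  have h2 : lift z u ≫ L' = lift z u ≫ R' := by rw [hLR]
  have hL2 : lift z u ≫ L' = (lift u z ≫ (subAct S ℤ plus).act) ≫ f := by
    rw [← Category.assoc, comp_lift, lift_snd, lift_fst, Category.assoc]
  have hR2 : lift z u ≫ R' = (u ≫ l) * (z ≫ f) * (u ≫ l)⁻¹ := by
    rw [MonObj.comp_mul, MonObj.comp_mul, GrpObj.comp_inv, ← Category.assoc, lift_snd,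
      ← Category.assoc, lift_fst]
  rw [← hL2, h2, hR2]


include hf in
theorem unit_f {T : Over S} : (toUnit T ≫ η[AMonS S ↥plus]) ≫ f = toUnit T ≫ g₀ := by
  have h1 : η[AMonS S ↥plus] = η[Red.Gm S] ≫ incl S := (IsMonHom.one_hom (incl S)).symm
  have h2 : η[Red.Gm S] ≫ (incl S ≫ f) = g₀ := by
    rw [hf, MonObj.comp_mul, MonObj.comp_mul, GrpObj.comp_inv, IsMonHom.one_hom l,
      MonObj.one_eq_one G, inv_one, _root_.mul_one, _root_.one_mul, ← Category.assoc,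
      toUnit_unique (η[Red.Gm S] ≫ toUnit _) (𝟙 _), Category.id_comp]
  rw [h1, Category.assoc, Category.assoc, h2]

include hf in
/-- the value of `f` at the origin commutes with `l`. -/
theorem origin_f_comm [IsSeparated G.hom] {T' : Over S} (u : T' ⟶ Red.Gm S) :
    (u ≫ l) * (toUnit T' ≫ origin S ≫ f) * (u ≫ l)⁻¹ = toUnit T' ≫ origin S ≫ f := by
  have h := f_conj l g₀ f hf u (toUnit T' ≫ origin S)
  rw [origin_fixed, Category.assoc] at h
  exact h.symm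

include hf in
theorem isLimitPt_par [IsSeparated G.hom] {T : Over S} {x y : T ⟶ X} (h : IsLimitPt a l x y) :
    IsLimitPt a l (lift (toUnit T ≫ g₀) x ≫ a.act)
      (lift (toUnit T ≫ origin S ≫ f) y ≫ a.act) := by
  obtain ⟨φ, hφx, hφy⟩ := h
  have hφx' : lift (toUnit T ≫ η[AMonS S ↥plus]) (𝟙 T) ≫ φ.1 = x := hφx
  let φ' : A1 S ⊗ T ⟶ X := lift (fst _ _ ≫ f) φ.1 ≫ a.act
  have hφ' : ∀ {T' : Over S} (b : T' ⟶ A1 S) (t : T' ⟶ T),
      lift b t ≫ φ' = lift (b ≫ f) (lift b t ≫ φ.1) ≫ a.act := by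
    intro T' b t
    rw [← Category.assoc, comp_lift, ← Category.assoc, lift_fst]
  refine ⟨⟨φ', ?_⟩, ?_, ?_⟩
  · rw [MonAct.mem_eqvHom_iff]
    intro T' g b t
    rw [hφ', hφ', (MonAct.mem_eqvHom_iff φ.1).mp φ.2 T' g b t, f_conj l g₀ f hf g b]
    rw [MonAct.lift_restrict_act, MonAct.lift_restrict_act, MonAct.ofAction_act, ← act_mul,
      ← act_mul]
    congr 2
    group
  · change lift _ _ ≫ φ' = _
    rw [hφ', hφx', unit_f l g₀ f hf]
  · rw [limitPt_eq]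
    change lift _ _ ≫ φ' = _
    rw [hφ', ← hφy, limitPt_eq, Category.assoc]


section mu

open GLinSh

variable {V : Over S} (π : V ⟶ X) (Φ : AlgGrp.Action G V) (hπ : Φ.act ≫ π = (G ◁ π) ≫ a.act)
  (chart : ∀ U : X.left.Opens, Set (Γ(V.left, π.left ⁻¹ᵁ U)))
  (hlin : IsLinearLift a π Φ chart hπ)
  (hcover : ∀ x : X.left, ∃ U : X.left.Opens, x ∈ U ∧ (chart U).Nonempty)

include hf hlin hcover in
theorem isMuOf_par [IsSeparated G.hom] {T : Over S} [Subsingleton T.left] [Nonempty T.left]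
    (x : T ⟶ X) (m : ℤ) (h : IsMuOf a π chart Φ l x m) :
    IsMuOf a π chart Φ l (lift (toUnit T ≫ g₀) x ≫ a.act) m := by
  obtain ⟨y, hlim, hwt⟩ := h
  refine ⟨lift (toUnit T ≫ origin S ≫ f) y ≫ a.act, isLimitPt_par a l g₀ f hf hlim, ?_⟩
  refine hasFibreWt_conj a π Φ hπ chart hlin hcover l l (toUnit T ≫ origin S ≫ f)⁻¹
    (toUnit T ≫ origin S ≫ f) (mul_inv_cancel _) ?_ hwt
  intro T' t u
  have h1 := origin_f_comm l g₀ f hf u
  have h2 : t ≫ toUnit T ≫ origin S ≫ f = toUnit T' ≫ origin S ≫ f := by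
    rw [← Category.assoc, toUnit_unique (t ≫ toUnit T) (toUnit T')]
  rw [GrpObj.comp_inv, h2]
  calc u ≫ l = ((u ≫ l) * (toUnit T' ≫ origin S ≫ f) * (u ≫ l)⁻¹) * (u ≫ l) *
        (toUnit T' ≫ origin S ≫ f)⁻¹ := by group
    _ = (toUnit T' ≫ origin S ≫ f) * (u ≫ l) * (toUnit T' ≫ origin S ≫ f)⁻¹ := by rw [h1]

include hf hlin hcover in
theorem isMuOf_par_iff [IsSeparated G.hom] {T : Over S} [Subsingleton T.left] [Nonempty T.left]
    (x : T ⟶ X) (m : ℤ) :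
    IsMuOf a π chart Φ l x m ↔ IsMuOf a π chart Φ l (lift (toUnit T ≫ g₀) x ≫ a.act) m := by
  constructor
  · exact isMuOf_par a l g₀ f hf π Φ hπ chart hlin hcover x m
  · intro h
    have hf' : incl S ≫ f⁻¹ = l * (toUnit _ ≫ g₀⁻¹) * l⁻¹ := by
      rw [GrpObj.comp_inv, hf, GrpObj.comp_inv]
      group
    have h1 := isMuOf_par a l g₀⁻¹ f⁻¹ hf' π Φ hπ chart hlin hcover _ m h
    have h2 : lift (toUnit T ≫ g₀⁻¹) (lift (toUnit T ≫ g₀) x ≫ a.act) ≫ a.act = x := by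
      rw [← act_mul, GrpObj.comp_inv, inv_mul_cancel, act_one]
    rw [h2] at h1
    exact h1

end mu

theorem isMu_par_iff (k : Type u) [Field k]
    (G X : Over (Spec (CommRingCat.of k))) [GrpObj G] [IsSeparated G.hom]
    (a : AlgGrp.Action G X) (B : GLinSh.LinBun G a) (x : 𝟙_ (Over (Spec (CommRingCat.of k))) ⟶ X)
    (l : Red.Gm (Spec (CommRingCat.of k)) ⟶ G) [IsMonHom l]
    (g₀ : 𝟙_ (Over (Spec (CommRingCat.of k))) ⟶ G)
    (hg₀ : ∃ f : HMNum.A1 (Spec (CommRingCat.of k)) ⟶ G,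
      HMNum.incl (Spec (CommRingCat.of k)) ≫ f = l * (toUnit _ ≫ g₀) * l⁻¹)
    (l' : Red.Gm (Spec (CommRingCat.of k)) ⟶ G) [IsMonHom l']
    (hl' : l' = (toUnit _ ≫ g₀)⁻¹ * l * (toUnit _ ≫ g₀))
    (m : ℤ) : HMNum.IsMu B l x m ↔ HMNum.IsMu B l' x m := by
  have hsub : Subsingleton (𝟙_ (Over (Spec (CommRingCat.of k)))).left :=
    (inferInstance : Subsingleton (PrimeSpectrum k))
  have hne : Nonempty (𝟙_ (Over (Spec (CommRingCat.of k)))).left :=
    (inferInstance : Nonempty (PrimeSpectrum k))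
  obtain ⟨f, hf⟩ := hg₀
  have h1 := isMuOf_par_iff a l g₀ f hf B.π B.lift B.lift_π B.atlas.chart B.lift_linear
    B.atlas.cover x m
  have h2 : toUnit (𝟙_ (Over (Spec (CommRingCat.of k)))) ≫ g₀ = g₀ := by
    rw [toUnit_unique (toUnit (𝟙_ (Over (Spec (CommRingCat.of k))))) (𝟙 _), Category.id_comp]
  rw [h2] at h1
  exact h1.trans (Groth.Agent.Lib.Helper18.HMConj2.isMu_conj_iff k G X a B x l g₀ l' hl' m)

end Groth.Agent.Lib.Helper18.HMPar
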