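import Groth.Prelude.Def_KZero
import Mathlib.Tactic

set_option autoImplicit false
universe v u w
open CategoryTheory CategoryTheory.Limits

namespace Groth.Agent.Lib.Helper18

section

variable {A : Type u} [Category.{v} A] [Abelian A] (P : ObjectProperty A)
  {G : Type w} [AddCommGroup G]

noncomputable def k0subLift (f : Subtype P → G)
    (hf : ∀ (S : ShortComplex A) (h₁ : P S.X₁) (h₂ : P S.X₂) (h₃ : P S.X₃), S.ShortExact →
      f ⟨S.X₂, h₂⟩ = f ⟨S.X₁, h₁⟩ + f ⟨S.X₃, h₃⟩) : KZero.K0sub P →+ G :=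
  QuotientAddGroup.lift (KZero.relSub P) (FreeAbelianGroup.lift f) (by
    refine (AddSubgroup.closure_le _).2 ?_
    rintro x ⟨S, h₁, h₂, h₃, hS, rfl⟩
    change FreeAbelianGroup.lift f _ = 0
    rw [map_sub, map_sub, FreeAbelianGroup.lift_apply_of, FreeAbelianGroup.lift_apply_of,
      FreeAbelianGroup.lift_apply_of, hf S h₁ h₂ h₃ hS]
    abel)

theorem k0subLift_clSub (f : Subtype P → G)
    (hf : ∀ (S : ShortComplex A) (h₁ : P S.X₁) (h₂ : P S.X₂) (h₃ : P S.X₃), S.ShortExact →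
      f ⟨S.X₂, h₂⟩ = f ⟨S.X₁, h₁⟩ + f ⟨S.X₃, h₃⟩) (X : A) (h : P X) :
    k0subLift P f hf (KZero.clSub P X) = f ⟨X, h⟩ := by
  unfold KZero.clSub
  rw [dif_pos h]
  unfold k0subLift
  rw [QuotientAddGroup.lift_mk, FreeAbelianGroup.lift_apply_of]

theorem clSub_eq_add (S : ShortComplex A) (h₁ : P S.X₁) (h₂ : P S.X₂) (h₃ : P S.X₃)
    (hS : S.ShortExact) : KZero.clSub P S.X₂ = KZero.clSub P S.X₁ + KZero.clSub P S.X₃ := by
  unfold KZero.clSub
  rw [dif_pos h₁, dif_pos h₂, dif_pos h₃]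
  have hmem : FreeAbelianGroup.of (⟨S.X₂, h₂⟩ : Subtype P) - FreeAbelianGroup.of ⟨S.X₁, h₁⟩ -
      FreeAbelianGroup.of ⟨S.X₃, h₃⟩ ∈ KZero.relSub P :=
    AddSubgroup.subset_closure ⟨S, h₁, h₂, h₃, hS, rfl⟩
  have h0 := (QuotientAddGroup.eq_zero_iff _).mpr hmem
  rw [QuotientAddGroup.mk_sub, QuotientAddGroup.mk_sub, sub_sub, sub_eq_zero] at h0
  exact h0

theorem k0sub_induction {motive : KZero.K0sub P → Prop} (z : KZero.K0sub P)
    (zero : motive 0)
    (cl : ∀ (X : A) (_ : P X), motive (KZero.clSub P X))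
    (neg : ∀ x, motive x → motive (-x))
    (add : ∀ x y, motive x → motive y → motive (x + y)) : motive z := by
  obtain ⟨w, rfl⟩ := QuotientAddGroup.mk_surjective z
  induction w using FreeAbelianGroup.induction_on with
  | zero => exact zero
  | of X =>
    have := cl X.1 X.2
    unfold KZero.clSub at this
    rw [dif_pos X.2] at this
    exact this
  | neg X ih =>
    rw [QuotientAddGroup.mk_neg]
    exact neg _ (by
      have := cl X.1 X.2
      unfold KZero.clSub at this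
      rw [dif_pos X.2] at this
      exact this)
  | add x y hx hy =>
    rw [QuotientAddGroup.mk_add]
    exact add _ _ hx hy

end

end Groth.Agent.Lib.Helper18
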