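import Mathlib

set_option autoImplicit false
set_option linter.unusedSectionVars false

namespace Groth.Agent.Lib.Helper18.Kempf

universe u

variable {E : Type u} [NormedAddCommGroup E] [InnerProductSpace ℝ E] [FiniteDimensional ℝ E]

noncomputable def mn (G : Finset (Module.Dual ℝ E)) (hG : G.Nonempty) (v : E) : ℝ :=
  G.inf' hG (fun g => g v)

theorem le_mn (G : Finset (Module.Dual ℝ E)) (hG : G.Nonempty) (v : E) (c : ℝ) :
    c ≤ mn G hG v ↔ ∀ g ∈ G, c ≤ g v := Finset.le_inf'_iff _ _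

theorem lt_mn (G : Finset (Module.Dual ℝ E)) (hG : G.Nonempty) (v : E) (c : ℝ) :
    c < mn G hG v ↔ ∀ g ∈ G, c < g v := Finset.lt_inf'_iff _

theorem mn_le (G : Finset (Module.Dual ℝ E)) (hG : G.Nonempty) (v : E) (g : Module.Dual ℝ E)
    (hg : g ∈ G) : mn G hG v ≤ g v := Finset.inf'_le _ hg

theorem exists_mn_eq (G : Finset (Module.Dual ℝ E)) (hG : G.Nonempty) (v : E) :
    ∃ g ∈ G, mn G hG v = g v := by
  obtain ⟨g, hg, h⟩ := Finset.exists_mem_eq_inf' hG (fun g => g v)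
  exact ⟨g, hg, h⟩

theorem mn_smul (G : Finset (Module.Dual ℝ E)) (hG : G.Nonempty) (v : E) (t : ℝ) (ht : 0 ≤ t) :
    mn G hG (t • v) = t * mn G hG v := by
  apply le_antisymm
  · obtain ⟨g, hg, h⟩ := exists_mn_eq G hG v
    rw [h]
    have := mn_le G hG (t • v) g hg
    rwa [map_smul, smul_eq_mul] at this
  · rw [le_mn]
    intro g hg
    rw [map_smul, smul_eq_mul]
    exact mul_le_mul_of_nonneg_left (mn_le G hG v g hg) ht

theorem mn_zero (G : Finset (Module.Dual ℝ E)) (hG : G.Nonempty) : mn G hG 0 = 0 := by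
  have := mn_smul G hG 0 0 le_rfl
  simpa using this

theorem continuous_mn (G : Finset (Module.Dual ℝ E)) (hG : G.Nonempty) :
    Continuous (mn G hG) := by
  unfold mn
  apply Continuous.finset_inf'_apply
  intro g _
  exact LinearMap.continuous_of_finiteDimensional g

theorem mn_add_le (G : Finset (Module.Dual ℝ E)) (hG : G.Nonempty) (v w : E) :
    mn G hG v + mn G hG w ≤ mn G hG (v + w) := by
  rw [le_mn]
  intro g hg
  rw [map_add]
  exact add_le_add (mn_le G hG v g hg) (mn_le G hG w g hg)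

theorem exists_max (F G : Finset (Module.Dual ℝ E)) (hF : F.Nonempty) (hG : G.Nonempty)
    (hpos : ∃ v : E, 0 ≤ mn F hF v ∧ 0 < mn G hG v) :
    ∃ v₁ : E, ‖v₁‖ = 1 ∧ 0 ≤ mn F hF v₁ ∧ 0 < mn G hG v₁ ∧
      ∀ w : E, w ≠ 0 → 0 ≤ mn F hF w → mn G hG w / ‖w‖ ≤ mn G hG v₁ := by
  obtain ⟨v, hv1, hv2⟩ := hpos
  have hv0 : v ≠ 0 := by
    rintro rfl
    rw [mn_zero] at hv2
    exact lt_irrefl _ hv2
  have hnpos : 0 < ‖v‖ := norm_pos_iff.mpr hv0
  set K₁ : Set E := Metric.sphere (0 : E) 1 ∩ {w | 0 ≤ mn F hF w} with hK₁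
  have hcomp : IsCompact K₁ := by
    apply (isCompact_sphere (0 : E) 1).inter_right
    exact isClosed_le continuous_const (continuous_mn F hF)
  have hnorm : ∀ w : E, w ≠ 0 → 0 ≤ mn F hF w → (‖w‖⁻¹ • w) ∈ K₁ := by
    intro w hw0 hw
    have hwpos : 0 < ‖w‖ := norm_pos_iff.mpr hw0
    refine ⟨?_, ?_⟩
    · rw [mem_sphere_zero_iff_norm, norm_smul, norm_inv, norm_norm, inv_mul_cancel₀ hwpos.ne']
    · change 0 ≤ mn F hF (‖w‖⁻¹ • w)
      rw [mn_smul F hF w _ (inv_nonneg.mpr hwpos.le)]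
      exact mul_nonneg (inv_nonneg.mpr hwpos.le) hw
  have hne : K₁.Nonempty := ⟨_, hnorm v hv0 hv1⟩
  obtain ⟨v₁, hv₁K, hmax⟩ := hcomp.exists_isMaxOn hne (continuous_mn G hG).continuousOn
  have hv₁n : ‖v₁‖ = 1 := mem_sphere_zero_iff_norm.mp hv₁K.1
  have hbound : ∀ w : E, w ≠ 0 → 0 ≤ mn F hF w → mn G hG w / ‖w‖ ≤ mn G hG v₁ := by
    intro w hw0 hw
    have hwpos : 0 < ‖w‖ := norm_pos_iff.mpr hw0
    have : mn G hG (‖w‖⁻¹ • w) ≤ mn G hG v₁ := hmax (hnorm w hw0 hw)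
    rw [mn_smul G hG w _ (inv_nonneg.mpr hwpos.le)] at this
    rw [div_eq_inv_mul]
    exact this
  refine ⟨v₁, hv₁n, hv₁K.2, ?_, hbound⟩
  have := hbound v hv0 hv1
  exact lt_of_lt_of_le (div_pos hv2 hnpos) this

theorem ray_unique (F G : Finset (Module.Dual ℝ E)) (hF : F.Nonempty) (hG : G.Nonempty)
    (M : ℝ) (hM : 0 < M)
    (hbound : ∀ w : E, w ≠ 0 → 0 ≤ mn F hF w → mn G hG w / ‖w‖ ≤ M)
    (v w : E) (hv0 : v ≠ 0) (hw0 : w ≠ 0) (hvF : 0 ≤ mn F hF v) (hwF : 0 ≤ mn F hF w)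
    (hv : mn G hG v / ‖v‖ = M) (hw : mn G hG w / ‖w‖ = M) : ∃ t : ℝ, 0 < t ∧ w = t • v := by
  have hvn : 0 < ‖v‖ := norm_pos_iff.mpr hv0
  have hwn : 0 < ‖w‖ := norm_pos_iff.mpr hw0
  have ha : mn G hG v = M * ‖v‖ := by
    rw [← hv]
    field_simp
  have hb : mn G hG w = M * ‖w‖ := by
    rw [← hw]
    field_simp
  have hapos : 0 < mn G hG v := by rw [ha]; positivity
  have hbpos : 0 < mn G hG w := by rw [hb]; positivity
  set a := mn G hG v with ha_def
  set b := mn G hG w with hb_def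
  by_cases heq : a⁻¹ • v = b⁻¹ • w
  · refine ⟨b / a, div_pos hbpos hapos, ?_⟩
    have : w = b • (b⁻¹ • w) := by
      rw [smul_smul, mul_inv_cancel₀ hbpos.ne', one_smul]
    rw [this, ← heq, smul_smul, div_eq_mul_inv]
  · exfalso
    set v' := a⁻¹ • v with hv'
    set w' := b⁻¹ • w with hw'
    have hGv' : mn G hG v' = 1 := by
      rw [hv', mn_smul G hG v _ (inv_nonneg.mpr hapos.le), ← ha_def, inv_mul_cancel₀ hapos.ne']
    have hGw' : mn G hG w' = 1 := by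
      rw [hw', mn_smul G hG w _ (inv_nonneg.mpr hbpos.le), ← hb_def, inv_mul_cancel₀ hbpos.ne']
    have hFv' : 0 ≤ mn F hF v' := by
      rw [hv', mn_smul F hF v _ (inv_nonneg.mpr hapos.le)]
      exact mul_nonneg (inv_nonneg.mpr hapos.le) hvF
    have hFw' : 0 ≤ mn F hF w' := by
      rw [hw', mn_smul F hF w _ (inv_nonneg.mpr hbpos.le)]
      exact mul_nonneg (inv_nonneg.mpr hbpos.le) hwF
    have hnv' : ‖v'‖ = M⁻¹ := by
      rw [hv', norm_smul, norm_inv, Real.norm_of_nonneg hapos.le, ha]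
      field_simp
    have hnw' : ‖w'‖ = M⁻¹ := by
      rw [hw', norm_smul, norm_inv, Real.norm_of_nonneg hbpos.le, hb]
      field_simp
    set m := (2 : ℝ)⁻¹ • (v' + w') with hm
    have hGm : 1 ≤ mn G hG m := by
      rw [hm, mn_smul G hG _ _ (by norm_num)]
      have := mn_add_le G hG v' w'
      rw [hGv', hGw'] at this
      linarith
    have hFm : 0 ≤ mn F hF m := by
      rw [hm, mn_smul F hF _ _ (by norm_num)]
      have := mn_add_le F hF v' w'
      have h2 : 0 ≤ mn F hF (v' + w') := by linarith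
      positivity
    have hm0 : m ≠ 0 := by
      intro h0
      rw [h0, mn_zero] at hGm
      linarith
    have hmn : 0 < ‖m‖ := norm_pos_iff.mpr hm0
    have hdiff : 0 < ‖v' - w'‖ := norm_pos_iff.mpr (sub_ne_zero.mpr heq)
    have hpar := parallelogram_law_with_norm ℝ v' w'
    rw [hnv', hnw'] at hpar
    have hnm : ‖m‖ = 2⁻¹ * ‖v' + w'‖ := by
      rw [hm, norm_smul]
      norm_num
    have hlt : ‖v' + w'‖ * ‖v' + w'‖ < (2 * M⁻¹) * (2 * M⁻¹) := by nlinarith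
    have hlt2 : ‖v' + w'‖ < 2 * M⁻¹ := by
      by_contra hcon
      push Not at hcon
      have hMi : 0 < M⁻¹ := inv_pos.mpr hM
      nlinarith
    have hmlt : ‖m‖ < M⁻¹ := by
      rw [hnm]
      linarith
    have h1 := hbound m hm0 hFm
    have h2 : M < mn G hG m / ‖m‖ := by
      rw [lt_div_iff₀ hmn]
      have : M * ‖m‖ < M * M⁻¹ := mul_lt_mul_of_pos_left hmlt hM
      rw [mul_inv_cancel₀ hM.ne'] at this
      linarith
    linarith

theorem quad_small (c n δ : ℝ) (hn : 0 ≤ n) (hδ : 0 < δ)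
    (h : ∀ ε : ℝ, |ε| < δ → 0 ≤ 2 * ε * c + ε ^ 2 * n) : c = 0 := by
  by_contra hc
  have hcpos : 0 < |c| := abs_pos.mpr hc
  set τ := min (δ / (2 * |c|)) (1 / (n + 1)) with hτ
  have hτpos : 0 < τ := by
    rw [hτ]
    apply lt_min
    · positivity
    · positivity
  have hτ1 : τ ≤ δ / (2 * |c|) := min_le_left _ _
  have hτ2 : τ ≤ 1 / (n + 1) := min_le_right _ _
  have hτn : τ * n < 1 := by
    have h1 : τ * n ≤ 1 / (n + 1) * n := mul_le_mul_of_nonneg_right hτ2 hn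
    have h2 : 1 / (n + 1) * n < 1 := by
      rw [div_mul_eq_mul_div, one_mul, div_lt_one (by positivity)]
      linarith
    linarith
  have hε : |(-c * τ)| < δ := by
    rw [abs_mul, abs_neg, abs_of_pos hτpos]
    have : |c| * τ ≤ |c| * (δ / (2 * |c|)) := mul_le_mul_of_nonneg_left hτ1 hcpos.le
    have h2 : |c| * (δ / (2 * |c|)) = δ / 2 := by
      field_simp
    linarith
  have := h (-c * τ) hε
  have hc2 : 0 < c ^ 2 := by positivity
  have key : 2 * (-c * τ) * c + (-c * τ) ^ 2 * n = c ^ 2 * τ * (τ * n - 2) := by ring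
  rw [key] at this
  have hneg : c ^ 2 * τ * (τ * n - 2) < 0 := by
    apply mul_neg_of_pos_of_neg
    · positivity
    · linarith
  linarith

theorem active_orth (F G : Finset (Module.Dual ℝ E)) (hF : F.Nonempty) (hG : G.Nonempty)
    (vs : E) (hFs : 0 ≤ mn F hF vs) (hGs : 1 ≤ mn G hG vs)
    (hmin : ∀ w : E, 0 ≤ mn F hF w → 1 ≤ mn G hG w → ‖vs‖ ≤ ‖w‖)
    (w : E) (hwF : ∀ f ∈ F, f vs = 0 → f w = 0) (hwG : ∀ g ∈ G, g vs = 1 → g w = 0) :
    inner ℝ vs w = 0 := by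
  have hcontF : ∀ f : Module.Dual ℝ E, Continuous (fun ε : ℝ => f (vs + ε • w)) := by
    intro f
    have : (fun ε : ℝ => f (vs + ε • w)) = fun ε : ℝ => f vs + ε * f w := by
      funext ε
      rw [map_add, map_smul, smul_eq_mul]
    rw [this]
    fun_prop
  have evF : ∀ᶠ ε in nhds (0 : ℝ), ∀ f ∈ F, 0 ≤ f (vs + ε • w) := by
    rw [Filter.eventually_all_finset]
    intro f hf
    have hfv : 0 ≤ f vs := (le_mn F hF vs 0).mp hFs f hf
    by_cases h0 : f vs = 0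
    · apply Filter.Eventually.of_forall
      intro ε
      rw [map_add, map_smul, h0, hwF f hf h0]
      simp
    · have hpos : 0 < f vs := lt_of_le_of_ne hfv (Ne.symm h0)
      have h1 : ∀ᶠ ε in nhds (0 : ℝ), 0 < f (vs + ε • w) := by
        have hat : ContinuousAt (fun ε : ℝ => f (vs + ε • w)) 0 := (hcontF f).continuousAt
        have hev : ∀ᶠ y in nhds ((fun ε : ℝ => f (vs + ε • w)) 0), 0 < y :=
          lt_mem_nhds (by simpa using hpos)
        exact hat.eventually hev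
      exact h1.mono (fun ε h => h.le)
  have evG : ∀ᶠ ε in nhds (0 : ℝ), ∀ g ∈ G, 1 ≤ g (vs + ε • w) := by
    rw [Filter.eventually_all_finset]
    intro g hg
    have hgv : 1 ≤ g vs := (le_mn G hG vs 1).mp hGs g hg
    by_cases h0 : g vs = 1
    · apply Filter.Eventually.of_forall
      intro ε
      rw [map_add, map_smul, h0, hwG g hg h0]
      simp
    · have hpos : 1 < g vs := lt_of_le_of_ne hgv (Ne.symm h0)
      have h1 : ∀ᶠ ε in nhds (0 : ℝ), 1 < g (vs + ε • w) := by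
        have hat : ContinuousAt (fun ε : ℝ => g (vs + ε • w)) 0 := (hcontF g).continuousAt
        have hev : ∀ᶠ y in nhds ((fun ε : ℝ => g (vs + ε • w)) 0), 1 < y :=
          lt_mem_nhds (by simpa using hpos)
        exact hat.eventually hev
      exact h1.mono (fun ε h => h.le)
  have ev := evF.and evG
  rw [Metric.eventually_nhds_iff] at ev
  obtain ⟨δ, hδ, hball⟩ := ev
  apply quad_small (inner ℝ vs w) (‖w‖ ^ 2) δ (by positivity) hδ
  intro ε hε
  have hε' : dist ε 0 < δ := by simpa [Real.dist_eq] using hε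
  obtain ⟨h1, h2⟩ := hball hε'
  have hle := hmin (vs + ε • w) ((le_mn F hF _ 0).mpr h1) ((le_mn G hG _ 1).mpr h2)
  have hsq : ‖vs‖ ^ 2 ≤ ‖vs + ε • w‖ ^ 2 := by
    apply pow_le_pow_left₀ (norm_nonneg _) hle
  rw [@norm_add_sq_real, norm_smul, inner_smul_right, mul_pow, Real.norm_eq_abs, sq_abs] at hsq
  linarith


theorem exists_ratProj : ∃ g : ℝ →ₗ[ℚ] ℚ, ∀ q : ℚ, g (q : ℝ) = q := by
  have hinj : LinearMap.ker (Algebra.linearMap ℚ ℝ) = ⊥ := by
    rw [LinearMap.ker_eq_bot]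
    exact (algebraMap ℚ ℝ).injective
  obtain ⟨g, hg⟩ := LinearMap.exists_leftInverse_of_injective (Algebra.linearMap ℚ ℝ) hinj
  refine ⟨g, fun q => ?_⟩
  have := congrArg (fun f => f q) hg
  simpa using this

theorem ratProj_mul_int (g : ℝ →ₗ[ℚ] ℚ) (x : ℝ) (n : ℤ) : g (x * n) = g x * n := by
  have : x * (n : ℝ) = (n : ℚ) • x := by
    rw [Rat.smul_def]
    push_cast
    ring
  rw [this, map_smul, smul_eq_mul, mul_comm]

theorem rational_coords {ι : Type*} [Fintype ι] [DecidableEq ι] (b : Module.Basis ι ℝ E)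
    (H : Finset (Module.Dual ℝ E))
    (hbH : ∀ h ∈ H, ∀ i, ∃ n : ℤ, h (b i) = n)
    (hbb : ∀ i j, ∃ n : ℤ, inner ℝ (b i) (b j) = (n : ℝ))
    (vs : E) (hvH : ∀ h ∈ H, ∃ n : ℤ, h vs = n)
    (horth : ∀ w : E, (∀ h ∈ H, h w = 0) → inner ℝ vs w = 0) :
    ∀ i, ∃ q : ℚ, b.repr vs i = (q : ℝ) := by
  classical
  obtain ⟨g, hg⟩ := exists_ratProj
  have hgz : ∀ n : ℤ, g (n : ℝ) = n := by
    intro n
    have := hg (n : ℚ)
    simpa using this
  choose nH hnH using hbH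
  choose Γ hΓ using hbb
  have hK : (innerₗ E vs : E →ₗ[ℝ] ℝ) ∈ Submodule.span ℝ (Set.range (fun h : H => (h.1 : E →ₗ[ℝ] ℝ))) := by
    apply mem_span_of_iInf_ker_le_ker
    intro w hw
    rw [Submodule.mem_iInf] at hw
    rw [LinearMap.mem_ker, innerₗ_apply_apply]
    apply horth
    intro h hh
    exact hw ⟨h, hh⟩
  obtain ⟨c, hc⟩ := (Submodule.mem_span_range_iff_exists_fun ℝ).mp hK
  have hcx : ∀ x : E, inner ℝ vs x = ∑ h : H, c h * (h.1 x) := by
    intro x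
    have := congrArg (fun f : E →ₗ[ℝ] ℝ => f x) hc
    simp only [LinearMap.coe_sum, Finset.sum_apply, LinearMap.smul_apply, smul_eq_mul,
      innerₗ_apply_apply] at this
    exact this.symm
  set x : ι → ℝ := fun i => b.repr vs i with hx
  have hvs : vs = ∑ i, x i • b i := (b.sum_repr vs).symm
  set v' : E := ∑ i, ((g (x i) : ℚ) : ℝ) • b i with hv'
  have hHv' : ∀ h ∈ H, h v' = h vs := by
    intro h hh
    obtain ⟨n, hn⟩ := hvH h hh
    have e1 : h vs = ∑ i, x i * (nH h hh i : ℝ) := by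
      conv_lhs => rw [hvs]
      rw [map_sum]
      apply Finset.sum_congr rfl
      intro i _
      rw [map_smul, smul_eq_mul, hnH h hh i]
    have e2 : g (h vs) = ∑ i, g (x i) * (nH h hh i : ℚ) := by
      rw [e1, map_sum]
      apply Finset.sum_congr rfl
      intro i _
      exact ratProj_mul_int g _ _
    rw [hn, hgz] at e2
    rw [hv', map_sum, hn]
    have e3 : ∑ i, h (((g (x i) : ℚ) : ℝ) • b i) = ∑ i, ((g (x i) : ℚ) : ℝ) * (nH h hh i : ℝ) := by
      apply Finset.sum_congr rfl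
      intro i _
      rw [map_smul, smul_eq_mul, hnH h hh i]
    rw [e3]
    have := congrArg (fun q : ℚ => (q : ℝ)) e2
    simp only [Rat.cast_intCast, Rat.cast_sum, Rat.cast_mul] at this
    exact this.symm
  have hinner_b : ∀ j, inner ℝ v' (b j) = ∑ h : H, ((g (c h) : ℚ) : ℝ) * (h.1 (b j)) := by
    intro j
    have e1 : inner ℝ vs (b j) = ∑ i, x i * (Γ i j : ℝ) := by
      conv_lhs => rw [hvs]
      rw [sum_inner]
      apply Finset.sum_congr rfl
      intro i _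
      rw [inner_smul_left, hΓ i j]
      simp
    have e2 : inner ℝ vs (b j) = ∑ h : H, c h * (nH h.1 h.2 j : ℝ) := by
      rw [hcx]
      apply Finset.sum_congr rfl
      intro h _
      rw [hnH h.1 h.2 j]
    have e3 : ∑ i, g (x i) * (Γ i j : ℚ) = ∑ h : H, g (c h) * (nH h.1 h.2 j : ℚ) := by
      have := congrArg g (e1.symm.trans e2)
      rw [map_sum, map_sum] at this
      rw [Finset.sum_congr rfl (fun i _ => ratProj_mul_int g (x i) (Γ i j)),
        Finset.sum_congr rfl (fun h _ => ratProj_mul_int g (c h) (nH h.1 h.2 j))] at this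
      exact this
    have e4 := congrArg (fun q : ℚ => (q : ℝ)) e3
    simp only [Rat.cast_intCast, Rat.cast_sum, Rat.cast_mul] at e4
    rw [hv', sum_inner]
    have e5 : ∑ i, inner ℝ (((g (x i) : ℚ) : ℝ) • b i) (b j) = ∑ i, ((g (x i) : ℚ) : ℝ) * (Γ i j : ℝ) := by
      apply Finset.sum_congr rfl
      intro i _
      rw [inner_smul_left, hΓ i j]
      simp
    rw [e5, e4]
    apply Finset.sum_congr rfl
    intro h _
    rw [hnH h.1 h.2 j]
  have hinner : ∀ y : E, inner ℝ v' y = ∑ h : H, ((g (c h) : ℚ) : ℝ) * (h.1 y) := by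
    intro y
    have hlin : (innerₗ E v' : E →ₗ[ℝ] ℝ) = ∑ h : H, ((g (c h) : ℚ) : ℝ) • (h.1 : E →ₗ[ℝ] ℝ) := by
      apply b.ext
      intro j
      rw [innerₗ_apply_apply, hinner_b j]
      simp only [LinearMap.coe_sum, Finset.sum_apply, LinearMap.smul_apply, smul_eq_mul]
    have := congrArg (fun f : E →ₗ[ℝ] ℝ => f y) hlin
    simp only [LinearMap.coe_sum, Finset.sum_apply, LinearMap.smul_apply, smul_eq_mul,
      innerₗ_apply_apply] at this
    exact this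
  have hw0 : v' - vs = 0 := by
    have hHw : ∀ h ∈ H, h (v' - vs) = 0 := by
      intro h hh
      rw [map_sub, hHv' h hh, sub_self]
    have h1 : inner ℝ vs (v' - vs) = 0 := horth _ hHw
    have h2 : inner ℝ v' (v' - vs) = 0 := by
      rw [hinner]
      apply Finset.sum_eq_zero
      intro h _
      rw [hHw h.1 h.2, mul_zero]
    have h3 : inner ℝ (v' - vs) (v' - vs) = (0 : ℝ) := by
      rw [inner_sub_left, h1, h2, sub_zero]
    exact inner_self_eq_zero.mp h3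
  have hveq : vs = v' := (sub_eq_zero.mp hw0).symm
  intro i
  refine ⟨g (x i), ?_⟩
  conv_lhs => rw [hveq, hv']
  rw [b.repr_sum_self]


theorem exists_common_den {ι : Type*} [Fintype ι] [DecidableEq ι] (q : ι → ℚ) :
    ∃ N : ℕ, 0 < N ∧ ∀ i, ∃ z : ℤ, (N : ℚ) * q i = z := by
  refine ⟨∏ i, (q i).den, Finset.prod_pos (fun i _ => (q i).den_pos), ?_⟩
  intro i
  refine ⟨(q i).num * ∏ j ∈ Finset.univ.erase i, ((q j).den : ℤ), ?_⟩
  rw [← Finset.mul_prod_erase Finset.univ (fun j => (q j).den) (Finset.mem_univ i)]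
  push_cast
  have := Rat.mul_den_eq_num (q i)
  linear_combination (∏ j ∈ Finset.univ.erase i, ((q j).den : ℚ)) * this

theorem exists_nat_smul_mem (L : Submodule ℤ E) [DiscreteTopology L] [IsZLattice ℝ L]
    {ι : Type*} [Fintype ι] [DecidableEq ι] (bZ : Module.Basis ι ℤ L) (vs : E)
    (hq : ∀ i, ∃ q : ℚ, (bZ.ofZLatticeBasis ℝ L).repr vs i = (q : ℝ)) :
    ∃ N : ℕ, 0 < N ∧ (N : ℝ) • vs ∈ L := by
  choose q hq using hq
  obtain ⟨N, hN, hz⟩ := exists_common_den q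
  refine ⟨N, hN, ?_⟩
  rw [← bZ.ofZLatticeBasis_span ℝ L, Module.Basis.mem_span_iff_repr_mem]
  intro i
  obtain ⟨z, hz⟩ := hz i
  refine ⟨z, ?_⟩
  rw [map_smul, Finsupp.smul_apply, hq i, smul_eq_mul]
  have := congrArg (fun r : ℚ => (r : ℝ)) hz
  simp only [Rat.cast_mul, Rat.cast_natCast, Rat.cast_intCast] at this
  rw [this]
  simp

theorem exists_eps (L : Submodule ℤ E) [DiscreteTopology L] :
    ∃ ε : ℝ, 0 < ε ∧ ∀ x ∈ L, ‖x‖ < ε → x = 0 := by
  have hopen : IsOpen ({0} : Set L) := isOpen_discrete _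
  rw [Metric.isOpen_iff] at hopen
  obtain ⟨ε, hε, hball⟩ := hopen 0 rfl
  refine ⟨ε, hε, ?_⟩
  intro x hx hlt
  have : (⟨x, hx⟩ : L) ∈ Metric.ball (0 : L) ε := by
    rw [Metric.mem_ball, Subtype.dist_eq]
    simpa using hlt
  have := hball this
  rw [Set.mem_singleton_iff] at this
  exact congrArg Subtype.val this

theorem ray_lattice (L : Submodule ℤ E) [DiscreteTopology L] (u : E) (hu : u ∈ L) (hu0 : u ≠ 0) :
    ∃ a : ℝ, 0 < a ∧ a • u ∈ L ∧ ∀ t : ℝ, t • u ∈ L → ∃ n : ℤ, t = n * a := by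
  obtain ⟨ε, hε, hdisc⟩ := exists_eps L
  let T : AddSubgroup ℝ :=
    { carrier := {t | t • u ∈ L}
      zero_mem' := by simp
      add_mem' := by
        intro a b ha hb
        simp only [Set.mem_setOf_eq] at ha hb ⊢
        rw [add_smul]
        exact L.add_mem ha hb
      neg_mem' := by
        intro a ha
        simp only [Set.mem_setOf_eq] at ha ⊢
        rw [neg_smul]
        exact L.neg_mem ha }
  have hT : ∀ t, t ∈ T ↔ t • u ∈ L := fun t => Iff.rfl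
  have hunorm : 0 < ‖u‖ := norm_pos_iff.mpr hu0
  have hnd : ¬ Dense (T : Set ℝ) := by
    intro hd
    obtain ⟨t, htT, ht0, htlt⟩ := hd.exists_between (show (0 : ℝ) < ε / ‖u‖ by positivity)
    have hmem : t • u ∈ L := htT
    have hn : ‖t • u‖ < ε := by
      rw [norm_smul, Real.norm_of_nonneg ht0.le]
      rwa [lt_div_iff₀ hunorm] at htlt
    have := hdisc _ hmem hn
    rcases smul_eq_zero.mp this with h | h
    · linarith
    · exact hu0 h
  rcases AddSubgroup.dense_or_cyclic T with hd | ⟨a, ha⟩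
  · exact absurd hd hnd
  · have h1 : (1 : ℝ) ∈ T := by
      rw [hT, one_smul]
      exact hu
    have haT : a ∈ T := by
      rw [ha]
      exact AddSubgroup.subset_closure rfl
    have ha0 : a ≠ 0 := by
      rintro rfl
      rw [ha, AddSubgroup.closure_singleton_zero, AddSubgroup.mem_bot] at h1
      exact one_ne_zero h1
    have hmem : ∀ t, t • u ∈ L → ∃ n : ℤ, t = n * a := by
      intro t ht
      have : t ∈ T := ht
      rw [ha, AddSubgroup.mem_closure_singleton] at this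
      obtain ⟨n, hn⟩ := this
      refine ⟨n, ?_⟩
      rw [← hn, zsmul_eq_mul]
    rcases lt_or_gt_of_ne ha0 with hneg | hpos
    · refine ⟨-a, by linarith, ?_, ?_⟩
      · rw [neg_smul]
        exact L.neg_mem haT
      · intro t ht
        obtain ⟨n, hn⟩ := hmem t ht
        refine ⟨-n, ?_⟩
        rw [hn]
        push_cast
        ring
    · exact ⟨a, hpos, haT, hmem⟩


theorem kempf (L : Submodule ℤ E) [DiscreteTopology L] [IsZLattice ℝ L]
    (hint : ∀ x ∈ L, ∀ y ∈ L, ∃ n : ℤ, inner ℝ x y = (n : ℝ))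
    (F G : Finset (Module.Dual ℝ E)) (hF : F.Nonempty) (hG : G.Nonempty)
    (hFi : ∀ f ∈ F, ∀ x ∈ L, ∃ n : ℤ, f x = (n : ℝ)) (hGi : ∀ g ∈ G, ∀ x ∈ L, ∃ n : ℤ, g x = (n : ℝ))
    (hpos : ∃ v : E, 0 ≤ mn F hF v ∧ 0 < mn G hG v) :
    ∃ M : ℝ, IsGreatest ((fun v => mn G hG v / ‖v‖) '' {v : E | v ≠ 0 ∧ 0 ≤ mn F hF v}) M ∧
      ∃! v₀ : E, v₀ ∈ L ∧ v₀ ≠ 0 ∧ 0 ≤ mn F hF v₀ ∧ mn G hG v₀ / ‖v₀‖ = M ∧
        ∀ v ∈ L, v ≠ 0 → 0 ≤ mn F hF v → mn G hG v / ‖v‖ = M → ∃ n : ℤ, v = n • v₀ := by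
  classical
  obtain ⟨v₁, hv₁n, hv₁F, hv₁G, hbound⟩ := exists_max F G hF hG hpos
  set M := mn G hG v₁ with hM
  have hv₁0 : v₁ ≠ 0 := by
    intro h
    rw [h, norm_zero] at hv₁n
    exact zero_ne_one hv₁n
  have hscale : ∀ s : ℝ, 0 < s → s • v₁ ≠ 0 ∧ 0 ≤ mn F hF (s • v₁) ∧
      mn G hG (s • v₁) / ‖s • v₁‖ = M := by
    intro s hs
    refine ⟨smul_ne_zero hs.ne' hv₁0, ?_, ?_⟩
    · rw [mn_smul F hF v₁ s hs.le]
      exact mul_nonneg hs.le hv₁F
    · rw [mn_smul G hG v₁ s hs.le, norm_smul, hv₁n, Real.norm_of_nonneg hs.le, mul_one, ← hM]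
      field_simp
  refine ⟨M, ⟨?_, ?_⟩, ?_⟩
  · refine ⟨v₁, ⟨hv₁0, hv₁F⟩, ?_⟩
    simp only [hv₁n, div_one]
    rfl
  · rintro y ⟨w, ⟨hw0, hwF⟩, rfl⟩
    exact hbound w hw0 hwF
  have hMi : 0 < M⁻¹ := inv_pos.mpr hv₁G
  set vs := M⁻¹ • v₁ with hvs
  have hvsG : mn G hG vs = 1 := by
    rw [hvs, mn_smul G hG v₁ _ hMi.le, ← hM, inv_mul_cancel₀ hv₁G.ne']
  have hvsF : 0 ≤ mn F hF vs := by
    rw [hvs, mn_smul F hF v₁ _ hMi.le]
    exact mul_nonneg hMi.le hv₁F
  have hvsn : ‖vs‖ = M⁻¹ := by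
    rw [hvs, norm_smul, hv₁n, mul_one, Real.norm_of_nonneg hMi.le]
  have hvs0 : vs ≠ 0 := smul_ne_zero hMi.ne' hv₁0
  have hmin : ∀ w : E, 0 ≤ mn F hF w → 1 ≤ mn G hG w → ‖vs‖ ≤ ‖w‖ := by
    intro w hwF hwG
    have hw0 : w ≠ 0 := by
      rintro rfl
      rw [mn_zero] at hwG
      linarith
    have hwn : 0 < ‖w‖ := norm_pos_iff.mpr hw0
    have h1 := hbound w hw0 hwF
    rw [div_le_iff₀ hwn] at h1
    rw [hvsn, inv_le_iff_one_le_mul₀' hv₁G]
    linarith
  set H : Finset (Module.Dual ℝ E) := F.filter (fun f => f vs = 0) ∪ G.filter (fun g => g vs = 1)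
    with hH
  have horth : ∀ w : E, (∀ h ∈ H, h w = 0) → inner ℝ vs w = 0 := by
    intro w hw
    apply active_orth F G hF hG vs hvsF hvsG.ge hmin w
    · intro f hf h0
      exact hw f (Finset.mem_union_left _ (Finset.mem_filter.mpr ⟨hf, h0⟩))
    · intro g hg h1
      exact hw g (Finset.mem_union_right _ (Finset.mem_filter.mpr ⟨hg, h1⟩))
  have hvH : ∀ h ∈ H, ∃ n : ℤ, h vs = n := by
    intro h hh
    rcases Finset.mem_union.mp hh with h' | h'
    · exact ⟨0, by simpa using (Finset.mem_filter.mp h').2⟩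
    · exact ⟨1, by simpa using (Finset.mem_filter.mp h').2⟩
  have hfree : Module.Free ℤ L := ZLattice.module_free ℝ L
  have hfinite : Module.Finite ℤ L := ZLattice.module_finite ℝ L
  let bZ := Module.Free.chooseBasis ℤ L
  set bR := bZ.ofZLatticeBasis ℝ L with hbR
  have hbRL : ∀ i, bR i ∈ L := by
    intro i
    rw [hbR, Module.Basis.ofZLatticeBasis_apply]
    exact (bZ i).2
  have hbH : ∀ h ∈ H, ∀ i, ∃ n : ℤ, h (bR i) = n := by
    intro h hh i
    rcases Finset.mem_union.mp hh with h' | h'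
    · exact hFi h (Finset.mem_filter.mp h').1 _ (hbRL i)
    · exact hGi h (Finset.mem_filter.mp h').1 _ (hbRL i)
  have hbb : ∀ i j, ∃ n : ℤ, inner ℝ (bR i) (bR j) = (n : ℝ) := fun i j =>
    hint _ (hbRL i) _ (hbRL j)
  have hq := rational_coords bR H hbH hbb vs hvH horth
  obtain ⟨N, hN, hNmem⟩ := exists_nat_smul_mem L bZ vs hq
  have hNpos : (0 : ℝ) < N := by exact_mod_cast hN
  set u := (N : ℝ) • vs with hu
  have hu0 : u ≠ 0 := smul_ne_zero hNpos.ne' hvs0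
  obtain ⟨a, ha, haL, hacyc⟩ := ray_lattice L u hNmem hu0
  have huv₁ : u = ((N : ℝ) * M⁻¹) • v₁ := by rw [hu, hvs, smul_smul]
  have hv₁u : v₁ = (M / N) • u := by
    rw [huv₁, smul_smul]
    have : M / N * (N * M⁻¹) = 1 := by
      field_simp
    rw [this, one_smul]
  set v₀ := a • u with hv₀
  have hv₀' : v₀ = (a * (N * M⁻¹)) • v₁ := by rw [hv₀, huv₁, smul_smul]
  have hs₀ : 0 < a * (N * M⁻¹) := by positivity
  obtain ⟨hv₀0, hv₀F, hv₀M⟩ := hscale _ hs₀
  rw [← hv₀'] at hv₀0 hv₀F hv₀M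
  have hmain : ∀ v ∈ L, v ≠ 0 → 0 ≤ mn F hF v → mn G hG v / ‖v‖ = M → ∃ n : ℤ, v = n • v₀ := by
    intro v hvL hv0 hvF hvM
    obtain ⟨t, ht, hvt⟩ := ray_unique F G hF hG M hv₁G hbound v₁ v hv₁0 hv0 hv₁F hvF
      (by rw [hv₁n, div_one]) hvM
    have hvu : v = (t * (M / N)) • u := by
      rw [hvt]
      conv_lhs => rw [hv₁u]
      rw [smul_smul]
    have hmem : (t * (M / N)) • u ∈ L := by
      rw [← hvu]
      exact hvL
    obtain ⟨n, hn⟩ := hacyc _ hmem
    refine ⟨n, ?_⟩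
    rw [hvu, hn, hv₀, mul_smul, Int.cast_smul_eq_zsmul]
  refine ⟨v₀, ⟨haL, hv₀0, hv₀F, hv₀M, hmain⟩, ?_⟩
  rintro v₀' ⟨h1, h2, h3, h4, h5⟩
  obtain ⟨n, hn⟩ := hmain v₀' h1 h2 h3 h4
  obtain ⟨n', hn'⟩ := h5 v₀ haL hv₀0 hv₀F hv₀M
  have hnn : n' * n = 1 := by
    have e : v₀ = (n' * n) • v₀ := by
      conv_lhs => rw [hn', hn]
      rw [mul_smul]
    have e2 : ((n' * n - 1 : ℤ) : ℝ) • v₀ = 0 := by
      rw [Int.cast_smul_eq_zsmul, sub_smul, one_smul, ← e, sub_self]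
    rcases smul_eq_zero.mp e2 with h | h
    · have : (n' * n - 1 : ℤ) = 0 := by exact_mod_cast h
      linarith
    · exact absurd h hv₀0
  rcases Int.eq_one_or_neg_one_of_mul_eq_one' hnn with ⟨-, hn1⟩ | ⟨-, hn1⟩
  · rw [hn, hn1, one_smul]
  · exfalso
    rw [hn1, neg_one_smul] at hn
    have hpos1 : 0 < mn G hG v₀ := by
      have hn0 : 0 < ‖v₀‖ := norm_pos_iff.mpr hv₀0
      have : mn G hG v₀ = M * ‖v₀‖ := by
        rw [← hv₀M]
        field_simp
      rw [this]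
      positivity
    have hpos2 : 0 < mn G hG v₀' := by
      have hn0 : 0 < ‖v₀'‖ := norm_pos_iff.mpr h2
      have : mn G hG v₀' = M * ‖v₀'‖ := by
        rw [← h4]
        field_simp
      rw [this]
      positivity
    obtain ⟨g, hg⟩ := hG
    have e1 := (lt_mn G ⟨g, hg⟩ v₀ 0).mp hpos1 g hg
    have e2 := (lt_mn G ⟨g, hg⟩ v₀' 0).mp hpos2 g hg
    rw [hn, map_neg] at e2
    linarith

end Groth.Agent.Lib.Helper18.Kempf
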