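import Groth.Agent.Lib.Helper18.KosDivSC

set_option autoImplicit false
universe u
open CategoryTheory CategoryTheory.Limits AlgebraicGeometry Opposite TopologicalSpace
open Groth.Agent.Lib.Lead.Inv Groth.Agent.Lib.Helper94.KosDiv

namespace Groth.Agent.Lib.Helper18.KosDivFR

variable {X : Scheme.{u}}

open Groth.Agent.Lib.Helper22.IdealModAff in
/-- sections of a principal ideal module generated by a nonzerodivisor are free of rank one. -/
theorem nonempty_equiv_self (I : X.IdealSheafData) (U : X.affineOpens) (f : Γ(X, U.1))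
    (hf : f ∈ nonZeroDivisors Γ(X, U.1)) (hI : I.ideal U = Ideal.span {f}) :
    Nonempty (Γ(X, U.1) ≃ₗ[Γ(X, U.1)] Γ(ClSub.idealMod I, U.1)) := by
  have hfI : f ∈ I.ideal U := by rw [hI]; exact Ideal.mem_span_singleton_self f
  obtain ⟨e, he⟩ := (mem_ideal_iff I U f).1 hfI
  let φ : Γ(X, U.1) →ₗ[Γ(X, U.1)] Γ(ClSub.idealMod I, U.1) := LinearMap.toSpanSingleton _ _ e
  have hφ : Function.Bijective φ := by
    constructor
    · rw [injective_iff_map_eq_zero]
      intro r hr
      have h1 : r * f = 0 := by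
        have h2 := congrArg (incl I U.1) hr
        rw [LinearMap.toSpanSingleton_apply, _root_.map_smul, he, map_zero] at h2
        exact h2
      exact (mem_nonZeroDivisors_iff_right.1 hf) r h1
    · intro m
      have hm : incl I U.1 m ∈ I.ideal U := (mem_ideal_iff I U _).2 ⟨m, rfl⟩
      rw [hI, Ideal.mem_span_singleton'] at hm
      obtain ⟨r, hr⟩ := hm
      refine ⟨r, incl_injective I U.1 ?_⟩
      rw [LinearMap.toSpanSingleton_apply, _root_.map_smul, he]
      exact hr
  exact ⟨LinearEquiv.ofBijective φ hφ⟩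

theorem free_sections (n : ℕ) (IY : Fin n → X.IdealSheafData) (U : X.affineOpens) (h : ∀ i, ∃ f ∈ nonZeroDivisors Γ(X, U.1), (IY i).ideal U = Ideal.span {f}) : Module.Free Γ(X, U.1) Γ(∐ fun i => ClSub.idealMod (IY i), U.1) := by
  choose f hf hI using h
  have hne := fun i => nonempty_equiv_self (IY i) U (f i) (hf i) (hI i)
  let ψ : ∀ i, Γ(X, U.1) ≃ₗ[Γ(X, U.1)] Γ(ClSub.idealMod (IY i), U.1) := fun i => (hne i).some
  let M : Fin n → X.Modules := fun i => ClSub.idealMod (IY i)
  exact Module.Free.of_equiv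
    ((LinearEquiv.piCongrRight ψ).trans (Groth.Agent.Lib.Helper18.KosDivSC.secEquiv M U.1).symm)

end Groth.Agent.Lib.Helper18.KosDivFR
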