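import Groth.Agent.Lib.Helper94.KosDivDefs

set_option autoImplicit false
universe u
open CategoryTheory CategoryTheory.Limits AlgebraicGeometry Opposite TopologicalSpace
open Groth.Agent.Lib.Lead.Inv Groth.Agent.Lib.Helper94.KosDiv

namespace Groth.Agent.Lib.Helper18.KosDivSC

variable {X : Scheme.{u}}

section coprod

variable {n : ℕ} (M : Fin n → X.Modules)

/-- projection from the coproduct -/
noncomputable def pr (i : Fin n) : (∐ M) ⟶ M i :=
  Sigma.desc (fun k => if h : k = i then eqToHom (by rw [h]) else 0)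

lemma ι_pr_self (i : Fin n) : Sigma.ι M i ≫ pr M i = 𝟙 _ := by
  simp [pr]

lemma ι_pr_ne (k i : Fin n) (h : k ≠ i) : Sigma.ι M k ≫ pr M i = 0 := by
  simp [pr, h]

lemma sum_pr_ι : ∑ i, pr M i ≫ Sigma.ι M i = 𝟙 (∐ M) := by
  apply Sigma.hom_ext
  intro k
  rw [Preadditive.comp_sum, Category.comp_id, Finset.sum_eq_single k]
  · rw [← Category.assoc, ι_pr_self, Category.id_comp]
  · intro i _ hik
    rw [← Category.assoc, ι_pr_ne _ _ _ (Ne.symm hik), zero_comp]
  · simp

lemma sum_app {A B : X.Modules} {ι : Type*} (s : Finset ι) (f : ι → (A ⟶ B)) (U : X.Opens)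
    (a : Γ(A, U)) : (∑ i ∈ s, f i).app U a = ∑ i ∈ s, (f i).app U a := by
  classical
  induction s using Finset.induction_on with
  | empty => simp
  | insert i s hi ih =>
    rw [Finset.sum_insert hi, Finset.sum_insert hi, Scheme.Modules.Hom.add_app, ← ih]
    rfl

/-- sections of a finite coproduct -/
noncomputable def secEquiv (U : X.Opens) :
    Γ(∐ M, U) ≃ₗ[Γ(X, U)] (∀ i, Γ(M i, U)) where
  toFun e := fun i => (pr M i).app U e
  invFun v := ∑ i, (Sigma.ι M i).app U (v i)
  map_add' e e' := by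
    funext i
    exact map_add _ e e'
  map_smul' r e := by
    funext i
    exact Scheme.Modules.Hom.app_smul _ r e
  left_inv e := by
    have h := congrArg (fun φ => φ.app U e) (sum_pr_ι M)
    simp only at h
    rw [sum_app] at h
    exact h
  right_inv v := by
    funext j
    simp only
    rw [map_sum, Finset.sum_eq_single j]
    · have h := congrArg (fun φ => φ.app U (v j)) (ι_pr_self M j)
      exact h
    · intro i _ hij
      have h := congrArg (fun φ => φ.app U (v i)) (ι_pr_ne M i j hij)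
      exact h
    · simp

lemma secEquiv_symm_apply (U : X.Opens) (v : ∀ i, Γ(M i, U)) :
    (secEquiv M U).symm v = ∑ i, (Sigma.ι M i).app U (v i) := rfl

lemma secEquiv_apply (U : X.Opens) (e : Γ(∐ M, U)) (i : Fin n) :
    secEquiv M U e i = (pr M i).app U e := rfl

end coprod

open Groth.Agent.Lib.Helper22.IdealModAff in
/-- scaling by a generator of `ID` identifies the sections of `idealMod I` and `idealMod (I * ID)`. -/
theorem exists_scale (I ID : X.IdealSheafData)
    (j : ClSub.idealMod (I * ID) ⟶ ClSub.idealMod I)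
    (hj : j ≫ ClSub.idealModι I = ClSub.idealModι (I * ID)) (U : X.affineOpens) (x : Γ(X, U.1))
    (hx : x ∈ nonZeroDivisors Γ(X, U.1)) (hID : ID.ideal U = Ideal.span {x}) :
    ∃ s : Γ(ClSub.idealMod I, U.1) ≃ₗ[Γ(X, U.1)] Γ(ClSub.idealMod (I * ID), U.1),
      ∀ a, j.app U.1 (s a) = x • a := by
  -- `j` on sections, as a linear map
  let J : Γ(ClSub.idealMod (I * ID), U.1) →ₗ[Γ(X, U.1)] Γ(ClSub.idealMod I, U.1) :=
    { toFun := fun t => j.app U.1 t
      map_add' := fun a b => map_add _ a b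
      map_smul' := fun r a => Scheme.Modules.Hom.app_smul _ r a }
  have hJ : ∀ t, incl I U.1 (J t) = incl (I * ID) U.1 t := by
    intro t
    have h := congrArg (fun φ => φ.app U.1 t) hj
    exact h
  have hJinj : Function.Injective J := by
    intro t t' h
    apply incl_injective (I * ID) U.1
    rw [← hJ, ← hJ, h]
  let T : Γ(ClSub.idealMod I, U.1) →ₗ[Γ(X, U.1)] Γ(ClSub.idealMod I, U.1) :=
    LinearMap.lsmul Γ(X, U.1) _ x
  have hT : ∀ a, T a = x • a := fun a => rfl
  have hTinj : Function.Injective T := by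
    rw [injective_iff_map_eq_zero]
    intro a ha
    have h1 : incl I U.1 (x • a) = 0 := by rw [← hT, ha, map_zero]
    rw [_root_.map_smul, smul_eq_mul] at h1
    have h2 : incl I U.1 a = 0 := (mem_nonZeroDivisors_iff.1 hx).1 _ h1
    exact incl_injective I U.1 (by rw [h2, map_zero])
  have hmul : (I * ID).ideal U = I.ideal U * Ideal.span {x} := by
    rw [Scheme.IdealSheafData.ideal_mul, Pi.mul_apply, hID]
  have hrange : LinearMap.range T = LinearMap.range J := by
    apply le_antisymm
    · rintro _ ⟨a, rfl⟩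
      have h1 : incl I U.1 (x • a) ∈ (I * ID).ideal U := by
        rw [hmul, _root_.map_smul, smul_eq_mul]
        have h0 := Ideal.mul_mem_mul ((mem_ideal_iff I U _).2 ⟨a, rfl⟩)
          (Ideal.mem_span_singleton_self x)
        rw [mul_comm (incl I U.1 a) x] at h0
        exact h0
      obtain ⟨t, ht⟩ := (mem_ideal_iff (I * ID) U _).1 h1
      refine ⟨t, incl_injective I U.1 ?_⟩
      rw [hJ, ht, hT]
    · rintro _ ⟨t, rfl⟩
      have h1 : incl (I * ID) U.1 t ∈ (I * ID).ideal U := (mem_ideal_iff (I * ID) U _).2 ⟨t, rfl⟩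
      rw [hmul, Ideal.mem_mul_span_singleton] at h1
      obtain ⟨c, hc, hcx⟩ := h1
      obtain ⟨a, rfl⟩ := (mem_ideal_iff I U c).1 hc
      refine ⟨a, incl_injective I U.1 ?_⟩
      rw [hJ, ← hcx, hT, _root_.map_smul, smul_eq_mul, mul_comm x]
  let s : Γ(ClSub.idealMod I, U.1) ≃ₗ[Γ(X, U.1)] Γ(ClSub.idealMod (I * ID), U.1) :=
    (LinearEquiv.ofInjective T hTinj).trans
      ((LinearEquiv.ofEq _ _ hrange).trans (LinearEquiv.ofInjective J hJinj).symm)
  refine ⟨s, fun a => ?_⟩
  have h1 : J (s a) = T a := by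
    have h2 : (LinearEquiv.ofInjective J hJinj) (s a) =
        (LinearEquiv.ofEq _ _ hrange) ((LinearEquiv.ofInjective T hTinj) a) := by
      simp [s]
    have h3 := congrArg Subtype.val h2
    simpa using h3
  exact h1

theorem exists_scale_equiv (n : ℕ) (IY : Fin n → X.IdealSheafData) (ID : X.IdealSheafData) (jI : ∀ i, ClSub.idealMod (IY i * ID) ⟶ ClSub.idealMod (IY i)) (hjI : ∀ i, jI i ≫ ClSub.idealModι (IY i) = ClSub.idealModι (IY i * ID)) (U : X.affineOpens) (x : Γ(X, U.1)) (hx : x ∈ nonZeroDivisors Γ(X, U.1)) (hID : ID.ideal U = Ideal.span {x}) : ∃ ε : Γ(∐ fun i => ClSub.idealMod (IY i), U.1) ≃ₗ[Γ(X, U.1)] Γ(∐ fun i => ClSub.idealMod (IY i * ID), U.1), ∀ e, (Limits.Sigma.map jI).app U.1 (ε e) = x • e := by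
  choose s hs using fun i => exists_scale (IY i) ID (jI i) (hjI i) U x hx hID
  let M : Fin n → X.Modules := fun i => ClSub.idealMod (IY i)
  let M' : Fin n → X.Modules := fun i => ClSub.idealMod (IY i * ID)
  refine ⟨(secEquiv M U.1).trans ((LinearEquiv.piCongrRight s).trans (secEquiv M' U.1).symm),
    fun e => ?_⟩
  have h0 : ((secEquiv M U.1).trans ((LinearEquiv.piCongrRight s).trans (secEquiv M' U.1).symm)) e
      = ∑ i, (Sigma.ι M' i).app U.1 (s i ((pr M i).app U.1 e)) := rfl
  rw [h0, map_sum]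
  have h1 : ∀ i, (Limits.Sigma.map jI).app U.1 ((Sigma.ι M' i).app U.1 (s i ((pr M i).app U.1 e)))
      = x • (Sigma.ι M i).app U.1 ((pr M i).app U.1 e) := by
    intro i
    have h2 : Sigma.ι M' i ≫ Limits.Sigma.map jI = jI i ≫ Sigma.ι M i := by
      simp [M, M']
    have h3 := congrArg (fun φ => φ.app U.1 (s i ((pr M i).app U.1 e))) h2
    simp only at h3
    refine h3.trans ?_
    change (Sigma.ι M i).app U.1 ((jI i).app U.1 (s i ((pr M i).app U.1 e))) = _
    rw [hs i, Scheme.Modules.Hom.app_smul]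
  rw [Finset.sum_congr rfl fun i _ => h1 i, ← Finset.smul_sum]
  congr 1
  exact (secEquiv M U.1).left_inv e

end Groth.Agent.Lib.Helper18.KosDivSC
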