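import Mathlib

namespace Groth.Agent.Lib.Helper18.LatticeH

open Module

theorem exists_split (r : ℕ) (hr : 0 < r) (d : Fin r → ℤ) :
    ∃ (u : Fin r → ℤ) (f₀ : (Fin r → ℤ) →ₗ[ℤ] ℤ), f₀ u = 1 ∧ d = (Finset.univ.gcd d) • u := by
  by_cases hD : Finset.univ.gcd d = 0
  · refine ⟨Pi.single ⟨0, hr⟩ 1, LinearMap.proj ⟨0, hr⟩, by simp, ?_⟩
    rw [hD, zero_smul]
    rw [Finset.gcd_eq_zero_iff] at hD
    funext i
    exact hD i (Finset.mem_univ i)
  · obtain ⟨c, hc⟩ := Finset.gcd_eq_sum_mul (Finset.univ : Finset (Fin r)) d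
    set D := Finset.univ.gcd d with hDdef
    have hdvd : ∀ i, D ∣ d i := fun i => Finset.gcd_dvd (Finset.mem_univ i)
    refine ⟨fun i => d i / D, ∑ i, c i • LinearMap.proj i, ?_, ?_⟩
    · simp only [LinearMap.sum_apply, LinearMap.smul_apply, LinearMap.proj_apply, smul_eq_mul]
      apply mul_left_cancel₀ hD
      rw [Finset.mul_sum, mul_one]
      conv_rhs => rw [hc]
      refine Finset.sum_congr rfl fun i _ => ?_
      obtain ⟨q, hq⟩ := hdvd i
      rw [hq, Int.mul_ediv_cancel_left _ hD]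
      ring
    · funext i
      simp only [Pi.smul_apply, smul_eq_mul]
      exact (Int.mul_ediv_cancel' (hdvd i)).symm

noncomputable def splitEquiv {r : ℕ} (u : Fin r → ℤ) (f₀ : (Fin r → ℤ) →ₗ[ℤ] ℤ) (h : f₀ u = 1) :
    (Fin r → ℤ) ≃ₗ[ℤ] ℤ × LinearMap.ker f₀ where
  toFun x := (f₀ x, ⟨x - f₀ x • u, by
    rw [LinearMap.mem_ker, map_sub, map_smul, h, smul_eq_mul, mul_one, sub_self]⟩)
  map_add' x y := by
    apply Prod.ext
    · exact map_add f₀ x y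
    · apply Subtype.ext
      show x + y - f₀ (x + y) • u = (x - f₀ x • u) + (y - f₀ y • u)
      rw [map_add, add_smul]
      abel
  map_smul' a x := by
    apply Prod.ext
    · exact map_smul f₀ a x
    · apply Subtype.ext
      show a • x - f₀ (a • x) • u = a • (x - f₀ x • u)
      rw [map_smul, smul_eq_mul, mul_smul, smul_sub]
  invFun p := p.1 • u + p.2.1
  left_inv x := by
    show f₀ x • u + (x - f₀ x • u) = x
    abel
  right_inv p := by
    obtain ⟨a, k, hk⟩ := p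
    rw [LinearMap.mem_ker] at hk
    have h3 : f₀ (a • u + k) = a := by
      rw [map_add, map_smul, h, hk, smul_eq_mul, mul_one, add_zero]
    apply Prod.ext
    · exact h3
    · apply Subtype.ext
      show a • u + k - f₀ (a • u + k) • u = k
      rw [h3]
      abel

theorem splitEquiv_apply_fst {r : ℕ} (u : Fin r → ℤ) (f₀ : (Fin r → ℤ) →ₗ[ℤ] ℤ) (h : f₀ u = 1)
    (x : Fin r → ℤ) : (splitEquiv u f₀ h x).1 = f₀ x := rfl

theorem splitEquiv_apply_snd {r : ℕ} (u : Fin r → ℤ) (f₀ : (Fin r → ℤ) →ₗ[ℤ] ℤ) (h : f₀ u = 1)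
    (x : Fin r → ℤ) : ((splitEquiv u f₀ h x).2 : Fin r → ℤ) = x - f₀ x • u := rfl

theorem exists_equiv (r : ℕ) (hr : 0 < r) (d : Fin r → ℤ) :
    ∃ E : (Fin r → ℤ) ≃ₗ[ℤ] ℤ × (Fin (r - 1) → ℤ), E d = (Finset.univ.gcd d, 0) := by
  obtain ⟨u, f₀, h1, hd⟩ := exists_split r hr d
  have hrank : finrank ℤ (LinearMap.ker f₀) = r - 1 := by
    have h2 := LinearEquiv.finrank_eq (splitEquiv u f₀ h1)
    rw [Module.finrank_prod, Module.finrank_fin_fun, Module.finrank_self] at h2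
    omega
  let b := Module.finBasis ℤ (LinearMap.ker f₀)
  let e2 : LinearMap.ker f₀ ≃ₗ[ℤ] (Fin (r - 1) → ℤ) :=
    b.equivFun.trans (LinearEquiv.funCongrLeft ℤ ℤ (finCongr hrank.symm))
  refine ⟨(splitEquiv u f₀ h1).trans (LinearEquiv.prodCongr (LinearEquiv.refl ℤ ℤ) e2), ?_⟩
  have hfd : f₀ d = Finset.univ.gcd d := by
    conv_lhs => rw [hd]
    rw [map_smul, h1, smul_eq_mul, mul_one]
  have : splitEquiv u f₀ h1 d = (Finset.univ.gcd d, 0) := by
    apply Prod.ext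
    · exact hfd
    · apply Subtype.ext
      rw [splitEquiv_apply_snd, hfd]
      show d - _ = 0
      rw [← hd, sub_self]
  rw [LinearEquiv.trans_apply, this]
  simp


section Adapted

variable {r : ℕ} (E : (Fin r → ℤ) ≃ₗ[ℤ] ℤ × (Fin (r - 1) → ℤ))

noncomputable def fE : (Fin r → ℤ) →ₗ[ℤ] ℤ := (LinearMap.fst ℤ ℤ _).comp E.toLinearMap

noncomputable def pE (i : Fin (r - 1)) : (Fin r → ℤ) →ₗ[ℤ] ℤ :=
  (LinearMap.proj i).comp ((LinearMap.snd ℤ ℤ _).comp E.toLinearMap)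

noncomputable def uE : Fin r → ℤ := E.symm (1, 0)

noncomputable def wE (j : Fin (r - 1)) : Fin r → ℤ := E.symm (0, Pi.single j 1)

theorem fE_apply (x : Fin r → ℤ) : fE E x = (E x).1 := rfl

theorem pE_apply (i : Fin (r - 1)) (x : Fin r → ℤ) : pE E i x = (E x).2 i := rfl

@[simp] theorem fE_uE : fE E (uE E) = 1 := by simp [fE_apply, uE]

@[simp] theorem pE_uE (i : Fin (r - 1)) : pE E i (uE E) = 0 := by simp [pE_apply, uE]

@[simp] theorem fE_wE (j : Fin (r - 1)) : fE E (wE E j) = 0 := by simp [fE_apply, wE]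

theorem pE_wE (i j : Fin (r - 1)) : pE E i (wE E j) = if i = j then 1 else 0 := by
  simp [pE_apply, wE, Pi.single_apply]

theorem decomp (x : Fin r → ℤ) : x = fE E x • uE E + ∑ i, pE E i x • wE E i := by
  apply E.injective
  rw [map_add, map_smul, map_sum]
  simp only [map_smul, uE, wE, LinearEquiv.apply_symm_apply, fE_apply, pE_apply]
  apply Prod.ext
  · simp [Prod.fst_sum]
  · funext j
    simp [Prod.snd_sum, Finset.sum_apply, Pi.single_apply]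

theorem hom_apply {Z : Type*} [AddCommGroup Z] (φ : (Fin r → ℤ) →+ Z) (x : Fin r → ℤ) :
    φ x = fE E x • φ (uE E) + ∑ i, pE E i x • φ (wE E i) := by
  conv_lhs => rw [decomp E x]
  rw [map_add, map_zsmul, map_sum]
  simp only [map_zsmul]

theorem hom_ext {Z : Type*} [AddCommGroup Z] (φ ψ : (Fin r → ℤ) →+ Z)
    (h0 : φ (uE E) = ψ (uE E)) (h1 : ∀ i, φ (wE E i) = ψ (wE E i)) : φ = ψ := by
  refine AddMonoidHom.ext fun x => ?_
  rw [hom_apply E φ, hom_apply E ψ, h0]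
  simp only [h1]

theorem d_eq (d : Fin r → ℤ) (D : ℤ) (hd : E d = (D, 0)) : d = D • uE E := by
  apply E.injective
  rw [hd, map_smul, uE, LinearEquiv.apply_symm_apply]
  simp

noncomputable def BE (m : ℤ) (c c' : Fin (r - 1) → ℤ) : LinearMap.BilinForm ℤ (Fin r → ℤ) :=
  m • LinearMap.BilinForm.linMulLin (fE E) (fE E) +
    ∑ i, (c i • (LinearMap.BilinForm.linMulLin (fE E) (pE E i) +
        LinearMap.BilinForm.linMulLin (pE E i) (fE E)) +
      c' i • LinearMap.BilinForm.linMulLin (pE E i) (pE E i))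

theorem BE_apply (m : ℤ) (c c' : Fin (r - 1) → ℤ) (x y : Fin r → ℤ) :
    BE E m c c' x y = m * (fE E x * fE E y) +
      ∑ i, (c i * (fE E x * pE E i y + pE E i x * fE E y) + c' i * (pE E i x * pE E i y)) := by
  simp only [BE, LinearMap.add_apply, LinearMap.smul_apply, LinearMap.sum_apply,
    LinearMap.BilinForm.linMulLin_apply, smul_eq_mul]

theorem BE_symm (m : ℤ) (c c' : Fin (r - 1) → ℤ) : (BE E m c c').IsSymm := by
  refine ⟨fun x y => ?_⟩
  rw [BE_apply, BE_apply]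
  congr 1
  · ring
  · refine Finset.sum_congr rfl fun i _ => ?_
    ring

end Adapted

theorem dvd_sq_sub (δ : ℕ) (g : ℤ) (hδ : (δ : ℤ) ∣ 2 * (g - 1)) (t : ℤ) :
    (δ : ℤ) ∣ (1 - g) * (t * t - t) := by
  have h2 : (2 : ℤ) ∣ t * t - t := by
    have : t * t - t = t * (t - 1) := by ring
    rw [this]
    exact Int.even_mul_pred_self t |>.two_dvd
  obtain ⟨q, hq⟩ := h2
  rw [hq]
  have : (1 - g) * (2 * q) = (2 * (g - 1)) * (-q) := by ring
  rw [this]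
  exact Dvd.dvd.mul_right hδ _

theorem dvd_two_mul (δ : ℕ) (g : ℤ) (hδ : (δ : ℤ) ∣ 2 * (g - 1)) (t : ℤ) :
    (δ : ℤ) ∣ (1 - g) * (2 * t) := by
  have : (1 - g) * (2 * t) = (2 * (g - 1)) * (-t) := by ring
  rw [this]
  exact Dvd.dvd.mul_right hδ _

theorem mem_values {r : ℕ} (E : (Fin r → ℤ) ≃ₗ[ℤ] ℤ × (Fin (r - 1) → ℤ)) (δ : ℕ) (g : ℤ)
    (d : Fin r → ℤ) (D : ℤ) (hd : E d = (D, 0)) (φ : (Fin r → ℤ) →+ ZMod δ)
    (h : ∃ b : LinearMap.BilinForm ℤ (Fin r → ℤ), b.IsSymm ∧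
      ∀ x, φ x = ((b d x + (1 - g) * b x x : ℤ) : ZMod δ)) :
    ∃ (m : ℤ) (c c' : Fin (r - 1) → ℤ), φ (uE E) = (((D + 1 - g) * m : ℤ) : ZMod δ) ∧
      ∀ i, φ (wE E i) = ((D * c i + (1 - g) * c' i : ℤ) : ZMod δ) := by
  obtain ⟨b, -, hb⟩ := h
  have hdu := d_eq E d D hd
  have hbd : ∀ x, b d x = D * b (uE E) x := by
    intro x
    rw [hdu, map_smul, LinearMap.smul_apply, smul_eq_mul]
  refine ⟨b (uE E) (uE E), fun i => b (uE E) (wE E i), fun i => b (wE E i) (wE E i), ?_, ?_⟩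
  · rw [hb, hbd]
    congr 1
    ring
  · intro i
    rw [hb, hbd]

theorem mem_of_values {r : ℕ} (E : (Fin r → ℤ) ≃ₗ[ℤ] ℤ × (Fin (r - 1) → ℤ)) (δ : ℕ) (g : ℤ)
    (hδ : (δ : ℤ) ∣ 2 * (g - 1))
    (d : Fin r → ℤ) (D : ℤ) (hd : E d = (D, 0)) (φ : (Fin r → ℤ) →+ ZMod δ)
    (m : ℤ) (c c' : Fin (r - 1) → ℤ) (h0 : φ (uE E) = (((D + 1 - g) * m : ℤ) : ZMod δ))
    (h1 : ∀ i, φ (wE E i) = ((D * c i + (1 - g) * c' i : ℤ) : ZMod δ)) :
    ∃ b : LinearMap.BilinForm ℤ (Fin r → ℤ), b.IsSymm ∧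
      ∀ x, φ x = ((b d x + (1 - g) * b x x : ℤ) : ZMod δ) := by
  refine ⟨BE E m c c', BE_symm E m c c', fun x => ?_⟩
  have hfd : fE E d = D := by rw [fE_apply, hd]
  have hpd : ∀ i, pE E i d = 0 := by
    intro i
    rw [pE_apply, hd]
    rfl
  rw [hom_apply E φ x, h0]
  simp only [h1]
  rw [BE_apply, BE_apply]
  simp only [hfd, hpd, zero_mul, add_zero]
  have hcast : fE E x • (((D + 1 - g) * m : ℤ) : ZMod δ) +
      ∑ i, pE E i x • ((D * c i + (1 - g) * c' i : ℤ) : ZMod δ) =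
      ((fE E x * ((D + 1 - g) * m) + ∑ i, pE E i x * (D * c i + (1 - g) * c' i) : ℤ) : ZMod δ) := by
    push_cast
    simp only [zsmul_eq_mul]
  rw [hcast, ZMod.intCast_eq_intCast_iff_dvd_sub]
  set a := fE E x with ha
  have key : (m * (D * a) + ∑ i, (c i * (D * pE E i x) + c' i * 0) +
      (1 - g) * (m * (a * a) + ∑ i, (c i * (a * pE E i x + pE E i x * a) +
        c' i * (pE E i x * pE E i x)))) -
      (a * ((D + 1 - g) * m) + ∑ i, pE E i x * (D * c i + (1 - g) * c' i)) =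
      (1 - g) * (a * a - a) * m + ∑ i, ((1 - g) * (2 * (c i * a * pE E i x)) +
        (1 - g) * (pE E i x * pE E i x - pE E i x) * c' i) := by
    have e1 : ∀ (A B C D' : ℤ) (s1 s2 s3 : ℤ), A + s1 + ((1 - g) * B + s2) - (C + s3) =
        (A + (1 - g) * B - C) + (s1 + s2 - s3) := by intros; ring
    rw [mul_add, Finset.mul_sum]
    rw [e1 _ _ _ 0, ← Finset.sum_add_distrib, ← Finset.sum_sub_distrib]
    congr 1
    · ring
    · refine Finset.sum_congr rfl fun i _ => ?_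
      ring
  rw [key]
  refine dvd_add (Dvd.dvd.mul_right (dvd_sq_sub δ g hδ a) _) (Finset.dvd_sum fun i _ => ?_)
  exact dvd_add (dvd_two_mul δ g hδ _) (Dvd.dvd.mul_right (dvd_sq_sub δ g hδ _) _)

section MkHom

variable {r : ℕ} (E : (Fin r → ℤ) ≃ₗ[ℤ] ℤ × (Fin (r - 1) → ℤ)) {Z : Type*} [AddCommGroup Z]

noncomputable def mkHom (a : Z) (c : Fin (r - 1) → Z) : (Fin r → ℤ) →+ Z where
  toFun x := fE E x • a + ∑ i, pE E i x • c i
  map_zero' := by simp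
  map_add' x y := by
    simp only [map_add, add_smul, Finset.sum_add_distrib]
    abel

@[simp] theorem mkHom_uE (a : Z) (c : Fin (r - 1) → Z) : mkHom E a c (uE E) = a := by
  show fE E (uE E) • a + ∑ i, pE E i (uE E) • c i = a
  simp

@[simp] theorem mkHom_wE (a : Z) (c : Fin (r - 1) → Z) (j : Fin (r - 1)) :
    mkHom E a c (wE E j) = c j := by
  show fE E (wE E j) • a + ∑ i, pE E i (wE E j) • c i = c j
  simp [pE_wE]

end MkHom

theorem exists_mul_of_dvd (δ : ℕ) (a k : ℤ) (h : (Int.gcd δ a : ℤ) ∣ k) :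
    ∃ m : ℤ, (k : ZMod δ) = ((a * m : ℤ) : ZMod δ) := by
  obtain ⟨q, hq⟩ := h
  have hb := Int.gcd_eq_gcd_ab (δ : ℤ) a
  refine ⟨Int.gcdB δ a * q, ?_⟩
  rw [ZMod.intCast_eq_intCast_iff_dvd_sub]
  refine ⟨-(Int.gcdA δ a * q), ?_⟩
  rw [hq, hb]
  ring

theorem exists_two_of_dvd (δ : ℕ) (g D k : ℤ) (h : (Int.gcd δ (Int.gcd (g - 1) D) : ℤ) ∣ k) :
    ∃ c c' : ℤ, (k : ZMod δ) = ((D * c + (1 - g) * c' : ℤ) : ZMod δ) := by
  obtain ⟨m, hm⟩ := exists_mul_of_dvd δ _ k h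
  have hb := Int.gcd_eq_gcd_ab (g - 1) D
  refine ⟨Int.gcdB (g - 1) D * m, -(Int.gcdA (g - 1) D * m), ?_⟩
  rw [hm, hb]
  congr 1
  ring

end Groth.Agent.Lib.Helper18.LatticeH
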