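import Mathlib
import Groth.Prelude.Def_GmAct

set_option autoImplicit false
set_option linter.unusedSectionVars false
universe u

open CategoryTheory CategoryTheory.Limits MonoidalCategory CartesianMonoidalCategory
  AlgebraicGeometry Opposite TensorProduct
open scoped Polynomial

noncomputable section

namespace Groth.Agent.Lib.Helper18.LineAlg

variable (R : Type u) [CommRing R]

/-- linear retraction of `R[X] → R[z,z⁻¹]`, `X ↦ z`. -/
def retr : ThetaS.Lau R →ₗ[R] R[X] :=
  (Finsupp.lsum R (fun g : Multiplicative ℤ =>
    if 0 ≤ Multiplicative.toAdd g then Polynomial.monomial (Multiplicative.toAdd g).toNat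
    else (0 : R →ₗ[R] R[X]))) ∘ₗ (MonoidAlgebra.coeffLinearEquiv R).toLinearMap

theorem retr_single (n : ℤ) (c : R) :
    retr R (MonoidAlgebra.single (Multiplicative.ofAdd n) c) =
      if 0 ≤ n then Polynomial.monomial n.toNat c else 0 := by
  unfold retr
  simp only [LinearMap.coe_comp, LinearEquiv.coe_coe, Function.comp_apply]
  have : (MonoidAlgebra.coeffLinearEquiv R) (MonoidAlgebra.single (Multiplicative.ofAdd n) c) =
      Finsupp.single (Multiplicative.ofAdd n) c := rfl
  rw [this, Finsupp.lsum_single]
  simp only [toAdd_ofAdd]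
  split_ifs <;> simp

theorem retr_aeval :
    (retr R) ∘ₗ (Polynomial.aeval (ThetaS.zPow R 1) : R[X] →ₐ[R] ThetaS.Lau R).toLinearMap =
      LinearMap.id := by
  apply Polynomial.lhom_ext'
  intro n
  apply LinearMap.ext_ring
  simp only [LinearMap.coe_comp, Function.comp_apply, AlgHom.toLinearMap_apply, LinearMap.id_comp]
  rw [Polynomial.aeval_monomial, ThetaS.zPow, MonoidAlgebra.single_pow, one_pow, map_one, one_mul,
    ← ofAdd_nsmul, retr_single]
  simp

end Groth.Agent.Lib.Helper18.LineAlg
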