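import Mathlib

set_option autoImplicit false
universe u
open TensorProduct

namespace Groth.Agent.Lib.Helper18.MovDT

/-- integral extensions do not raise the Krull dimension. -/
theorem ringKrullDim_le_of_integral (R S : Type*) [CommRing R] [CommRing S]
    [Algebra R S] [Algebra.IsIntegral R S] : ringKrullDim S ≤ ringKrullDim R := by
  refine Order.krullDim_le_of_strictMono (PrimeSpectrum.comap (algebraMap R S)) ?_
  intro p q hpq
  rw [← PrimeSpectrum.asIdeal_lt_asIdeal] at hpq ⊢
  exact Ideal.IsIntegral.comap_lt_comap hpq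

theorem ringKrullDim_tensor_le {k : Type u} [Field k] (A E : Type u) [CommRing A] [Algebra k A] [CommRing E] [Algebra k E] [Module.Finite k E] : ringKrullDim (A ⊗[k] E) ≤ ringKrullDim A := by
  haveI : Module.Finite A (A ⊗[k] E) := inferInstance
  haveI : Algebra.IsIntegral A (A ⊗[k] E) := Algebra.IsIntegral.of_finite A (A ⊗[k] E)
  exact ringKrullDim_le_of_integral A (A ⊗[k] E)

end Groth.Agent.Lib.Helper18.MovDT
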