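import Mathlib
import Groth.Prelude.Def_Magnet2
import Groth.Agent.Lib.Helper18.DiagTriv
import Groth.Agent.Lib.Helper18.BcAct

set_option autoImplicit false
universe u
open CategoryTheory CategoryTheory.Limits MonoidalCategory CartesianMonoidalCategory MonObj
  AlgebraicGeometry Opposite
open Magnet

noncomputable section

namespace Groth.Agent.Lib.Helper18.NilpBase

theorem exists_nilp {S S₀ U' : Scheme.{u}} (i₀ : S₀ ⟶ S) [IsClosedImmersion i₀]
    (hnil : ∀ x : S, ∃ U : S.affineOpens, x ∈ (U : S.Opens) ∧ IsNilpotent (i₀.ker.ideal U))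
    (h : U' ⟶ S) (u' : U') :
    ∃ (W' : U'.Opens) (hW' : IsAffineOpen W') (I : Ideal Γ(U', W')), u' ∈ W' ∧ IsNilpotent I ∧
      Nonempty (Over.mk ((Spec.map (CommRingCat.ofHom (Ideal.Quotient.mk I)) ≫ hW'.fromSpec) ≫ h) ⟶
        Over.mk i₀) := by
  obtain ⟨W, hsW, hJ⟩ := hnil (h u')
  have hu' : u' ∈ h ⁻¹ᵁ W.1 := hsW
  obtain ⟨W', hW', hu'W', hW'W⟩ := exists_isAffineOpen_mem_and_subset hu'
  have hle : W' ≤ h ⁻¹ᵁ W.1 := hW'W
  let φ : Γ(S, W.1) →+* Γ(U', W') := (h.appLE W.1 W' hle).hom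
  have hφ : Spec.map (CommRingCat.ofHom φ) ≫ W.2.fromSpec = hW'.fromSpec ≫ h :=
    IsAffineOpen.SpecMap_appLE_fromSpec h W.2 hW' hle
  let J : Ideal Γ(S, W.1) := i₀.ker.ideal W
  let I : Ideal Γ(U', W') := J.map φ
  have hI : IsNilpotent I := by
    obtain ⟨n, hn⟩ := hJ
    refine ⟨n, ?_⟩
    change (J.map φ) ^ n = 0
    rw [← Ideal.map_pow]
    change (J ^ n).map φ = 0
    rw [hn, Ideal.zero_eq_bot, Ideal.map_bot]
    rfl
  have hJI : J ≤ I.comap φ := Ideal.le_comap_map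
  let q : Γ(S, W.1) ⧸ J →+* Γ(U', W') ⧸ I := Ideal.quotientMap I φ hJI
  have hq : q.comp (Ideal.Quotient.mk J) = (Ideal.Quotient.mk I).comp φ :=
    Ideal.quotientMap_comp_mk hJI
  let m : Spec (CommRingCat.of (Γ(U', W') ⧸ I)) ⟶ S₀ :=
    Spec.map (CommRingCat.ofHom q) ≫ i₀.ker.subschemeCover.f W ≫ inv i₀.toImage
  have hm : m ≫ i₀ =
      (Spec.map (CommRingCat.ofHom (Ideal.Quotient.mk I)) ≫ hW'.fromSpec) ≫ h := by
    have h1 : inv i₀.toImage ≫ i₀ = i₀.imageι := by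
      rw [IsIso.inv_comp_eq, Scheme.Hom.toImage_imageι]
    change (Spec.map (CommRingCat.ofHom q) ≫ i₀.ker.subschemeCover.f W ≫ inv i₀.toImage) ≫ i₀ = _
    rw [Category.assoc, Category.assoc, h1]
    change _ ≫ i₀.ker.subschemeCover.f W ≫ i₀.ker.subschemeι = _
    rw [Scheme.IdealSheafData.subschemeCover_map_subschemeι, Scheme.IdealSheafData.glueDataObjι_ι]
    have h2 : Spec.map (CommRingCat.ofHom q) ≫
        Spec.map (CommRingCat.ofHom (Ideal.Quotient.mk J)) =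
        Spec.map (CommRingCat.ofHom (Ideal.Quotient.mk I)) ≫ Spec.map (CommRingCat.ofHom φ) := by
      rw [← Spec.map_comp, ← CommRingCat.ofHom_comp, hq, CommRingCat.ofHom_comp, Spec.map_comp]
    rw [Category.assoc, ← hφ, ← Category.assoc, ← h2, Category.assoc]
    rfl
  exact ⟨W', hW', I, hu'W', hI, ⟨Over.homMk m hm⟩⟩

open Groth.Agent.Lib.Helper18.BcAct Groth.Agent.Lib.Helper18.DiagTriv

/-- the action is trivial on test objects factoring through a base `U'` over which `G` splits. -/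
theorem piece {S S₀ U' : Scheme.{u}} (i₀ : S₀ ⟶ S) [IsClosedImmersion i₀]
    (hnil : ∀ x : S, ∃ U : S.affineOpens, x ∈ (U : S.Opens) ∧ IsNilpotent (i₀.ker.ideal U))
    (G X : Over S) [GrpObj G] (a : MonAct G X)
    (h0 : ∀ (Y : Over S) (_ : Y ⟶ Over.mk i₀) (g : Y ⟶ G) (x : Y ⟶ X), lift g x ≫ a.act = x)
    (h : U' ⟶ S) (M : Type) [AddCommGroup M]
    (e : Grp.mk (Red.bc h G) ≅ Grp.mk (Red.DS U' M))
    (Y' : Over U') (g : (Over.map h).obj Y' ⟶ G) (x : (Over.map h).obj Y' ⟶ X) :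
    lift g x ≫ a.act = x := by
  let adj := Over.mapPullbackAdj h
  let a' : MonAct (Red.bc h G) (Red.bc h X) := bcAct adj a
  let a'' : MonAct (Red.DS U' M) (Red.bc h X) := a'.restrict e.inv.hom.hom
  let 𝒴 : Over U' → Prop := fun Y' => Nonempty ((Over.map h).obj Y' ⟶ Over.mk i₀)
  have h𝒴 : ∀ {Y Y' : Over U'} (_ : Y' ⟶ Y), 𝒴 Y → 𝒴 Y' := by
    rintro Y Y' f ⟨p⟩
    exact ⟨(Over.map h).map f ≫ p⟩
  have h0'' : ∀ Y, 𝒴 Y → ∀ (g : Y ⟶ Red.DS U' M) (x : Y ⟶ Red.bc h X),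
      lift g x ≫ a''.act = x := by
    rintro Y ⟨p⟩ g x
    rw [MonAct.lift_restrict_act]
    exact bcAct_of_act adj a (fun g x => h0 _ p g x) _ _
  have hNT : ∀ u : U', ∃ (W : U'.Opens) (hW : IsAffineOpen W) (I : Ideal Γ(U', W)), u ∈ W ∧
      IsNilpotent I ∧
      𝒴 (Over.mk (Spec.map (CommRingCat.ofHom (Ideal.Quotient.mk I)) ≫ hW.fromSpec)) :=
    fun u => exists_nilp i₀ hnil h u
  have htriv := act_trivial a'' 𝒴 h𝒴 h0'' hNT
  have htriv' : ∀ (g : Y' ⟶ Red.bc h G) (x : Y' ⟶ Red.bc h X), lift g x ≫ a'.act = x := by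
    intro g x
    have h1 := htriv Y' (g ≫ e.hom.hom.hom) x
    rw [MonAct.lift_restrict_act, Category.assoc] at h1
    have h2 : e.hom.hom.hom ≫ e.inv.hom.hom = 𝟙 _ := by
      rw [← Grp.comp_hom_hom, e.hom_inv_id]
      rfl
    rw [h2, Category.comp_id] at h1
    exact h1
  exact act_of_bcAct adj a htriv' g x

open Groth.Agent.Lib.Helper18.EqvHomSheaf Groth.Agent.Lib.Helper18.RepOver in
/-- fpqc descent of triviality of an action. -/
theorem descend {S S' : Scheme.{u}} (f : S' ⟶ S) [Flat f] [Surjective f]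
    (Us : S' → S'.Opens) (hUs : ∀ s', s' ∈ Us s')
    {G X : Over S} (act : G ⊗ X ⟶ X)
    (hloc : ∀ (s' : S') (Y' : Over ((Us s' : S'.Opens) : Scheme.{u}))
      (g : (Over.map ((Us s').ι ≫ f)).obj Y' ⟶ G) (x : (Over.map ((Us s').ι ≫ f)).obj Y' ⟶ X),
      lift g x ≫ act = x)
    (Y : Over S) (g : Y ⟶ G) (x : Y ⟶ X) : lift g x ≫ act = x := by
  let pr₁ := pullback.fst Y.hom f
  let pr₂ := pullback.snd Y.hom f
  have hsurj : Surjective pr₁ := inferInstance
  have hepi : Epi pr₁ := Flat.epi_of_flat_of_surjective _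
  let P : Over S := Over.mk (pr₁ ≫ Y.hom)
  let π : P ⟶ Y := Over.homMk pr₁ rfl
  have hπ : Epi π := by
    constructor
    intro Z u v huv
    ext : 1
    have := congrArg (fun k => k.left) huv
    simp only [Over.comp_left] at this
    exact (cancel_epi pr₁).mp this
  rw [← cancel_epi π, ← Category.assoc, comp_lift]
  -- now the test object is `P`, which maps to `S'`
  let O : S' → P.left.Opens := fun s' => pr₂ ⁻¹ᵁ (Us s')
  have hc : IsZarCov (fun s' : S' => resOv P (O s')) (fun s' => resι P (O s')) :=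
    { isOpen := fun s' => (inferInstance : IsOpenImmersion (O s').ι)
      surj := fun z => ⟨pr₂ z, ⟨z, hUs (pr₂ z)⟩, rfl⟩ }
  refine hc.hom_ext _ _ fun s' => ?_
  rw [← Category.assoc, comp_lift]
  -- factor through `Us s'`
  have hr : Set.range ((O s').ι ≫ pr₂) ⊆ Set.range (Us s').ι := by
    rw [Scheme.Opens.range_ι]
    rintro _ ⟨z, rfl⟩
    rw [Scheme.Hom.comp_apply]
    exact z.2
  let q := IsOpenImmersion.lift (Us s').ι ((O s').ι ≫ pr₂) hr
  have hq : q ≫ (Us s').ι = (O s').ι ≫ pr₂ := IsOpenImmersion.lift_fac _ _ _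
  let Y' : Over ((Us s' : S'.Opens) : Scheme.{u}) := Over.mk q
  have hw : (𝟙 _ : (O s' : Scheme.{u}) ⟶ _) ≫ (resOv P (O s')).hom =
      ((Over.map ((Us s').ι ≫ f)).obj Y').hom := by
    rw [Category.id_comp]
    change (O s').ι ≫ pr₁ ≫ Y.hom = q ≫ (Us s').ι ≫ f
    rw [← Category.assoc q, hq, Category.assoc, pullback.condition]
  let c : (Over.map ((Us s').ι ≫ f)).obj Y' ⟶ resOv P (O s') := Over.homMk (𝟙 _) hw
  have hcepi : Epi c := by
    constructor
    intro Z u v huv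
    ext : 1
    have := congrArg (fun k => k.left) huv
    simp only [Over.comp_left] at this
    change 𝟙 _ ≫ u.left = 𝟙 _ ≫ v.left at this
    rwa [Category.id_comp, Category.id_comp] at this
  rw [← cancel_epi c, ← Category.assoc, comp_lift]
  exact hloc s' Y' _ _

end Groth.Agent.Lib.Helper18.NilpBase
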