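import Mathlib
import Groth.Agent.Lib.Helper80.Node.Defs

set_option autoImplicit false
universe u
open Groth.Agent.Lib.Helper80.Node

namespace Groth.Agent.Lib.Helper18.NodeGQ

theorem gq (V : Type u) [CommRing V] (ϖ : V) :
    Submodule.span (Q V ϖ) {KaehlerDifferential.D V (Q V ϖ) (xq V ϖ),
      KaehlerDifferential.D V (Q V ϖ) (yq V ϖ)} = ⊤ := by
  rw [eq_top_iff, ← KaehlerDifferential.span_range_derivation, Submodule.span_le]
  rintro _ ⟨q, rfl⟩
  obtain ⟨F, rfl⟩ := Ideal.Quotient.mk_surjective q
  induction F using MvPolynomial.induction_on with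
  | C a =>
    have : (Ideal.Quotient.mk (Ideal.span {gNode V ϖ})) (MvPolynomial.C a) =
        algebraMap V (Q V ϖ) a := rfl
    rw [this, Derivation.map_algebraMap]
    exact Submodule.zero_mem _
  | add p q hp hq =>
    rw [map_add, map_add]
    exact Submodule.add_mem _ hp hq
  | mul_X p i hp =>
    rw [map_mul, Derivation.leibniz]
    refine Submodule.add_mem _ (Submodule.smul_mem _ _ ?_) (Submodule.smul_mem _ _ hp)
    apply Submodule.subset_span
    fin_cases i
    · left; rfl
    · right; rfl

end Groth.Agent.Lib.Helper18.NodeGQ
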