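import Mathlib
import Groth.Agent.Lib.Helper80.Node.Defs

set_option autoImplicit false
universe u
open Groth.Agent.Lib.Helper80.Node

namespace Groth.Agent.Lib.Helper18.NodeKQ

open TensorProduct

/-- coefficient functional `Q ⊗[P] Ω[P/V] → Q` at the variable `i`. -/
noncomputable def coeffAt (V : Type u) [CommRing V] (ϖ : V) (i : Fin 2) :
    Q V ϖ ⊗[MvPolynomial (Fin 2) V] Ω[MvPolynomial (Fin 2) V⁄V] →ₗ[MvPolynomial (Fin 2) V] Q V ϖ :=
  (TensorProduct.rid (MvPolynomial (Fin 2) V) (Q V ϖ)).toLinearMap ∘ₗ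
    LinearMap.lTensor (Q V ϖ) ((KaehlerDifferential.mvPolynomialBasis V (Fin 2)).coord i)

theorem coeffAt_tmul_D_X (V : Type u) [CommRing V] (ϖ : V) (i j : Fin 2) (q : Q V ϖ) :
    coeffAt V ϖ i (q ⊗ₜ[MvPolynomial (Fin 2) V]
      KaehlerDifferential.D V (MvPolynomial (Fin 2) V) (MvPolynomial.X j)) =
      if j = i then q else 0 := by
  simp only [coeffAt, LinearMap.coe_comp, LinearEquiv.coe_coe, Function.comp_apply,
    LinearMap.lTensor_tmul, Module.Basis.coord_apply,
    KaehlerDifferential.mvPolynomialBasis_repr_D_X, TensorProduct.rid_tmul,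
    Finsupp.single_apply]
  split_ifs <;> simp

theorem kq (V : Type u) [CommRing V] (ϖ : V) (s t : Q V ϖ)
    (h : s • KaehlerDifferential.D V (Q V ϖ) (xq V ϖ) +
      t • KaehlerDifferential.D V (Q V ϖ) (yq V ϖ) = 0) :
    ∃ e : Q V ϖ, s = e * yq V ϖ ∧ t = e * xq V ϖ := by
  have hsurj : Function.Surjective (algebraMap (MvPolynomial (Fin 2) V) (Q V ϖ)) :=
    Ideal.Quotient.mk_surjective
  set z : Q V ϖ ⊗[MvPolynomial (Fin 2) V] Ω[MvPolynomial (Fin 2) V⁄V] :=
    s ⊗ₜ KaehlerDifferential.D V (MvPolynomial (Fin 2) V) (MvPolynomial.X 0) +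
    t ⊗ₜ KaehlerDifferential.D V (MvPolynomial (Fin 2) V) (MvPolynomial.X 1) with hz
  have hz0 : KaehlerDifferential.mapBaseChange V (MvPolynomial (Fin 2) V) (Q V ϖ) z = 0 := by
    rw [hz, map_add, KaehlerDifferential.mapBaseChange_tmul,
      KaehlerDifferential.mapBaseChange_tmul, KaehlerDifferential.map_D,
      KaehlerDifferential.map_D]
    exact h
  obtain ⟨c, hc⟩ := (KaehlerDifferential.exact_kerCotangentToTensor_mapBaseChange V
    (MvPolynomial (Fin 2) V) (Q V ϖ) hsurj z).mp hz0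
  obtain ⟨⟨w, hw⟩, rfl⟩ := Ideal.toCotangent_surjective _ c
  rw [KaehlerDifferential.kerCotangentToTensor_toCotangent] at hc
  have hw' : w ∈ Ideal.span {gNode V ϖ} := by
    have : RingHom.ker (algebraMap (MvPolynomial (Fin 2) V) (Q V ϖ)) =
        Ideal.span {gNode V ϖ} := Ideal.mk_ker
    rwa [this] at hw
  obtain ⟨a, rfl⟩ := Ideal.mem_span_singleton'.mp hw'
  dsimp only at hc
  have hg0 : (Ideal.Quotient.mk (Ideal.span {gNode V ϖ})) (gNode V ϖ) = 0 :=
    Ideal.Quotient.eq_zero_iff_mem.mpr (Ideal.subset_span rfl)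
  have hDg : KaehlerDifferential.D V (MvPolynomial (Fin 2) V) (gNode V ϖ) =
      (MvPolynomial.X 0 : MvPolynomial (Fin 2) V) •
        KaehlerDifferential.D V (MvPolynomial (Fin 2) V) (MvPolynomial.X 1) +
      (MvPolynomial.X 1 : MvPolynomial (Fin 2) V) •
        KaehlerDifferential.D V (MvPolynomial (Fin 2) V) (MvPolynomial.X 0) := by
    have hC : (MvPolynomial.C ϖ : MvPolynomial (Fin 2) V) =
        algebraMap V (MvPolynomial (Fin 2) V) ϖ := rfl
    rw [gNode, map_sub, Derivation.leibniz, hC, Derivation.map_algebraMap, sub_zero]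
  have hsm : ∀ (p : MvPolynomial (Fin 2) V) (q : Q V ϖ),
      p • q = Ideal.Quotient.mk (Ideal.span {gNode V ϖ}) p * q := fun p q => Algebra.smul_def p q
  have key : ∀ i : Fin 2, coeffAt V ϖ i ((1 : Q V ϖ) ⊗ₜ[MvPolynomial (Fin 2) V]
      KaehlerDifferential.D V (MvPolynomial (Fin 2) V) (a * gNode V ϖ)) =
      (Ideal.Quotient.mk (Ideal.span {gNode V ϖ}) a) *
        (coeffAt V ϖ i ((1 : Q V ϖ) ⊗ₜ[MvPolynomial (Fin 2) V]
          KaehlerDifferential.D V (MvPolynomial (Fin 2) V) (gNode V ϖ))) := by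
    intro i
    rw [Derivation.leibniz, TensorProduct.tmul_add, TensorProduct.tmul_smul,
      TensorProduct.tmul_smul, map_add, map_smul, map_smul]
    have h0 : gNode V ϖ • coeffAt V ϖ i ((1 : Q V ϖ) ⊗ₜ[MvPolynomial (Fin 2) V]
        KaehlerDifferential.D V (MvPolynomial (Fin 2) V) a) = 0 := by
      rw [hsm, hg0, zero_mul]
    rw [h0, add_zero, hsm]
  have hg : ∀ i : Fin 2, coeffAt V ϖ i ((1 : Q V ϖ) ⊗ₜ[MvPolynomial (Fin 2) V]
      KaehlerDifferential.D V (MvPolynomial (Fin 2) V) (gNode V ϖ)) =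
      (if (1 : Fin 2) = i then xq V ϖ else 0) + (if (0 : Fin 2) = i then yq V ϖ else 0) := by
    intro i
    rw [hDg, TensorProduct.tmul_add, TensorProduct.tmul_smul, TensorProduct.tmul_smul, map_add,
      map_smul, map_smul, coeffAt_tmul_D_X, coeffAt_tmul_D_X, hsm, hsm]
    congr 1
    · split_ifs
      · rw [mul_one]
      · rw [mul_zero]
    · split_ifs
      · rw [mul_one]
      · rw [mul_zero]
  have hzc : ∀ i : Fin 2, coeffAt V ϖ i z =
      (if (0 : Fin 2) = i then s else 0) + (if (1 : Fin 2) = i then t else 0) := by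
    intro i
    rw [hz, map_add, coeffAt_tmul_D_X, coeffAt_tmul_D_X]
  refine ⟨Ideal.Quotient.mk _ a, ?_, ?_⟩
  · have h1 := congrArg (coeffAt V ϖ 0) hc
    rw [key, hg, hzc] at h1
    simpa using h1.symm
  · have h1 := congrArg (coeffAt V ϖ 1) hc
    rw [key, hg, hzc] at h1
    simpa using h1.symm

end Groth.Agent.Lib.Helper18.NodeKQ
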