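import Groth.Prelude.Def_W4c3degenlocivbPfaff
import Mathlib.RingTheory.MvPolynomial.Homogeneous
import Mathlib.Tactic.Ring
import Mathlib.Tactic.LinearCombination

set_option autoImplicit false
universe u

namespace Groth.Agent.Lib.Helper18.Pfaff

open W4c3degenlocivb

theorem pf_zero {R : Type*} [CommRing R] (T : Matrix (Fin 0) (Fin 0) R) : pf 0 T = 1 := by
  rw [pf]

theorem pf_one {R : Type*} [CommRing R] (T : Matrix (Fin 1) (Fin 1) R) : pf 1 T = 0 := by
  rw [pf]

theorem pf_succ_succ {R : Type*} [CommRing R] (n : ℕ) (T : Matrix (Fin (n + 2)) (Fin (n + 2)) R) :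
    pf (n + 2) T = ∑ j : Fin (n + 1),
      (-1) ^ ((j : ℕ) + 1) * T (Fin.last (n + 1)) (Fin.castSucc j) *
        pf n (T.submatrix (Fin.castSucc ∘ j.succAbove) (Fin.castSucc ∘ j.succAbove)) := by
  rw [pf]

theorem pf_map {R S : Type*} [CommRing R] [CommRing S] (φ : R →+* S) :
    ∀ (n : ℕ) (T : Matrix (Fin n) (Fin n) R), pf n (T.map φ) = φ (pf n T) := by
  intro n
  induction n using Nat.twoStepInduction with
  | zero =>
    intro T
    rw [pf_zero, pf_zero, map_one]
  | one =>
    intro T
    rw [pf_one, pf_one, map_zero]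
  | more n ih _ =>
    intro T
    rw [pf_succ_succ, pf_succ_succ, map_sum]
    apply Finset.sum_congr rfl
    intro j _
    rw [map_mul, map_mul, map_pow, map_neg, map_one, ← ih]
    rfl

theorem pf_homog {σ : Type*} {R : Type*} [CommRing R] :
    ∀ (n : ℕ) (T : Matrix (Fin n) (Fin n) (MvPolynomial σ R)),
      (∀ a b, (T a b).IsHomogeneous 1) → (pf n T).IsHomogeneous (n / 2) := by
  intro n
  induction n using Nat.twoStepInduction with
  | zero =>
    intro T _
    rw [pf_zero]
    exact MvPolynomial.isHomogeneous_one _ _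
  | one =>
    intro T _
    rw [pf_one]
    exact MvPolynomial.isHomogeneous_zero _ _ _
  | more n ih _ =>
    intro T hT
    rw [pf_succ_succ]
    apply MvPolynomial.IsHomogeneous.sum
    intro j _
    have e : (n + 2) / 2 = 1 + n / 2 := by omega
    rw [e]
    apply MvPolynomial.IsHomogeneous.mul
    · have h1 : ((-1 : MvPolynomial σ R) ^ ((j : ℕ) + 1)).IsHomogeneous 0 := by
        have := (MvPolynomial.isHomogeneous_one σ R).neg.pow ((j : ℕ) + 1)
        rwa [zero_mul] at this
      have := h1.mul (hT (Fin.last (n + 1)) (Fin.castSucc j))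
      rwa [zero_add] at this
    · apply ih
      intro a b
      exact hT _ _

section tri

variable {R : Type*} [CommRing R]

def tri (s : ℕ → R) (a b : ℕ) : R := if b = a + 1 then s a else if a = b + 1 then - s b else 0

def sub (s : ℕ → R) {m : ℕ} (e : Fin m → ℕ) : Matrix (Fin m) (Fin m) R :=
  Matrix.of fun x y => tri s (e x) (e y)

theorem peel (s : ℕ → R) (m : ℕ) (e : Fin (m + 2) → ℕ) (he : StrictMono e)
    (hadj : e (Fin.last (m + 1)) = e (Fin.castSucc (Fin.last m)) + 1) :
    pf (m + 2) (sub s e) = (-1) ^ m * s (e (Fin.castSucc (Fin.last m))) *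
      pf m (sub s (fun x : Fin m => e (Fin.castSucc (Fin.castSucc x)))) := by
  rw [pf_succ_succ, Finset.sum_eq_single (Fin.last m)]
  · rw [Fin.succAbove_last]
    have h1 : sub s e (Fin.last (m + 1)) (Fin.castSucc (Fin.last m)) = - s (e (Fin.castSucc (Fin.last m))) := by
      unfold sub tri
      rw [Matrix.of_apply, hadj, if_neg (by omega), if_pos rfl]
    have h2 : (sub s e).submatrix (Fin.castSucc ∘ Fin.castSucc) (Fin.castSucc ∘ Fin.castSucc)
        = sub s (fun x : Fin m => e (Fin.castSucc (Fin.castSucc x))) := by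
      ext x y
      rfl
    rw [h1, h2, Fin.val_last, pow_succ]
    ring
  · intro j _ hj
    have hlt : j < Fin.last m := lt_of_le_of_ne (Fin.le_last j) hj
    have h1 : e (Fin.castSucc j) < e (Fin.castSucc (Fin.last m)) := he (Fin.castSucc_lt_castSucc_iff.mpr hlt)
    have h0 : sub s e (Fin.last (m + 1)) (Fin.castSucc j) = 0 := by
      unfold sub tri
      rw [Matrix.of_apply, if_neg (by omega), if_neg (by omega)]
    rw [h0, mul_zero, zero_mul]
  · intro h
    exact absurd (Finset.mem_univ _) h

def ee (t : ℕ) (x : ℕ) : ℕ := if x < 2 * t then x else x + 1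

theorem ee_strictMono (t : ℕ) : StrictMono (ee t) := by
  intro a b hab
  unfold ee
  split_ifs <;> omega

theorem pf_ee (s : ℕ → R) (t : ℕ) : ∀ m : ℕ,
    pf (2 * m) (sub s (fun x : Fin (2 * m) => ee t (x : ℕ))) = ∏ u ∈ Finset.range m, s (ee t (2 * u)) := by
  intro m
  induction m with
  | zero =>
    rw [Finset.range_zero, Finset.prod_empty]
    exact pf_zero _
  | succ m ih =>
    have hsm : StrictMono (fun x : Fin (2 * m + 2) => ee t (x : ℕ)) := by
      intro a b hab
      exact ee_strictMono t hab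
    have hadj : (fun x : Fin (2 * m + 2) => ee t (x : ℕ)) (Fin.last (2 * m + 1))
        = (fun x : Fin (2 * m + 2) => ee t (x : ℕ)) (Fin.castSucc (Fin.last (2 * m))) + 1 := by
      simp only [Fin.val_last, Fin.coe_castSucc]
      unfold ee
      split_ifs <;> omega
    have := peel s (2 * m) (fun x : Fin (2 * m + 2) => ee t (x : ℕ)) hsm hadj
    show pf (2 * m + 2) (sub s (fun x : Fin (2 * m + 2) => ee t (x : ℕ))) = _
    rw [this, Finset.prod_range_succ, ← ih]
    simp only [Fin.coe_castSucc, Fin.val_last]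
    rw [pow_mul]
    ring

end tri

end Groth.Agent.Lib.Helper18.Pfaff
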