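import Mathlib
import Groth.Prelude.Def_W4c5spincurvestfNode

set_option autoImplicit false

namespace Groth.Agent.Lib.Helper18.PolyNode

open LaurentPolynomial

universe u

variable (R : Type u) [CommRing R] (π : R)

theorem xy_eq : SpinCurv.PolyNodeRing.x R π * SpinCurv.PolyNodeRing.y R π =
    algebraMap R (SpinCurv.PolyNodeRing R π) π := by
  rw [IsScalarTower.algebraMap_apply R (MvPolynomial (Fin 2) R) (SpinCurv.PolyNodeRing R π),
    Ideal.Quotient.algebraMap_eq, MvPolynomial.algebraMap_eq]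
  unfold SpinCurv.PolyNodeRing.x SpinCurv.PolyNodeRing.y
  rw [← map_mul, Ideal.Quotient.eq]
  exact Ideal.mem_span_singleton_self _

noncomputable def e (k : ℤ) : SpinCurv.PolyNodeRing R π :=
  SpinCurv.PolyNodeRing.x R π ^ k.toNat * SpinCurv.PolyNodeRing.y R π ^ (-k).toNat

noncomputable def Phi : (ℤ →₀ R) →ₗ[R] SpinCurv.PolyNodeRing R π :=
  Finsupp.linearCombination R (e R π)

theorem rho_e (ρ : SpinCurv.PolyNodeRing R π →ₐ[R] LaurentPolynomial R) (α β : R) (ε : ℤ)
    (hx : ρ (SpinCurv.PolyNodeRing.x R π) = C α * T ε)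
    (hy : ρ (SpinCurv.PolyNodeRing.y R π) = C β * T (-ε)) (k : ℤ) :
    ρ (e R π k) = C (α ^ k.toNat * β ^ (-k).toNat) * T (ε * k) := by
  unfold e
  rw [map_mul, map_pow, map_pow, hx, hy, mul_pow, mul_pow, T_pow, T_pow, ← map_pow, ← map_pow]
  have hk : ε * k = (k.toNat : ℤ) * ε + ((-k).toNat : ℤ) * (-ε) := by
    have := Int.toNat_sub_toNat_neg k
    nth_rewrite 1 [← this]
    ring
  rw [hk, T_add, map_mul]
  ring

theorem coeff_rho_Phi (ρ : SpinCurv.PolyNodeRing R π →ₐ[R] LaurentPolynomial R) (α β : R) (ε : ℤ)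
    (hε : ε * ε = 1)
    (hx : ρ (SpinCurv.PolyNodeRing.x R π) = C α * T ε)
    (hy : ρ (SpinCurv.PolyNodeRing.y R π) = C β * T (-ε)) (u : ℤ →₀ R) (m : ℤ) :
    (ρ (Phi R π u)).coeff m = u (ε * m) * (α ^ (ε * m).toNat * β ^ (-(ε * m)).toNat) := by
  classical
  unfold Phi
  rw [Finsupp.linearCombination_apply, Finsupp.sum, map_sum]
  have hterm : ∀ k ∈ u.support, (ρ (u k • e R π k)).coeff m =
      if k = ε * m then u k * (α ^ k.toNat * β ^ (-k).toNat) else 0 := by
    intro k _
    rw [map_smul, rho_e R π ρ α β ε hx hy k, smul_eq_C_mul, ← mul_assoc, ← map_mul,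
      ← single_eq_C_mul_T]
    have hiff : ε * k = m ↔ k = ε * m := by
      constructor
      · intro h
        rw [← h, ← mul_assoc, hε, one_mul]
      · intro h
        rw [h, ← mul_assoc, hε, one_mul]
    simp only [AddMonoidAlgebra.coeff_single, Finsupp.single_apply, hiff]
  have hsum : (∑ k ∈ u.support, ρ (u k • e R π k)).coeff m =
      ∑ k ∈ u.support, (ρ (u k • e R π k)).coeff m := by
    simp
  rw [hsum, Finset.sum_congr rfl hterm, Finset.sum_ite_eq']
  split_ifs with h
  · rfl
  · rw [Finsupp.notMem_support_iff.mp h, zero_mul]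

theorem exists_rho (α β : R) (ε : ℤ) (hαβ : α * β = π) :
    ∃ ρ : SpinCurv.PolyNodeRing R π →ₐ[R] LaurentPolynomial R,
      ρ (SpinCurv.PolyNodeRing.x R π) = C α * T ε ∧
      ρ (SpinCurv.PolyNodeRing.y R π) = C β * T (-ε) := by
  let a : MvPolynomial (Fin 2) R →ₐ[R] LaurentPolynomial R :=
    MvPolynomial.aeval ![C α * T ε, C β * T (-ε)]
  have ha : ∀ z ∈ Ideal.span {(MvPolynomial.X 0 * MvPolynomial.X 1 - MvPolynomial.C π :
      MvPolynomial (Fin 2) R)}, a z = 0 := by
    intro z hz
    rw [Ideal.mem_span_singleton] at hz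
    obtain ⟨w, rfl⟩ := hz
    rw [map_mul]
    have : a (MvPolynomial.X 0 * MvPolynomial.X 1 - MvPolynomial.C π) = 0 := by
      simp only [a, map_sub, map_mul, MvPolynomial.aeval_X, MvPolynomial.aeval_C,
        Matrix.cons_val_zero, Matrix.cons_val_one]
      rw [← C_eq_algebraMap, ← hαβ, map_mul]
      have hT : (T ε : LaurentPolynomial R) * T (-ε) = 1 := by
        rw [← T_add, add_neg_cancel, T_zero]
      linear_combination (C α * C β) * hT
    rw [this, zero_mul]
  refine ⟨Ideal.Quotient.liftₐ _ a ha, ?_, ?_⟩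
  · change a (MvPolynomial.X 0) = _
    simp [a]
  · change a (MvPolynomial.X 1) = _
    simp [a]

theorem Phi_injective : Function.Injective (Phi R π) := by
  rw [← LinearMap.ker_eq_bot, LinearMap.ker_eq_bot']
  intro u hu
  obtain ⟨ρ₁, h1x, h1y⟩ := exists_rho R π 1 π 1 (one_mul π)
  obtain ⟨ρ₂, h2x, h2y⟩ := exists_rho R π π 1 (-1) (mul_one π)
  ext k
  rw [Finsupp.zero_apply]
  rcases le_or_gt 0 k with hk | hk
  · have := coeff_rho_Phi R π ρ₁ 1 π 1 (by norm_num) h1x h1y u k
    rw [hu, map_zero] at this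
    have hn : (-(1 * k)).toNat = 0 := by
      rw [one_mul]
      omega
    rw [hn, one_mul] at this
    simpa using this.symm
  · have := coeff_rho_Phi R π ρ₂ π 1 (-1) (by norm_num) h2x h2y u (-k)
    rw [hu, map_zero] at this
    have e1 : (-1 : ℤ) * -k = k := by ring
    have hn : k.toNat = 0 := by omega
    rw [e1, hn] at this
    simpa using this.symm

theorem xpow_ypow_mem (a b : ℕ) :
    SpinCurv.PolyNodeRing.x R π ^ a * SpinCurv.PolyNodeRing.y R π ^ b ∈
      LinearMap.range (Phi R π) := by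
  induction a generalizing b with
  | zero =>
    refine ⟨Finsupp.single (-(b : ℤ)) 1, ?_⟩
    unfold Phi
    rw [Finsupp.linearCombination_single, one_smul]
    unfold e
    have h1 : (-(b : ℤ)).toNat = 0 := by omega
    have h2 : (-(-(b : ℤ))).toNat = b := by omega
    rw [h1, h2]
  | succ a ih =>
    cases b with
    | zero =>
      refine ⟨Finsupp.single ((a + 1 : ℕ) : ℤ) 1, ?_⟩
      unfold Phi
      rw [Finsupp.linearCombination_single, one_smul]
      unfold e
      have h1 : (((a + 1 : ℕ) : ℤ)).toNat = a + 1 := by omega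
      have h2 : (-((a + 1 : ℕ) : ℤ)).toNat = 0 := by omega
      rw [h1, h2]
    | succ b =>
      have : SpinCurv.PolyNodeRing.x R π ^ (a + 1) * SpinCurv.PolyNodeRing.y R π ^ (b + 1) =
          algebraMap R (SpinCurv.PolyNodeRing R π) π *
            (SpinCurv.PolyNodeRing.x R π ^ a * SpinCurv.PolyNodeRing.y R π ^ b) := by
        rw [← xy_eq, pow_succ, pow_succ]
        ring
      rw [this, ← Algebra.smul_def]
      exact Submodule.smul_mem _ _ (ih b)

theorem Phi_surjective : Function.Surjective (Phi R π) := by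
  rw [← LinearMap.range_eq_top, eq_top_iff]
  intro z _
  obtain ⟨P, rfl⟩ := Ideal.Quotient.mk_surjective z
  induction P using MvPolynomial.induction_on' with
  | monomial m r =>
    have : (Ideal.Quotient.mk _ (MvPolynomial.monomial m r) : SpinCurv.PolyNodeRing R π) =
        algebraMap R (SpinCurv.PolyNodeRing R π) r *
          (SpinCurv.PolyNodeRing.x R π ^ (m 0) * SpinCurv.PolyNodeRing.y R π ^ (m 1)) := by
      unfold SpinCurv.PolyNodeRing.x SpinCurv.PolyNodeRing.y
      rw [← map_pow, ← map_pow, ← map_mul,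
        IsScalarTower.algebraMap_apply R (MvPolynomial (Fin 2) R) (SpinCurv.PolyNodeRing R π),
        Ideal.Quotient.algebraMap_eq, ← map_mul]
      congr 1
      rw [MvPolynomial.algebraMap_eq, MvPolynomial.monomial_eq, Finsupp.prod_fintype _ _ (by simp),
        Fin.prod_univ_two]
    rw [this, ← Algebra.smul_def]
    exact Submodule.smul_mem _ _ (xpow_ypow_mem R π _ _)
  | add P Q hP hQ =>
    rw [map_add]
    exact Submodule.add_mem _ (hP trivial) (hQ trivial)

noncomputable def PhiEquiv : (ℤ →₀ R) ≃ₗ[R] SpinCurv.PolyNodeRing R π :=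
  LinearEquiv.ofBijective (Phi R π) ⟨Phi_injective R π, Phi_surjective R π⟩

theorem PhiEquiv_apply (u : ℤ →₀ R) : PhiEquiv R π u = Phi R π u := rfl

end Groth.Agent.Lib.Helper18.PolyNode
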