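import Mathlib
import Groth.Agent.S10824

set_option autoImplicit false
set_option linter.unusedSectionVars false
universe u

namespace Groth.Agent.Lib.Helper18.Quartic

open MvPolynomial

variable {k : Type u} [Field k]


theorem natCast_mul_coeff_eq_zero {σ : Type*} (h : MvPolynomial σ k) (hd : ∀ i, pderiv i h = 0)
    (m : σ →₀ ℕ) (i : σ) : (m i : k) * coeff m h = 0 := by
  by_cases hmi : m i = 0
  · simp [hmi]
  · have h1 := coeff_pderiv (i := i) h (m - Finsupp.single i 1)
    rw [hd i, coeff_zero] at h1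
    have h2 : m - Finsupp.single i 1 + Finsupp.single i 1 = m := by
      ext j
      by_cases hj : j = i
      · subst hj
        simp only [Finsupp.coe_add, Finsupp.coe_tsub, Pi.add_apply, Pi.sub_apply,
          Finsupp.single_eq_same]
        omega
      · simp [Finsupp.single_eq_of_ne hj]
    have h3 : ((((m - Finsupp.single i 1 : σ →₀ ℕ) i : ℕ) : k)) + 1 = (m i : k) := by
      have : (m - Finsupp.single i 1 : σ →₀ ℕ) i + 1 = m i := by
        simp only [Finsupp.coe_tsub, Pi.sub_apply, Finsupp.single_eq_same]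
        omega
      rw [← this]
      push_cast
      rfl
    rw [h2, h3] at h1
    rw [mul_comm]
    exact h1.symm

theorem not_irreducible_of_pderiv_eq_zero [IsAlgClosed k] {σ : Type*} (h : MvPolynomial σ k)
    (hd : ∀ i, pderiv i h = 0) : ¬ Irreducible h := by
  classical
  obtain ⟨p, hp⟩ := CharP.exists k
  rcases CharP.char_is_prime_or_zero k p with hpp | hp0
  · have : Fact p.Prime := ⟨hpp⟩
    have hdiv : ∀ m ∈ h.support, ∀ i, p ∣ m i := by
      intro m hm i
      have h1 := natCast_mul_coeff_eq_zero h hd m i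
      rw [mem_support_iff] at hm
      have h2 : (m i : k) = 0 := (mul_eq_zero.mp h1).resolve_right hm
      exact (CharP.cast_eq_zero_iff k p (m i)).mp h2
    choose b hb using fun c : k => IsAlgClosed.exists_pow_nat_eq c hpp.pos
    let q : MvPolynomial σ k := ∑ m ∈ h.support, monomial (Finsupp.mapRange (· / p) (by simp) m) (b (coeff m h))
    have hq : q ^ p = h := by
      have : q ^ p = ∑ m ∈ h.support, (monomial (Finsupp.mapRange (· / p) (by simp) m) (b (coeff m h))) ^ p :=
        sum_pow_char p _ _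
      rw [this]
      conv_rhs => rw [h.as_sum]
      refine Finset.sum_congr rfl fun m hm => ?_
      have hexp : p • Finsupp.mapRange (· / p) (by simp) m = m := by
        ext i
        simp only [Finsupp.coe_smul, Pi.smul_apply, Finsupp.mapRange_apply, smul_eq_mul]
        exact Nat.mul_div_cancel' (hdiv m hm i)
      rw [monomial_pow, hb, hexp]
    rw [← hq]
    exact not_irreducible_pow hpp.ne_one
  · subst hp0
    have : CharZero k := CharP.charP_to_charZero k
    have hsupp : ∀ m ∈ h.support, m = 0 := by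
      intro m hm
      ext i
      have h1 := natCast_mul_coeff_eq_zero h hd m i
      rw [mem_support_iff] at hm
      have h2 : (m i : k) = 0 := (mul_eq_zero.mp h1).resolve_right hm
      exact_mod_cast h2
    have hC : h = C (coeff 0 h) := by
      ext m
      rw [coeff_C]
      by_cases hm : 0 = m
      · rw [if_pos hm, hm]
      · rw [if_neg hm]
        by_contra hne
        exact hm (hsupp m (mem_support_iff.mpr hne)).symm
    intro hirr
    rw [hC] at hirr
    by_cases hc : coeff 0 h = 0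
    · rw [hc, C_0] at hirr
      exact not_irreducible_zero hirr
    · exact hirr.not_isUnit ((isUnit_iff_ne_zero.mpr hc).map C)


theorem totalDegree_pderiv_lt {σ : Type*} (h : MvPolynomial σ k) (l : σ) (hne : pderiv l h ≠ 0) :
    (pderiv l h).totalDegree < h.totalDegree := by
  classical
  have hsup : (pderiv l h).support.Nonempty := by
    rw [Finset.nonempty_iff_ne_empty, Ne, support_eq_empty]
    exact hne
  obtain ⟨m, hm, hmeq⟩ := Finset.exists_mem_eq_sup (pderiv l h).support hsup
    (fun s => s.sum fun _ e => e)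
  have hc : coeff (m + Finsupp.single l 1) h ≠ 0 := by
    intro h0
    rw [mem_support_iff, coeff_pderiv, h0, zero_mul] at hm
    exact hm rfl
  have hle := le_totalDegree (mem_support_iff.mpr hc)
  have hs : ((m + Finsupp.single l 1).sum fun _ e => e) = (m.sum fun _ e => e) + 1 := by
    rw [Finsupp.sum_add_index' (fun _ => rfl) (fun _ _ _ => rfl), Finsupp.sum_single_index rfl]
  rw [hs] at hle
  have : (pderiv l h).totalDegree = m.sum fun _ e => e := hmeq
  omega

theorem pderiv_eq_zero_of_dvd {σ : Type*} (h : MvPolynomial σ k) (l : σ) (hdvd : h ∣ pderiv l h) :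
    pderiv l h = 0 := by
  by_contra hne
  obtain ⟨c, hc⟩ := hdvd
  have hh0 : h ≠ 0 := by
    rintro rfl
    rw [zero_mul] at hc
    exact hne hc
  have hc0 : c ≠ 0 := by
    rintro rfl
    rw [mul_zero] at hc
    exact hne hc
  have h1 := totalDegree_mul_of_isDomain hh0 hc0
  have h2 := totalDegree_pderiv_lt h l hne
  rw [hc, h1] at h2
  omega

noncomputable def polar {σ : Type*} [Fintype σ] (v : σ → k) (f : MvPolynomial σ k) : MvPolynomial σ k :=
  ∑ l, C (v l) * pderiv l f

section
variable {σ : Type*} [Fintype σ]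

theorem polar_add (v w : σ → k) (f : MvPolynomial σ k) : polar (v + w) f = polar v f + polar w f := by
  unfold polar
  rw [← Finset.sum_add_distrib]
  refine Finset.sum_congr rfl fun l _ => ?_
  rw [Pi.add_apply, C_add, add_mul]

theorem polar_smul (c : k) (v : σ → k) (f : MvPolynomial σ k) : polar (c • v) f = C c * polar v f := by
  unfold polar
  rw [Finset.mul_sum]
  refine Finset.sum_congr rfl fun l _ => ?_
  rw [Pi.smul_apply, smul_eq_mul, C_mul, mul_assoc]

theorem polar_zero (f : MvPolynomial σ k) : polar (0 : σ → k) f = 0 := by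
  unfold polar
  simp

theorem polar_single [DecidableEq σ] (l : σ) (f : MvPolynomial σ k) :
    polar (Pi.single l (1 : k)) f = pderiv l f := by
  unfold polar
  rw [Finset.sum_eq_single l]
  · simp
  · intro j _ hj
    simp [Pi.single_eq_of_ne hj]
  · intro h
    exact absurd (Finset.mem_univ l) h

theorem polar_isHomogeneous (v : σ → k) (f : MvPolynomial σ k) (n : ℕ) (hf : f.IsHomogeneous n) :
    (polar v f).IsHomogeneous (n - 1) := by
  unfold polar
  refine IsHomogeneous.sum _ _ _ fun l _ => ?_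
  have := (isHomogeneous_C σ (v l)).mul (hf.pderiv (i := l))
  rwa [zero_add] at this

def polarSub (h f : MvPolynomial σ k) : Submodule k (σ → k) where
  carrier := {v | h ∣ polar v f}
  add_mem' := by
    intro v w hv hw
    simp only [Set.mem_ofPred_eq] at hv hw ⊢
    rw [polar_add]
    exact dvd_add hv hw
  zero_mem' := by
    simp only [Set.mem_ofPred_eq]
    rw [polar_zero]
    exact dvd_zero h
  smul_mem' := by
    intro c v hv
    simp only [Set.mem_ofPred_eq] at hv ⊢
    rw [polar_smul]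
    exact Dvd.dvd.mul_left hv _

theorem polarSub_ne_top [IsAlgClosed k] (f : MvPolynomial σ k) (hsq : Squarefree f)
    (h : MvPolynomial σ k) (hirr : Irreducible h) (hdvd : h ∣ f) : polarSub h f ≠ ⊤ := by
  classical
  intro htop
  apply not_irreducible_of_pderiv_eq_zero h _ hirr
  intro l
  apply pderiv_eq_zero_of_dvd
  have hl : Pi.single l (1 : k) ∈ polarSub h f := by
    rw [htop]
    exact Submodule.mem_top
  have hl' : h ∣ pderiv l f := by
    have : h ∣ polar (Pi.single l (1 : k)) f := hl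
    rwa [polar_single] at this
  obtain ⟨u, rfl⟩ := hdvd
  rw [pderiv_mul] at hl'
  have h1 : h ∣ pderiv l h * u := (dvd_add_left (dvd_mul_right h _)).mp hl'
  have hprime : Prime h := UniqueFactorizationMonoid.irreducible_iff_prime.mp hirr
  rcases hprime.dvd_or_dvd h1 with h2 | h2
  · exact h2
  · exfalso
    apply hirr.not_isUnit
    apply hsq h
    exact mul_dvd_mul_left h h2

theorem exists_polar_isRelPrime [IsAlgClosed k] (f : MvPolynomial σ k) (hf0 : f ≠ 0)
    (hfu : ¬ IsUnit f) (hsq : Squarefree f) :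
    ∃ v : σ → k, polar v f ≠ 0 ∧ IsRelPrime f (polar v f) := by
  classical
  let s : Finset (Submodule k (σ → k)) :=
    (UniqueFactorizationMonoid.factors f).toFinset.image fun h => polarSub h f
  have hs : ⊤ ∉ s := by
    intro hmem
    obtain ⟨h, hh, htop⟩ := Finset.mem_image.mp hmem
    rw [Multiset.mem_toFinset] at hh
    exact polarSub_ne_top f hsq h (UniqueFactorizationMonoid.irreducible_of_factor h hh)
      (UniqueFactorizationMonoid.dvd_of_mem_factors hh) htop
  have hne := Subspace.biUnion_ne_univ_of_top_notMem hs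
  obtain ⟨v, hv⟩ : ∃ v : σ → k, v ∉ ⋃ p ∈ s, (p : Set (σ → k)) := by
    by_contra hcon
    push Not at hcon
    exact hne (Set.eq_univ_of_forall hcon)
  have hv' : ∀ h ∈ UniqueFactorizationMonoid.factors f, ¬ h ∣ polar v f := by
    intro h hh hdv
    apply hv
    simp only [Set.mem_iUnion]
    exact ⟨polarSub h f, Finset.mem_image.mpr ⟨h, Multiset.mem_toFinset.mpr hh, rfl⟩, hdv⟩
  have hkey : ∀ d : MvPolynomial σ k, d ∣ f → d ∣ polar v f → IsUnit d := by
    intro d hdf hdg
    by_contra hnu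
    have hd0 : d ≠ 0 := by
      rintro rfl
      exact hf0 (zero_dvd_iff.mp hdf)
    obtain ⟨h', hirr', hdvd'⟩ := WfDvdMonoid.exists_irreducible_factor hnu hd0
    obtain ⟨h, hh, hassoc⟩ := UniqueFactorizationMonoid.exists_mem_factors_of_dvd hf0 hirr'
      (hdvd'.trans hdf)
    exact hv' h hh (hassoc.symm.dvd.trans (hdvd'.trans hdg))
  refine ⟨v, ?_, fun d hdf hdg => hkey d hdf hdg⟩
  intro h0
  apply hfu
  apply hkey f dvd_rfl
  rw [h0]
  exact dvd_zero f

end




section
variable {σ : Type*} [Fintype σ]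

noncomputable def dP (P w : σ → k) : MvPolynomial σ k →ₗ[k] k :=
  ∑ l, w l • ((aeval P).toLinearMap ∘ₗ (pderiv l).toLinearMap)

theorem dP_apply (P w : σ → k) (q : MvPolynomial σ k) :
    dP P w q = ∑ l, w l * eval P (pderiv l q) := by
  unfold dP
  rw [LinearMap.sum_apply]
  refine Finset.sum_congr rfl fun l _ => ?_
  rw [LinearMap.smul_apply, LinearMap.comp_apply, AlgHom.toLinearMap_apply, smul_eq_mul]
  rfl

theorem dP_mul (P w : σ → k) (a b : MvPolynomial σ k) :
    dP P w (a * b) = eval P a * dP P w b + eval P b * dP P w a := by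
  simp only [dP_apply, pderiv_mul, map_add, map_mul, Finset.mul_sum]
  rw [← Finset.sum_add_distrib]
  refine Finset.sum_congr rfl fun l _ => ?_
  ring

theorem dP_sq_mul (P w : σ → k) (ℓ r : MvPolynomial σ k) (h : eval P ℓ = 0) :
    dP P w (ℓ ^ 2 * r) = 0 := by
  rw [dP_mul, pow_two, dP_mul, map_mul, h]
  ring

theorem eval_sq_mul (P : σ → k) (ℓ r : MvPolynomial σ k) (h : eval P ℓ = 0) :
    eval P (ℓ ^ 2 * r) = 0 := by
  rw [map_mul, map_pow, h]
  ring

noncomputable def linF (φ : (σ → k) →ₗ[k] k) : MvPolynomial σ k :=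
  by classical exact ∑ l, C (φ (Pi.single l 1)) * X l

theorem apply_eq_sum [DecidableEq σ] (φ : (σ → k) →ₗ[k] k) (v : σ → k) :
    φ v = ∑ l, v l * φ (Pi.single l 1) := by
  conv_lhs => rw [← Finset.univ_sum_single v, map_sum]
  refine Finset.sum_congr rfl fun l _ => ?_
  have : (Pi.single l (v l) : σ → k) = v l • Pi.single l (1 : k) := by
    rw [← Pi.single_smul, smul_eq_mul, mul_one]
  rw [this, map_smul, smul_eq_mul]

theorem eval_linF (φ : (σ → k) →ₗ[k] k) (v : σ → k) : eval v (linF φ) = φ v := by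
  classical
  rw [apply_eq_sum φ v]
  unfold linF
  rw [map_sum]
  refine Finset.sum_congr rfl fun l _ => ?_
  rw [map_mul, eval_C, eval_X, mul_comm]

theorem pderiv_linF (φ : (σ → k) →ₗ[k] k) (l : σ) :
    pderiv l (linF φ) = by classical exact C (φ (Pi.single l 1)) := by
  classical
  unfold linF
  rw [map_sum, Finset.sum_eq_single l]
  · rw [pderiv_C_mul, pderiv_X_self, mul_one]
  · intro j _ hj
    rw [pderiv_C_mul, pderiv_X_of_ne hj, mul_zero]
  · intro h
    exact absurd (Finset.mem_univ l) h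

theorem dP_linF (P w : σ → k) (φ : (σ → k) →ₗ[k] k) : dP P w (linF φ) = φ w := by
  classical
  rw [apply_eq_sum φ w, dP_apply]
  refine Finset.sum_congr rfl fun l _ => ?_
  rw [pderiv_linF, eval_C]

theorem linF_isHomogeneous (φ : (σ → k) →ₗ[k] k) : (linF φ).IsHomogeneous 1 := by
  classical
  unfold linF
  refine IsHomogeneous.sum _ _ _ fun l _ => ?_
  have := (isHomogeneous_C σ (φ (Pi.single l 1))).mul (isHomogeneous_X k l)
  rw [zero_add] at this
  convert this


theorem eval_polar (P v : σ → k) (f : MvPolynomial σ k) : eval P (polar v f) = dP P v f := by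
  unfold polar
  rw [dP_apply, map_sum]
  refine Finset.sum_congr rfl fun l _ => ?_
  rw [map_mul, eval_C]

theorem dP_eq_zero_of_sing (P w : σ → k) (f : MvPolynomial σ k)
    (hs : ∀ l, eval P (pderiv l f) = 0) : dP P w f = 0 := by
  rw [dP_apply]
  exact Finset.sum_eq_zero fun l _ => by rw [hs l, mul_zero]

theorem vanish_on_ideal (P w : σ → k) (f g : MvPolynomial σ k) (hf : eval P f = 0)
    (hs : ∀ l, eval P (pderiv l f) = 0) (hg : eval P g = 0) (hw : dP P w g = 0)
    (h : MvPolynomial σ k) (hh : h ∈ Ideal.span ({f, g} : Set (MvPolynomial σ k))) :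
    eval P h = 0 ∧ dP P w h = 0 := by
  obtain ⟨a, b, rfl⟩ := Ideal.mem_span_pair.mp hh
  constructor
  · rw [map_add, map_mul, map_mul, hf, hg]
    ring
  · rw [map_add, dP_mul, dP_mul, hf, hg, hw, dP_eq_zero_of_sing P w f hs]
    ring

end

theorem exists_tangent (P : Fin 3 → k) (hP : P ≠ 0) (g : MvPolynomial (Fin 3) k) :
    ∃ w : Fin 3 → k, dP P w g = 0 ∧ w ∉ Submodule.span k {P} := by
  let c : (Fin 3 → k) →ₗ[k] k := ∑ l, (eval P (pderiv l g)) • LinearMap.proj l
  have hc : ∀ w, c w = dP P w g := by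
    intro w
    rw [dP_apply]
    simp only [c, LinearMap.sum_apply, LinearMap.smul_apply, LinearMap.proj_apply, smul_eq_mul]
    exact Finset.sum_congr rfl fun l _ => mul_comm _ _
  have h1 := LinearMap.finrank_range_add_finrank_ker c
  have h2 : Module.finrank k (LinearMap.range c) ≤ 1 := by
    have := Submodule.finrank_le (LinearMap.range c)
    rwa [Module.finrank_self] at this
  have h3 : Module.finrank k (Fin 3 → k) = 3 := by simp
  by_contra hcon
  push Not at hcon
  have hle : LinearMap.ker c ≤ Submodule.span k {P} := fun w hw =>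
    hcon w (by rw [← hc]; exact hw)
  have h4 := Submodule.finrank_mono hle
  rw [finrank_span_singleton hP] at h4
  omega


section seven

variable {σ : Type*} [Fintype σ] (P w : Fin 7 → (σ → k))

noncomputable def Psi : MvPolynomial σ k →ₗ[k] (Fin 7 ⊕ Fin 7 → k) :=
  LinearMap.pi (Sum.elim (fun i => (aeval (P i)).toLinearMap) (fun i => dP (P i) (w i)))

theorem Psi_inl (q : MvPolynomial σ k) (i : Fin 7) : Psi P w q (Sum.inl i) = eval (P i) q := rfl

theorem Psi_inr (q : MvPolynomial σ k) (i : Fin 7) :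
    Psi P w q (Sum.inr i) = dP (P i) (w i) q := rfl

variable (ℓ : Fin 7 → Fin 7 → ((σ → k) →ₗ[k] k))

noncomputable def QQ (i : Fin 7) : MvPolynomial σ k :=
  ∏ j ∈ Finset.univ.erase i, (linF (ℓ i j)) ^ 2

theorem QQ_isHomogeneous (i : Fin 7) : (QQ ℓ i).IsHomogeneous 12 := by
  have h := IsHomogeneous.prod (Finset.univ.erase i) (fun j => (linF (ℓ i j)) ^ 2) (fun _ => 2)
    (fun j _ => by
      have := (linF_isHomogeneous (ℓ i j)).pow 2
      simpa using this)
  have hc : ∑ j ∈ Finset.univ.erase i, 2 = 12 := by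
    rw [Finset.sum_const, Finset.card_erase_of_mem (Finset.mem_univ i), Finset.card_univ,
      Fintype.card_fin]
    rfl
  rw [hc] at h
  exact h

theorem eval_QQ_ne_zero (i : Fin 7) (hℓ : ∀ j, j ≠ i → ℓ i j (P i) ≠ 0) :
    eval (P i) (QQ ℓ i) ≠ 0 := by
  unfold QQ
  rw [map_prod, Finset.prod_ne_zero_iff]
  intro j hj
  rw [map_pow, eval_linF]
  exact pow_ne_zero 2 (hℓ j (Finset.ne_of_mem_erase hj))

theorem QQ_eq (i j : Fin 7) (hj : j ≠ i) :
    QQ ℓ i = (linF (ℓ i j)) ^ 2 * ∏ j' ∈ (Finset.univ.erase i).erase j, (linF (ℓ i j')) ^ 2 := by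
  unfold QQ
  rw [Finset.mul_prod_erase (Finset.univ.erase i) (fun j' => (linF (ℓ i j')) ^ 2)
    (Finset.mem_erase.mpr ⟨hj, Finset.mem_univ j⟩)]

theorem Psi_QQ_mul_other (i j : Fin 7) (hj : j ≠ i) (hℓ : ℓ i j (P j) = 0) (r : MvPolynomial σ k) :
    Psi P w (QQ ℓ i * r) (Sum.inl j) = 0 ∧ Psi P w (QQ ℓ i * r) (Sum.inr j) = 0 := by
  rw [Psi_inl, Psi_inr, QQ_eq ℓ i j hj, mul_assoc]
  have h0 : eval (P j) (linF (ℓ i j)) = 0 := by rw [eval_linF, hℓ]
  exact ⟨eval_sq_mul _ _ _ h0, dP_sq_mul _ _ _ _ h0⟩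

theorem Psi_surjective_aux
    (hℓ0 : ∀ i j, j ≠ i → ℓ i j (P j) = 0) (hℓ1 : ∀ i j, j ≠ i → ℓ i j (P i) ≠ 0)
    (μ lam : Fin 7 → ((σ → k) →ₗ[k] k)) (hμ0 : ∀ i, μ i (P i) = 0) (hμ1 : ∀ i, μ i (w i) ≠ 0)
    (hlam : ∀ i, lam i (P i) ≠ 0) (t : Fin 7 ⊕ Fin 7) :
    ∃ q : MvPolynomial σ k, q.IsHomogeneous 13 ∧ Psi P w q = Pi.single t 1 := by
  have hA : ∀ i, ∃ q : MvPolynomial σ k, q.IsHomogeneous 13 ∧ Psi P w q = Pi.single (Sum.inr i) 1 := by
    intro i
    set E := eval (P i) (QQ ℓ i) with hE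
    have hE0 : E ≠ 0 := eval_QQ_ne_zero P ℓ i (hℓ1 i)
    refine ⟨C (E * μ i (w i))⁻¹ * (QQ ℓ i * linF (μ i)), ?_, ?_⟩
    · have := (isHomogeneous_C σ ((E * μ i (w i))⁻¹)).mul
        ((QQ_isHomogeneous ℓ i).mul (linF_isHomogeneous (μ i)))
      simpa using this
    · rw [← smul_eq_C_mul, map_smul]
      funext t'
      rw [Pi.smul_apply, smul_eq_mul]
      rcases t' with j | j
      · by_cases hj : j = i
        · subst hj
          rw [Psi_inl, map_mul, eval_linF, hμ0, mul_zero, mul_zero]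
          simp
        · rw [(Psi_QQ_mul_other P w ℓ i j hj (hℓ0 i j hj) _).1, mul_zero]
          rw [Pi.single_eq_of_ne (by simp)]
      · by_cases hj : j = i
        · subst hj
          rw [Psi_inr, dP_mul, dP_linF, eval_linF, hμ0, zero_mul, add_zero, Pi.single_eq_same]
          exact inv_mul_cancel₀ (mul_ne_zero hE0 (hμ1 j))
        · rw [(Psi_QQ_mul_other P w ℓ i j hj (hℓ0 i j hj) _).2, mul_zero]
          rw [Pi.single_eq_of_ne (by simpa using hj)]
  rcases t with i | i
  · set E := eval (P i) (QQ ℓ i) with hE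
    have hE0 : E ≠ 0 := eval_QQ_ne_zero P ℓ i (hℓ1 i)
    obtain ⟨qA, hqA, hA'⟩ := hA i
    set B := QQ ℓ i * linF (lam i) with hB
    set c := dP (P i) (w i) B with hc
    refine ⟨C (E * lam i (P i))⁻¹ * (B - C c * qA), ?_, ?_⟩
    · have h1 : B.IsHomogeneous 13 := (QQ_isHomogeneous ℓ i).mul (linF_isHomogeneous (lam i))
      have h2 : (C c * qA).IsHomogeneous 13 := by
        have := (isHomogeneous_C σ c).mul hqA
        simpa using this
      have := (isHomogeneous_C σ ((E * lam i (P i))⁻¹)).mul (h1.sub h2)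
      simpa using this
    · rw [← smul_eq_C_mul, map_smul, map_sub, ← smul_eq_C_mul, map_smul, hA']
      funext t'
      rw [Pi.smul_apply, smul_eq_mul, Pi.sub_apply, Pi.smul_apply, smul_eq_mul]
      rcases t' with j | j
      · by_cases hj : j = i
        · subst hj
          rw [Psi_inl, hB, map_mul, eval_linF, Pi.single_eq_of_ne (by simp), mul_zero, sub_zero,
            Pi.single_eq_same]
          exact inv_mul_cancel₀ (mul_ne_zero hE0 (hlam j))
        · rw [(Psi_QQ_mul_other P w ℓ i j hj (hℓ0 i j hj) _).1, Pi.single_eq_of_ne (by simp),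
            mul_zero, sub_zero, mul_zero, Pi.single_eq_of_ne (by simpa using hj)]
      · by_cases hj : j = i
        · subst hj
          rw [Psi_inr, Pi.single_eq_same, mul_one, ← hc, sub_self, mul_zero,
            Pi.single_eq_of_ne (by simp)]
        · rw [(Psi_QQ_mul_other P w ℓ i j hj (hℓ0 i j hj) _).2,
            Pi.single_eq_of_ne (by simpa using hj), mul_zero, sub_zero, mul_zero,
            Pi.single_eq_of_ne (by simp)]
  · exact hA i

end seven


theorem seven_false (f g : MvPolynomial (Fin 3) k) (hf : f.IsHomogeneous 4)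
    (hg : g.IsHomogeneous 3) (hf0 : f ≠ 0) (hg0 : g ≠ 0) (hfg : IsRelPrime f g)
    (P w : Fin 7 → (Fin 3 → k)) (hP : ∀ i j, j ≠ i → P i ∉ Submodule.span k {P j})
    (hP0 : ∀ i, P i ≠ 0) (hw : ∀ i, w i ∉ Submodule.span k {P i})
    (hvan : ∀ i, ∀ h ∈ Ideal.span ({f, g} : Set (MvPolynomial (Fin 3) k)),
      eval (P i) h = 0 ∧ dP (P i) (w i) h = 0) : False := by
  have hℓ : ∀ i j, ∃ φ : (Fin 3 → k) →ₗ[k] k, j ≠ i → (φ (P j) = 0 ∧ φ (P i) ≠ 0) := by
    intro i j
    by_cases hj : j ≠ i
    · obtain ⟨φ, h1, h2⟩ := Submodule.exists_le_ker_of_notMem (hP i j hj)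
      exact ⟨φ, fun _ => ⟨h2 (Submodule.mem_span_singleton_self _), h1⟩⟩
    · exact ⟨0, fun h => absurd h hj⟩
  choose ℓ hℓ using hℓ
  have hμ : ∀ i, ∃ φ : (Fin 3 → k) →ₗ[k] k, φ (P i) = 0 ∧ φ (w i) ≠ 0 := by
    intro i
    obtain ⟨φ, h1, h2⟩ := Submodule.exists_le_ker_of_notMem (hw i)
    exact ⟨φ, h2 (Submodule.mem_span_singleton_self _), h1⟩
  choose μ hμ0 hμ1 using hμ
  have hlam : ∀ i, ∃ φ : (Fin 3 → k) →ₗ[k] k, φ (P i) ≠ 0 := by
    intro i
    have : P i ∉ (⊥ : Submodule k (Fin 3 → k)) := by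
      rw [Submodule.mem_bot]
      exact hP0 i
    obtain ⟨φ, h1, -⟩ := Submodule.exists_le_ker_of_notMem this
    exact ⟨φ, h1⟩
  choose lam hlam using hlam
  have hsurj := Psi_surjective_aux P w ℓ (fun i j hj => (hℓ i j hj).1) (fun i j hj => (hℓ i j hj).2)
    μ lam hμ0 hμ1 hlam
  set S := homogeneousSubmodule (Fin 3) k 13 with hS
  set W := Submodule.comap S.subtype
    ((Ideal.span ({f, g} : Set (MvPolynomial (Fin 3) k))).restrictScalars k) with hWdef
  have hfin : Module.finrank k (S ⧸ W) = 4 * 3 :=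
    Groth.Agent.S10824.result k 4 3 13 f g hf hg (by norm_num) (by norm_num) hf0 hg0 hfg
      (by norm_num)
  have : Module.Finite k (S ⧸ W) := Module.finite_of_finrank_pos (by rw [hfin]; norm_num)
  let Φ : S →ₗ[k] (Fin 7 ⊕ Fin 7 → k) := (Psi P w) ∘ₗ S.subtype
  have hW : W ≤ LinearMap.ker Φ := by
    intro x hx
    rw [LinearMap.mem_ker]
    have hx' : (x : MvPolynomial (Fin 3) k) ∈ Ideal.span ({f, g} : Set (MvPolynomial (Fin 3) k)) := hx
    funext t
    rcases t with i | i
    · exact (hvan i _ hx').1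
    · exact (hvan i _ hx').2
  have hΦ : Function.Surjective (W.liftQ Φ hW) := by
    rw [← LinearMap.range_eq_top, Submodule.range_liftQ, LinearMap.range_eq_top]
    intro x
    have hx : x = ∑ t, x t • (Pi.single t (1 : k) : Fin 7 ⊕ Fin 7 → k) := by
      conv_lhs => rw [← Finset.univ_sum_single x]
      refine Finset.sum_congr rfl fun t _ => ?_
      rw [← Pi.single_smul, smul_eq_mul, mul_one]
    choose q hq1 hq2 using hsurj
    refine ⟨∑ t, x t • ⟨q t, (mem_homogeneousSubmodule _ _).mpr (hq1 t)⟩, ?_⟩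
    rw [map_sum]
    conv_rhs => rw [hx]
    refine Finset.sum_congr rfl fun t _ => ?_
    rw [map_smul]
    congr 1
    exact hq2 t
  have hle := LinearMap.finrank_le_finrank_of_surjective hΦ
  rw [hfin, Module.finrank_fintype_fun_eq_card] at hle
  simp at hle


end Groth.Agent.Lib.Helper18.Quartic
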