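import Mathlib
import Groth.Agent.S4875

set_option autoImplicit false
universe u
open TensorProduct

namespace Groth.Agent.Lib.Helper18.SDFRC

section
variable {k : Type u} [Field k] (A R : Type u) [CommRing A] [Algebra k A] [CommRing R] [Algebra k R]

/-- the map `A ⊗ R₀ → A ⊗ R`. -/
noncomputable abbrev incl (R₀ : Subalgebra k R) : A ⊗[k] R₀ →ₐ[k] A ⊗[k] R :=
  Algebra.TensorProduct.map (AlgHom.id k A) R₀.val

variable {A R}

lemma incl_injective (R₀ : Subalgebra k R) : Function.Injective (incl A R R₀) := by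
  have h : Function.Injective (R₀.val.toLinearMap.lTensor A) :=
    Module.Flat.lTensor_preserves_injective_linearMap _ Subtype.val_injective
  exact h

lemma range_incl_mono {R₀ R₁ : Subalgebra k R} (h : R₀ ≤ R₁) :
    (incl A R R₀).range ≤ (incl A R R₁).range := by
  rintro _ ⟨x, rfl⟩
  refine ⟨Algebra.TensorProduct.map (AlgHom.id k A) (Subalgebra.inclusion h) x, ?_⟩
  change incl A R R₁ (Algebra.TensorProduct.map (AlgHom.id k A) (Subalgebra.inclusion h) x) =
    incl A R R₀ x
  induction x using TensorProduct.induction_on with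
  | zero => simp
  | tmul a r => rfl
  | add x y hx hy => rw [map_add, map_add, hx, hy, map_add]

lemma exists_fg_mem_range (z : A ⊗[k] R) :
    ∃ R₀ : Subalgebra k R, R₀.FG ∧ z ∈ (incl A R R₀).range := by
  induction z using TensorProduct.induction_on with
  | zero => exact ⟨⊥, Subalgebra.fg_bot, zero_mem _⟩
  | tmul a r =>
    refine ⟨Algebra.adjoin k {r}, Subalgebra.fg_adjoin_finset {r} |> (by simpa using ·), ?_⟩
    exact ⟨a ⊗ₜ ⟨r, Algebra.subset_adjoin (Set.mem_singleton r)⟩, rfl⟩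
  | add x y hx hy =>
    obtain ⟨R₁, h1, hx1⟩ := hx
    obtain ⟨R₂, h2, hy2⟩ := hy
    exact ⟨R₁ ⊔ R₂, h1.sup h2, add_mem (range_incl_mono le_sup_left hx1)
      (range_incl_mono le_sup_right hy2)⟩

end

lemma map_incl {k : Type u} [Field k] {A R : Type u} [CommRing A] [Algebra k A] [CommRing R]
    [Algebra k R] {C : Type u} [CommRing C] [Algebra k C] (ψ : A →ₐ[k] C) (R₀ : Subalgebra k R)
    (x : A ⊗[k] R₀) :
    Algebra.TensorProduct.map ψ (AlgHom.id k R) (incl A R R₀ x) =
      incl C R R₀ (Algebra.TensorProduct.map ψ (AlgHom.id k R₀) x) := by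
  induction x using TensorProduct.induction_on with
  | zero => simp
  | tmul a r => rfl
  | add x y hx hy => simp only [map_add, hx, hy]

theorem RC {k : Type u} [Field k] {A R : Type u} [CommRing A] [Algebra k A] [CommRing R] [Algebra k R] (b τ : A ⊗[k] R) {Λ : Type u} (C : Λ → Type u) [∀ i, CommRing (C i)] [∀ i, Algebra k (C i)] (ψ : ∀ i, A →ₐ[k] C i) (hSL : ∀ (g x : A), (∀ i, ∃ m : ℕ, ψ i g ^ m * ψ i x = 0) → ∃ m : ℕ, g ^ m * x = 0) (hvan : ∀ i, ∃ m : ℕ, (Algebra.TensorProduct.map (ψ i) (AlgHom.id k R) b) ^ m * Algebra.TensorProduct.map (ψ i) (AlgHom.id k R) τ = 0) : ∃ m : ℕ, b ^ m * τ = 0 := by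
  classical
  -- Step 1: a finitely generated subalgebra
  obtain ⟨R₁, hR₁, hb1⟩ := exists_fg_mem_range b
  obtain ⟨R₂, hR₂, hτ2⟩ := exists_fg_mem_range τ
  let R₀ : Subalgebra k R := R₁ ⊔ R₂
  have hR₀ : R₀.FG := hR₁.sup hR₂
  obtain ⟨b₀, hb₀⟩ := range_incl_mono (A := A) (le_sup_left : R₁ ≤ R₀) hb1
  obtain ⟨τ₀, hτ₀⟩ := range_incl_mono (A := A) (le_sup_right : R₂ ≤ R₀) hτ2
  change incl A R R₀ b₀ = b at hb₀
  change incl A R R₀ τ₀ = τ at hτ₀
  -- Step 3: the localization
  haveI : Algebra.FiniteType k R₀ := (Subalgebra.fg_iff_finiteType R₀).mp hR₀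
  haveI : Algebra.FinitePresentation k R₀ := Algebra.FinitePresentation.of_finiteType.mp inferInstance
  let A₀ := A ⊗[k] R₀
  let B₀ := Localization.Away b₀
  haveI : Module.Flat A A₀ := inferInstance
  haveI : Module.Flat A₀ B₀ := IsLocalization.flat B₀ (Submonoid.powers b₀)
  haveI : Module.Flat A B₀ := Module.Flat.trans A A₀ B₀
  haveI : Algebra.FinitePresentation A A₀ := inferInstance
  haveI : Algebra.FinitePresentation A₀ B₀ := IsLocalization.Away.finitePresentation b₀
  haveI : Algebra.FinitePresentation A B₀ := Algebra.FinitePresentation.trans A A₀ B₀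
  obtain ⟨l, hl, hfree⟩ := Groth.Agent.S2591.result (A := A) (B := B₀) B₀
  have ht0 : algebraMap A₀ B₀ τ₀ = 0 := by
    refine Groth.Agent.S4875.ringF (A := A) B₀ l hl hfree C (fun i => (ψ i).toRingHom) hSL
      (algebraMap A₀ B₀ τ₀) ?_
    intro i R' _ α β hαβ
    have hαβ' : ∀ a : A, α (ψ i a) = β (algebraMap A B₀ a) := fun a =>
      congrArg (fun f => f a) hαβ
    letI : Algebra k R' := (α.comp (algebraMap k (C i))).toAlgebra
    let α' : C i →ₐ[k] R' := { α with commutes' := fun c => rfl }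
    let βr : R₀ →ₐ[k] R' :=
      { toRingHom := (β.comp (algebraMap A₀ B₀)).comp
          (Algebra.TensorProduct.includeRight : R₀ →ₐ[k] A ⊗[k] R₀).toRingHom
        commutes' := by
          intro c
          change β (algebraMap A₀ B₀ ((1 : A) ⊗ₜ[k] (algebraMap k R₀ c))) = α (algebraMap k (C i) c)
          have h1 : ((1 : A) ⊗ₜ[k] (algebraMap k R₀ c) : A₀) = algebraMap A A₀ (algebraMap k A c) :=
            ((Algebra.TensorProduct.includeRight : R₀ →ₐ[k] A ⊗[k] R₀).commutes c).trans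
              (IsScalarTower.algebraMap_apply k A A₀ c)
          rw [h1, ← IsScalarTower.algebraMap_apply A A₀ B₀, ← hαβ', (ψ i).commutes] }
    let γ : C i ⊗[k] R₀ →ₐ[k] R' := Algebra.TensorProduct.productMap α' βr
    have hγ : ∀ z : A₀, γ (Algebra.TensorProduct.map (ψ i) (AlgHom.id k R₀) z) =
        β (algebraMap A₀ B₀ z) := by
      intro z
      induction z using TensorProduct.induction_on with
      | zero => simp
      | tmul a r =>
        have h2 : (a ⊗ₜ[k] r : A₀) = algebraMap A A₀ a * ((1 : A) ⊗ₜ[k] r) := by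
          rw [Algebra.TensorProduct.algebraMap_apply, Algebra.TensorProduct.tmul_mul_tmul]
          simp
        have hL : γ (Algebra.TensorProduct.map (ψ i) (AlgHom.id k R₀) (a ⊗ₜ[k] r)) =
            α (ψ i a) * β (algebraMap A₀ B₀ ((1 : A) ⊗ₜ[k] r)) := by
          rw [Algebra.TensorProduct.map_tmul]
          exact Algebra.TensorProduct.productMap_apply_tmul α' βr _ _
        have hR : β (algebraMap A₀ B₀ (a ⊗ₜ[k] r)) =
            β (algebraMap A B₀ a) * β (algebraMap A₀ B₀ ((1 : A) ⊗ₜ[k] r)) := by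
          rw [h2, map_mul, map_mul, ← IsScalarTower.algebraMap_apply A A₀ B₀]
        rw [hL, hR, hαβ']
      | add x y hx hy => simp only [map_add, hx, hy]
    obtain ⟨m, hm⟩ := hvan i
    rw [← hb₀, ← hτ₀, map_incl, map_incl, ← map_pow, ← map_mul] at hm
    have hm' := incl_injective (A := C i) R₀ (hm.trans (map_zero _).symm)
    have h3 := congrArg γ hm'
    rw [map_mul, map_pow, hγ, hγ, map_zero] at h3
    have hu : IsUnit (β (algebraMap A₀ B₀ b₀) ^ m) :=
      ((IsLocalization.Away.algebraMap_isUnit b₀).map β).pow m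
    exact hu.mul_right_eq_zero.mp h3
  -- Step 5
  obtain ⟨⟨_, m, rfl⟩, hm⟩ := (IsLocalization.map_eq_zero_iff (Submonoid.powers b₀) B₀ τ₀).mp ht0
  refine ⟨m, ?_⟩
  rw [← hb₀, ← hτ₀, ← map_pow, ← map_mul]
  simp only at hm
  rw [hm, map_zero]

end Groth.Agent.Lib.Helper18.SDFRC
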