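import Mathlib
import Groth.Agent.S4875
import Groth.Agent.Lib.Helper18.SDFRC

set_option autoImplicit false
universe u
open TensorProduct

namespace Groth.Agent.Lib.Helper18.SD77RC

theorem rc {k : Type u} [Field k] {A : Type u} [CommRing A] [Algebra k A] (R : Type u) [CommRing R] [Algebra k R] {Λ : Type u} (C : Λ → Type u) [∀ i, CommRing (C i)] [∀ i, Algebra k (C i)] (ψ : ∀ i, A →ₐ[k] C i) (hSL : ∀ (g x : A), (∀ i, ∃ m : ℕ, ψ i g ^ m * ψ i x = 0) → ∃ m : ℕ, g ^ m * x = 0) (b τ : A ⊗[k] R) (h : ∀ i, ∃ m : ℕ, (Algebra.TensorProduct.map (ψ i) (AlgHom.id k R) b) ^ m * Algebra.TensorProduct.map (ψ i) (AlgHom.id k R) τ = 0) : ∃ m : ℕ, b ^ m * τ = 0 :=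
  Groth.Agent.Lib.Helper18.SDFRC.RC b τ C ψ hSL h

end Groth.Agent.Lib.Helper18.SD77RC
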