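import Groth.Agent.Lib.Helper18.Nodal6

set_option autoImplicit false
set_option linter.unusedSectionVars false
set_option linter.unusedVariables false
universe u

namespace Groth.Agent.Lib.Helper18.Sing

open MvPolynomial Groth.Agent.Lib.Helper18.CubicK Groth.Agent.Lib.Helper18.Nodal

variable {K : Type u} [Field K] [IsAlgClosed K] [CharZero K]

structure Ctx0 (f : MvPolynomial (Fin 4) K) (p : Fin 4 → K) : Prop where
  hom : f.IsHomogeneous 3
  pne : p ≠ 0
  pp : ∀ u : Fin 4 → K, PhiF f p p u = 0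

variable {f : MvPolynomial (Fin 4) K} {p : Fin 4 → K}

theorem Ctx0.evalp (h : Ctx0 f p) : eval p f = 0 := by
  rw [eval_eq_PhiF h.hom, h.pp, mul_zero]

theorem Ctx0.Lpp (h : Ctx0 f p) (u : Fin 4 → K) : Lp f p u = 0 := by
  rw [Lp_apply, h.pp, mul_zero]

theorem Ctx0.f_shift (h : Ctx0 f p) (x : Fin 4 → K) (t : K) :
    eval (x + t • p) f = eval x f + t * Qp f p x := by
  rw [taylor h.hom, h.Lpp, h.evalp]
  ring

theorem Ctx0.B_p (h : Ctx0 f p) (x : Fin 4 → K) : PhiF f p x p = 0 := by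
  rw [PhiF_swap23, h.pp]

theorem q_add_rad (f : MvPolynomial (Fin 4) K) (p u r : Fin 4 → K)
    (hr : ∀ v : Fin 4 → K, PhiF f p r v = 0) : Qp f p (u + r) = Qp f p u := by
  have h1 : Qp f p r = 0 := by
    have := B_self f p r
    rw [hr] at this
    linear_combination (-1 / 2 : K) * this
  rw [Qp_add, h1, PhiF_swap23, hr]
  ring

theorem exists_coord_funs (A B C a : Fin 4 → K)
    (hind : ∀ x y z w : K, x • A + y • B + z • C + w • a = 0 → x = 0 ∧ y = 0 ∧ z = 0 ∧ w = 0) :
    ∃ X Y Z W : (Fin 4 → K) →ₗ[K] K, ∀ v : Fin 4 → K, v = X v • A + Y v • B + Z v • C + W v • a := by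
  have hli : LinearIndependent K ![A, B, C, a] := by
    rw [Fintype.linearIndependent_iff]
    intro g hg
    rw [Fin.sum_univ_four] at hg
    obtain ⟨h0, h1, h2, h3⟩ := hind (g 0) (g 1) (g 2) (g 3) (by simpa using hg)
    intro i
    fin_cases i
    · exact h0
    · exact h1
    · exact h2
    · exact h3
  let Bs := basisOfLinearIndependentOfCardEqFinrank hli (by simp)
  have hB : ⇑Bs = ![A, B, C, a] := coe_basisOfLinearIndependentOfCardEqFinrank hli _
  have h0 : Bs 0 = A := by rw [hB]; rfl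
  have h1 : Bs 1 = B := by rw [hB]; rfl
  have h2 : Bs 2 = C := by rw [hB]; rfl
  have h3 : Bs 3 = a := by rw [hB]; rfl
  refine ⟨Bs.coord 0, Bs.coord 1, Bs.coord 2, Bs.coord 3, ?_⟩
  intro v
  have h := Bs.sum_repr v
  rw [Fin.sum_univ_four, h0, h1, h2, h3] at h
  simp only [Module.Basis.coord_apply]
  exact h.symm

theorem exists_isotropic' (h : Ctx0 f p) (s : Submodule K (Fin 4 → K))
    (u1 u2 : Fin 4 → K) (hu1 : u1 ∉ s) (hu2 : ∀ x : K, ∀ r ∈ s, u2 ≠ x • u1 + r) :
    ∃ a : Fin 4 → K, a ∉ s ∧ Qp f p a = 0 := by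
  obtain ⟨x, y, hxy, hroot⟩ := Groth.Agent.S10897.exists_quad_root (Qp f p u1) (PhiF f p u1 u2) (Qp f p u2)
  refine ⟨x • u1 + y • u2, ?_, ?_⟩
  · intro hmem
    by_cases hy : y = 0
    · have hx : x ≠ 0 := by
        rcases hxy with h' | h'
        · exact h'
        · exact absurd hy h'
      apply hu1
      rw [hy, zero_smul, add_zero] at hmem
      have h3 := s.smul_mem x⁻¹ hmem
      rwa [smul_smul, inv_mul_cancel₀ hx, one_smul] at h3
    · apply hu2 (-(y⁻¹ * x)) (y⁻¹ • (x • u1 + y • u2)) (s.smul_mem _ hmem)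
      rw [smul_add, smul_smul, smul_smul, inv_mul_cancel₀ hy, one_smul, neg_smul]
      abel
  · simp only [Qp_add, Qp_smul, map_smul, LinearMap.smul_apply, smul_eq_mul]
    linear_combination hroot

def Ind4 (A B C a : Fin 4 → K) : Prop :=
  ∀ x y z w : K, x • A + y • B + z • C + w • a = 0 → x = 0 ∧ y = 0 ∧ z = 0 ∧ w = 0

theorem exists_frame0 (h : Ctx0 f p)
    (rad : ∀ u : Fin 4 → K, (∀ v : Fin 4 → K, PhiF f p u v = 0) → u ∈ Submodule.span K {p}) :
    ∃ (a b c : Fin 4 → K) (β : K), Frame f p a b c β := by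
  obtain ⟨u1, hu1⟩ := exists_outside_one p
  obtain ⟨u2, hu2⟩ := exists_outside_two p u1
  obtain ⟨a, hap, hqa⟩ := exists_isotropic' h (Submodule.span K {p}) u1 u2 hu1 (by
    intro x r hr
    rw [Submodule.mem_span_singleton] at hr
    obtain ⟨w, rfl⟩ := hr
    rw [add_comm]
    exact hu2 w x)
  obtain ⟨c', hc'⟩ : ∃ c' : Fin 4 → K, PhiF f p a c' ≠ 0 := by
    by_contra hcon
    push Not at hcon
    exact hap (rad a hcon)
  set β := PhiF f p a c' with hβ
  set c := c' - (Qp f p c' / β) • a with hc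
  have hBaa : PhiF f p a a = 0 := by rw [B_self, hqa, mul_zero]
  have hac : PhiF f p a c = β := by
    rw [hc, map_sub, map_smul, hBaa, smul_zero, sub_zero]
  have hca : PhiF f p c a = β := by rw [PhiF_swap23, hac]
  have hqc : Qp f p c = 0 := by
    have e1 : c = c' + (-(Qp f p c' / β)) • a := by
      rw [hc, neg_smul, sub_eq_add_neg]
    rw [e1, Qp_add, Qp_smul, hqa, map_smul, smul_eq_mul, PhiF_swap23 f p c' a, ← hβ]
    field_simp
    ring
  have hBcc : PhiF f p c c = 0 := by rw [B_self, hqc, mul_zero]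
  obtain ⟨e, he⟩ := exists_outside_three a c p
  obtain ⟨κ1, hκ1⟩ : ∃ κ1 : K, κ1 = PhiF f p c e / β := ⟨_, rfl⟩
  obtain ⟨κ2, hκ2⟩ : ∃ κ2 : K, κ2 = PhiF f p a e / β := ⟨_, rfl⟩
  set b0 := e - κ1 • a - κ2 • c with hb0
  have hab0 : PhiF f p a b0 = 0 := by
    rw [hb0, map_sub, map_sub, map_smul, map_smul, hBaa, hac, smul_eq_mul, smul_eq_mul, hκ2]
    field_simp
    ring
  have hcb0 : PhiF f p c b0 = 0 := by
    rw [hb0, map_sub, map_sub, map_smul, map_smul, hBcc, hca, smul_eq_mul, smul_eq_mul, hκ1]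
    field_simp
    ring
  have hb0a : PhiF f p b0 a = 0 := by rw [PhiF_swap23, hab0]
  have hb0c : PhiF f p b0 c = 0 := by rw [PhiF_swap23, hcb0]
  have hind0 : ∀ x y z w : K, x • a + y • b0 + z • c + w • p = 0 → x = 0 ∧ y = 0 ∧ z = 0 ∧ w = 0 := by
    intro x y z w hz
    have hy : y = 0 := by
      by_contra hy
      apply he (-(y⁻¹ * x) + κ1) (-(y⁻¹ * z) + κ2) (-(y⁻¹ * w))
      have e1 : y • b0 = -(x • a) - z • c - w • p := by
        rw [eq_sub_iff_add_eq, eq_sub_iff_add_eq, eq_neg_iff_add_eq_zero, ← hz]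
        abel
      have e2 : b0 = y⁻¹ • (-(x • a) - z • c - w • p) := by
        rw [← e1, smul_smul, inv_mul_cancel₀ hy, one_smul]
      have e3 : e = b0 + κ1 • a + κ2 • c := by
        rw [hb0]
        abel
      rw [e3, e2]
      simp only [smul_sub, smul_neg, smul_smul, add_smul, neg_smul]
      abel
    rw [hy, zero_smul, add_zero] at hz
    have k1 := congrArg (fun v => PhiF f p a v) hz
    simp only [map_add, map_smul, smul_eq_mul, hBaa, hac, h.B_p, map_zero, mul_zero, zero_add,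
      add_zero] at k1
    have hz0 : z = 0 := by
      rcases mul_eq_zero.mp k1 with h' | h'
      · exact h'
      · exact absurd h' hc'
    have k2 := congrArg (fun v => PhiF f p c v) hz
    simp only [map_add, map_smul, smul_eq_mul, hBcc, hca, h.B_p, map_zero, mul_zero,
      add_zero] at k2
    have hx0 : x = 0 := by
      rcases mul_eq_zero.mp k2 with h' | h'
      · exact h'
      · exact absurd h' hc'
    rw [hx0, hz0, zero_smul, zero_smul, zero_add, zero_add] at hz
    have hw0 : w = 0 := by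
      rcases smul_eq_zero.mp hz with h' | h'
      · exact h'
      · exact absurd h' h.pne
    exact ⟨hx0, hy, hz0, hw0⟩
  have hspan0 := span_of_ind4 a b0 c p hind0
  have hqb0 : Qp f p b0 ≠ 0 := by
    intro hq
    have hall : ∀ v : Fin 4 → K, PhiF f p b0 v = 0 := by
      intro v
      obtain ⟨x, y, z, w, rfl⟩ := hspan0 v
      simp only [map_add, map_smul, smul_eq_mul, hb0a, hb0c, h.B_p, B_self, hq]
      ring
    have hmem := rad b0 hall
    rw [Submodule.mem_span_singleton] at hmem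
    obtain ⟨w, hw⟩ := hmem
    have := hind0 0 1 0 (-w) (by rw [← hw]; simp)
    exact one_ne_zero this.2.1
  obtain ⟨κ, hκ⟩ := IsAlgClosed.exists_pow_nat_eq (-β / Qp f p b0) (n := 2) (by norm_num)
  have hκ0 : κ ≠ 0 := by
    intro h0
    rw [h0] at hκ
    have : -β / Qp f p b0 = 0 := by rw [← hκ]; ring
    rcases div_eq_zero_iff.mp this with h' | h'
    · exact hc' (neg_eq_zero.mp h')
    · exact hqb0 h'
  refine ⟨a, κ • b0, c, β, ?_, ?_, hc', hqa, ?_, hqc, ?_, hac, ?_⟩
  · intro x y z w hz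
    rw [smul_smul] at hz
    obtain ⟨h1, h2, h3, h4⟩ := hind0 x (y * κ) z w hz
    refine ⟨h1, ?_, h3, h4⟩
    rcases mul_eq_zero.mp h2 with h' | h'
    · exact h'
    · exact absurd h' hκ0
  · intro u
    obtain ⟨x, y, z, w, rfl⟩ := hspan0 u
    refine ⟨x, y / κ, z, w, ?_⟩
    rw [smul_smul, div_mul_cancel₀ _ hκ0]
  · rw [Qp_smul, hκ]
    field_simp
  · rw [map_smul, hab0, smul_zero]
  · rw [map_smul, LinearMap.smul_apply, hb0c, smul_zero]

theorem exists_rank2 (h : Ctx0 f p) (c : Fin 4 → K) (hcp : c ∉ Submodule.span K {p})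
    (hcrad : ∀ v : Fin 4 → K, PhiF f p c v = 0)
    (rad : ∀ u : Fin 4 → K, (∀ v : Fin 4 → K, PhiF f p u v = 0) → ∃ x y : K, u = x • p + y • c) :
    ∃ (A B : Fin 4 → K) (β : K), Ind4 A B c p ∧ β ≠ 0 ∧
      ∀ x y z w : K, Qp f p (x • A + y • B + z • c + w • p) = β * x * y := by
  obtain ⟨u1, hu1⟩ := exists_outside_two p c
  obtain ⟨u2, hu2⟩ := exists_outside_three p c u1
  obtain ⟨A, hAs, hqA⟩ := exists_isotropic' h (Submodule.span K {p, c}) u1 u2 (by
    intro hmem
    rw [Submodule.mem_span_pair] at hmem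
    obtain ⟨x, y, hxy⟩ := hmem
    exact hu1 x y hxy.symm) (by
    intro x r hr
    rw [Submodule.mem_span_pair] at hr
    obtain ⟨α, γ, rfl⟩ := hr
    intro heq
    apply hu2 α γ x
    rw [heq]
    abel)
  obtain ⟨B', hB'⟩ : ∃ B' : Fin 4 → K, PhiF f p A B' ≠ 0 := by
    by_contra hcon
    push Not at hcon
    obtain ⟨x, y, hxy⟩ := rad A hcon
    apply hAs
    rw [Submodule.mem_span_pair]
    exact ⟨x, y, hxy.symm⟩
  set β := PhiF f p A B' with hβ
  set B := B' - (Qp f p B' / β) • A with hB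
  have hBAA : PhiF f p A A = 0 := by rw [B_self, hqA, mul_zero]
  have hAB : PhiF f p A B = β := by
    rw [hB, map_sub, map_smul, hBAA, smul_zero, sub_zero]
  have hBA : PhiF f p B A = β := by rw [PhiF_swap23, hAB]
  have hqB : Qp f p B = 0 := by
    have e1 : B = B' + (-(Qp f p B' / β)) • A := by
      rw [hB, neg_smul, sub_eq_add_neg]
    rw [e1, Qp_add, Qp_smul, hqA, map_smul, smul_eq_mul, PhiF_swap23 f p B' A, ← hβ]
    field_simp
    ring
  have hBBB : PhiF f p B B = 0 := by rw [B_self, hqB, mul_zero]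
  have hvc : ∀ v : Fin 4 → K, PhiF f p v c = 0 := fun v => by rw [PhiF_swap23, hcrad]
  refine ⟨A, B, β, ?_, hB', ?_⟩
  · intro x y z w hz
    have k1 := congrArg (fun v => PhiF f p A v) hz
    simp only [map_add, map_smul, smul_eq_mul, hBAA, hAB, hvc, h.B_p, map_zero, mul_zero, zero_add,
      add_zero] at k1
    have hy0 : y = 0 := by
      rcases mul_eq_zero.mp k1 with h' | h'
      · exact h'
      · exact absurd h' hB'
    have k2 := congrArg (fun v => PhiF f p B v) hz
    simp only [map_add, map_smul, smul_eq_mul, hBBB, hBA, hvc, h.B_p, map_zero, mul_zero, zero_add,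
      add_zero] at k2
    have hx0 : x = 0 := by
      rcases mul_eq_zero.mp k2 with h' | h'
      · exact h'
      · exact absurd h' hB'
    rw [hx0, hy0, zero_smul, zero_smul, zero_add, zero_add] at hz
    have hz0 : z = 0 := by
      by_contra hz0
      apply hcp
      rw [Submodule.mem_span_singleton]
      refine ⟨-(z⁻¹ * w), ?_⟩
      have e1 : z • c = -(w • p) := by
        rw [eq_neg_iff_add_eq_zero]
        exact hz
      have e2 : c = z⁻¹ • (-(w • p)) := by
        rw [← e1, smul_smul, inv_mul_cancel₀ hz0, one_smul]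
      rw [e2, smul_neg, smul_smul, neg_smul]
    rw [hz0, zero_smul, zero_add] at hz
    have hw0 : w = 0 := by
      rcases smul_eq_zero.mp hz with h' | h'
      · exact h'
      · exact absurd h' h.pne
    exact ⟨hx0, hy0, hz0, hw0⟩
  · intro x y z w
    have hprad : ∀ v : Fin 4 → K, PhiF f p (z • c + w • p) v = 0 := by
      intro v
      rw [map_add, map_smul, map_smul, LinearMap.add_apply, LinearMap.smul_apply, LinearMap.smul_apply,
        hcrad, h.pp]
      simp
    have e : x • A + y • B + z • c + w • p = (x • A + y • B) + (z • c + w • p) := by abel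
    rw [e, q_add_rad f p _ _ hprad, Groth.Agent.S10897.expand_q, hqA, hqB, hAB]
    ring

theorem exists_rank1 (h : Ctx0 f p) (hq : ∃ v : Fin 4 → K, Qp f p v ≠ 0) (c b : Fin 4 → K)
    (hcp : c ∉ Submodule.span K {p}) (hcrad : ∀ v : Fin 4 → K, PhiF f p c v = 0)
    (hb : ∀ x y : K, b ≠ x • p + y • c) (hbrad : ∀ v : Fin 4 → K, PhiF f p b v = 0) :
    ∃ (A : Fin 4 → K) (β : K), Ind4 A b c p ∧ β ≠ 0 ∧
      ∀ x y z w : K, Qp f p (x • A + y • b + z • c + w • p) = β * x ^ 2 := by
  obtain ⟨A, hA⟩ := exists_outside_three p c b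
  have hind : Ind4 A b c p := by
    intro x y z w hz
    have hx0 : x = 0 := by
      by_contra hx0
      apply hA (-(x⁻¹ * w)) (-(x⁻¹ * z)) (-(x⁻¹ * y))
      have e1 : x • A = -(y • b) - z • c - w • p := by
        rw [eq_sub_iff_add_eq, eq_sub_iff_add_eq, eq_neg_iff_add_eq_zero, ← hz]
        abel
      have e2 : A = x⁻¹ • (-(y • b) - z • c - w • p) := by
        rw [← e1, smul_smul, inv_mul_cancel₀ hx0, one_smul]
      rw [e2]
      simp only [smul_sub, smul_neg, smul_smul, neg_smul]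
      abel
    rw [hx0, zero_smul, zero_add] at hz
    have hy0 : y = 0 := by
      by_contra hy0
      apply hb (-(y⁻¹ * w)) (-(y⁻¹ * z))
      have e1 : y • b = -(z • c) - w • p := by
        rw [eq_sub_iff_add_eq, eq_neg_iff_add_eq_zero, ← hz]
        abel
      have e2 : b = y⁻¹ • (-(z • c) - w • p) := by
        rw [← e1, smul_smul, inv_mul_cancel₀ hy0, one_smul]
      rw [e2]
      simp only [smul_sub, smul_neg, smul_smul, neg_smul]
      abel
    rw [hy0, zero_smul, zero_add] at hz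
    have hz0 : z = 0 := by
      by_contra hz0
      apply hcp
      rw [Submodule.mem_span_singleton]
      refine ⟨-(z⁻¹ * w), ?_⟩
      have e1 : z • c = -(w • p) := by
        rw [eq_neg_iff_add_eq_zero]
        exact hz
      have e2 : c = z⁻¹ • (-(w • p)) := by
        rw [← e1, smul_smul, inv_mul_cancel₀ hz0, one_smul]
      rw [e2, smul_neg, smul_smul, neg_smul]
    rw [hz0, zero_smul, zero_add] at hz
    have hw0 : w = 0 := by
      rcases smul_eq_zero.mp hz with h' | h'
      · exact h'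
      · exact absurd h' h.pne
    exact ⟨hx0, hy0, hz0, hw0⟩
  have hform : ∀ x y z w : K, Qp f p (x • A + y • b + z • c + w • p) = Qp f p A * x ^ 2 := by
    intro x y z w
    have hprad : ∀ v : Fin 4 → K, PhiF f p (y • b + z • c + w • p) v = 0 := by
      intro v
      simp only [map_add, map_smul, LinearMap.add_apply, LinearMap.smul_apply, hcrad, hbrad, h.pp]
      simp
    have e : x • A + y • b + z • c + w • p = x • A + (y • b + z • c + w • p) := by abel
    rw [e, q_add_rad f p _ _ hprad, Qp_smul]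
    ring
  refine ⟨A, Qp f p A, hind, ?_, hform⟩
  intro h0
  obtain ⟨v, hv⟩ := hq
  obtain ⟨x, y, z, w, rfl⟩ := span_of_ind4 A b c p hind v
  apply hv
  rw [hform, h0, zero_mul]

end Groth.Agent.Lib.Helper18.Sing
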