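import Groth.Agent.Lib.Helper18.Sing1
import Mathlib.Algebra.MvPolynomial.Nilpotent
import Mathlib.Algebra.MvPolynomial.Funext

set_option autoImplicit false
set_option linter.unusedSectionVars false
set_option linter.unusedVariables false
universe u

namespace Groth.Agent.Lib.Helper18.Sing

open MvPolynomial Groth.Agent.Lib.Helper18.CubicK Groth.Agent.Lib.Helper18.Nodal

variable {K : Type u} [Field K] [IsAlgClosed K] [CharZero K]

theorem not_irred_of_factor (F : MvPolynomial (Fin 4) K) (hirr : Irreducible F)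
    (G H : MvPolynomial (Fin 4) K) (hG0 : eval 0 G = 0) (hH0 : eval 0 H = 0)
    (h : ∀ x : Fin 4 → K, eval x F = eval x G * eval x H) : False := by
  have hF : F = G * H := MvPolynomial.funext (fun x => by rw [map_mul]; exact h x)
  rcases hirr.isUnit_or_isUnit hF with hu | hu
  · rw [MvPolynomial.isUnit_iff_eq_C_of_isReduced] at hu
    obtain ⟨r, hr, rfl⟩ := hu
    rw [eval_C] at hG0
    exact hr.ne_zero hG0
  · rw [MvPolynomial.isUnit_iff_eq_C_of_isReduced] at hu
    obtain ⟨r, hr, rfl⟩ := hu
    rw [eval_C] at hH0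
    exact hr.ne_zero hH0

theorem encard_le_of_poly {α : Type*} (n : ℕ) (P : Polynomial K) (hP : P ≠ 0) (hdeg : P.natDegree ≤ n)
    (L : K → α) (Linf : α) (S : Set α)
    (hS : ∀ U ∈ S, (∃ t : K, Polynomial.eval t P = 0 ∧ U = L t) ∨ (P.coeff n = 0 ∧ U = Linf)) :
    S.encard ≤ n := by
  classical
  have hroots : (P.roots.toFinset.card : ℕ) ≤ P.natDegree :=
    le_trans (Multiset.toFinset_card_le _) (Polynomial.card_roots' P)
  by_cases hc : P.coeff n = 0
  · have hlt : P.natDegree < n := by
      rcases Nat.lt_or_ge P.natDegree n with h' | h'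
      · exact h'
      · exfalso
        have heq : P.natDegree = n := le_antisymm hdeg h'
        apply hP
        rw [← Polynomial.leadingCoeff_eq_zero, Polynomial.leadingCoeff, heq]
        exact hc
    have hsub : S ⊆ L '' (P.roots.toFinset : Set K) ∪ {Linf} := by
      intro U hU
      rcases hS U hU with ⟨t, ht, rfl⟩ | ⟨-, rfl⟩
      · left
        refine ⟨t, ?_, rfl⟩
        rw [Finset.mem_coe, Multiset.mem_toFinset, Polynomial.mem_roots hP]
        exact ht
      · right
        rfl
    calc S.encard ≤ (L '' (P.roots.toFinset : Set K) ∪ {Linf}).encard := Set.encard_mono hsub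
      _ ≤ (L '' (P.roots.toFinset : Set K)).encard + ({Linf} : Set α).encard := Set.encard_union_le _ _
      _ ≤ ((P.roots.toFinset : Set K)).encard + 1 := by
          rw [Set.encard_singleton]
          exact add_le_add (Set.encard_image_le _ _) le_rfl
      _ = (P.roots.toFinset.card : ℕ∞) + 1 := by rw [Set.encard_coe_eq_coe_finsetCard]
      _ ≤ n := by
          have : P.roots.toFinset.card + 1 ≤ n := by omega
          exact_mod_cast this
  · have hsub : S ⊆ L '' (P.roots.toFinset : Set K) := by
      intro U hU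
      rcases hS U hU with ⟨t, ht, rfl⟩ | ⟨h0, -⟩
      · refine ⟨t, ?_, rfl⟩
        rw [Finset.mem_coe, Multiset.mem_toFinset, Polynomial.mem_roots hP]
        exact ht
      · exact absurd h0 hc
    calc S.encard ≤ (L '' (P.roots.toFinset : Set K)).encard := Set.encard_mono hsub
      _ ≤ ((P.roots.toFinset : Set K)).encard := Set.encard_image_le _ _
      _ = (P.roots.toFinset.card : ℕ∞) := by rw [Set.encard_coe_eq_coe_finsetCard]
      _ ≤ n := by
          have : P.roots.toFinset.card ≤ n := by omega
          exact_mod_cast this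

theorem span_pair_smul (a v : Fin 4 → K) (z : K) (hz : z ≠ 0) :
    Submodule.span K ({a, z • v} : Set (Fin 4 → K)) = Submodule.span K ({a, v} : Set (Fin 4 → K)) := by
  apply le_antisymm
  · rw [Submodule.span_le]
    intro u hu
    rcases hu with rfl | rfl
    · exact Submodule.subset_span (Set.mem_insert _ _)
    · exact Submodule.smul_mem _ _ (Submodule.subset_span (Set.mem_insert_of_mem _ rfl))
  · rw [Submodule.span_le]
    intro u hu
    rcases hu with rfl | rfl
    · exact Submodule.subset_span (Set.mem_insert _ _)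
    · have h1 : z • u ∈ Submodule.span K ({a, z • u} : Set (Fin 4 → K)) :=
        Submodule.subset_span (Set.mem_insert_of_mem _ rfl)
      have h2 := Submodule.smul_mem _ z⁻¹ h1
      rwa [smul_smul, inv_mul_cancel₀ hz, one_smul] at h2

variable {f : MvPolynomial (Fin 4) K} {p : Fin 4 → K}

theorem line_through_sing (h : Ctx0 f p) (U : Submodule K (Fin 4 → K)) (hpU : p ∈ U)
    (hU2 : Module.finrank K ↥U = 2) (hUf : ∀ u ∈ U, eval u f = 0) (E1 E2 E3 : Fin 4 → K)
    (hind : Ind4 E1 E2 E3 p) :
    ∃ x y z : K, (x ≠ 0 ∨ y ≠ 0 ∨ z ≠ 0) ∧ eval (x • E1 + y • E2 + z • E3) f = 0 ∧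
      Qp f p (x • E1 + y • E2 + z • E3) = 0 ∧
      U = Submodule.span K ({p, x • E1 + y • E2 + z • E3} : Set (Fin 4 → K)) := by
  obtain ⟨v, hvU, hvp⟩ := exists_not_mem_span U hU2 p
  obtain ⟨x, y, z, w, rfl⟩ := span_of_ind4 E1 E2 E3 p hind v
  have hv'U : x • E1 + y • E2 + z • E3 ∈ U := by
    have : x • E1 + y • E2 + z • E3 = (x • E1 + y • E2 + z • E3 + w • p) - w • p := by abel
    rw [this]
    exact U.sub_mem hvU (U.smul_mem w hpU)
  have hall : ∀ s : K, eval (x • E1 + y • E2 + z • E3) f + s * Qp f p (x • E1 + y • E2 + z • E3) = 0 := by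
    intro s
    rw [← h.f_shift]
    exact hUf _ (U.add_mem hv'U (U.smul_mem s hpU))
  have hf0 : eval (x • E1 + y • E2 + z • E3) f = 0 := by simpa using hall 0
  have hq0 : Qp f p (x • E1 + y • E2 + z • E3) = 0 := by
    have := hall 1
    rw [hf0] at this
    simpa using this
  have hv'p : x • E1 + y • E2 + z • E3 ∉ Submodule.span K {p} := by
    intro hmem
    apply hvp
    exact Submodule.add_mem _ hmem (Submodule.smul_mem _ _ (Submodule.mem_span_singleton_self p))
  refine ⟨x, y, z, ?_, hf0, hq0, ?_⟩
  · by_contra hcon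
    push Not at hcon
    obtain ⟨rfl, rfl, rfl⟩ := hcon
    apply hv'p
    simp
  · symm
    apply Submodule.eq_of_le_of_finrank_eq
    · rw [Submodule.span_le]
      intro u hu
      rcases hu with rfl | rfl
      · exact hpU
      · exact hv'U
    · rw [finrank_span_pair p _ h.pne hv'p, hU2]


theorem grad_sum (hf : f.IsHomogeneous 3) (A v : Fin 4 → K) :
    eval v (∑ i, A i • pderiv i f) = Qp f A v := by
  rw [map_sum]
  simp only [smul_eval]
  rw [grad_eq_PhiF hf, Qp]

theorem plane_contra (hf : f.IsHomogeneous 3) (hirr : Irreducible f) (X : (Fin 4 → K) →ₗ[K] K)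
    (A : Fin 4 → K) (hXA : X A = 1) (hplane : ∀ v : Fin 4 → K, X v = 0 → eval v f = 0) : False := by
  apply not_irred_of_factor f hirr (Groth.Agent.S16352.linPoly X)
    ((∑ i, A i • pderiv i f) - Groth.Agent.S16352.linPoly X * Groth.Agent.S16352.linPoly (Lp f A)
      + C (eval A f) * Groth.Agent.S16352.linPoly X ^ 2)
  · rw [Groth.Agent.S16352.eval_linPoly, map_zero]
  · simp only [map_add, map_sub, map_mul, map_pow, eval_C, Groth.Agent.S16352.eval_linPoly, grad_sum hf,
      map_zero, Qp]
    ring
  · intro v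
    have h0 : eval (v + (-(X v)) • A) f = 0 := hplane _ (by simp [hXA])
    rw [taylor hf] at h0
    simp only [map_add, map_sub, map_mul, map_pow, eval_C, Groth.Agent.S16352.eval_linPoly, grad_sum hf]
    linear_combination h0

noncomputable def bcubic (f : MvPolynomial (Fin 4) K) (B C : Fin 4 → K) : Polynomial K :=
  Polynomial.C (eval C f) + Polynomial.C (Qp f B C) * Polynomial.X
    + Polynomial.C (Lp f B C) * Polynomial.X ^ 2 + Polynomial.C (eval B f) * Polynomial.X ^ 3

theorem eval_bcubic (hf : f.IsHomogeneous 3) (B C : Fin 4 → K) (t : K) :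
    Polynomial.eval t (bcubic f B C) = eval (C + t • B) f := by
  rw [taylor hf]
  unfold bcubic
  simp only [Polynomial.eval_add, Polynomial.eval_mul, Polynomial.eval_pow, Polynomial.eval_C,
    Polynomial.eval_X]
  ring

theorem coeff_bcubic (f : MvPolynomial (Fin 4) K) (B C : Fin 4 → K) :
    (bcubic f B C).coeff 3 = eval B f := by
  unfold bcubic
  simp

theorem natDegree_bcubic_le (f : MvPolynomial (Fin 4) K) (B C : Fin 4 → K) :
    (bcubic f B C).natDegree ≤ 3 := by
  unfold bcubic
  compute_degree

theorem encard_binary (h : Ctx0 f p) (B C : Fin 4 → K)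
    (hne : ∃ y z : K, eval (y • B + z • C) f ≠ 0)
    (S : Set (Submodule K (Fin 4 → K)))
    (hS : ∀ U ∈ S, ∃ y z : K, (y ≠ 0 ∨ z ≠ 0) ∧ eval (y • B + z • C) f = 0 ∧
      U = Submodule.span K ({p, y • B + z • C} : Set (Fin 4 → K))) :
    S.encard ≤ 3 := by
  have hscale : ∀ y z : K, z ≠ 0 → y • B + z • C = z • (C + (y / z) • B) := by
    intro y z hz
    rw [smul_add, smul_smul, mul_div_cancel₀ _ hz, add_comm]
  have hP : bcubic f B C ≠ 0 := by
    intro h0
    obtain ⟨y, z, hyz⟩ := hne
    apply hyz
    by_cases hz : z = 0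
    · rw [hz, zero_smul, add_zero, Groth.Agent.S10897.eval_smul' h.hom, ← coeff_bcubic f B C, h0]
      simp
    · rw [hscale y z hz, Groth.Agent.S10897.eval_smul' h.hom, ← eval_bcubic h.hom, h0]
      simp
  have key := encard_le_of_poly 3 (bcubic f B C) hP (natDegree_bcubic_le f B C)
    (fun t => Submodule.span K ({p, C + t • B} : Set (Fin 4 → K)))
    (Submodule.span K ({p, B} : Set (Fin 4 → K))) S (by
      intro U hU
      obtain ⟨y, z, hyz, hf0, rfl⟩ := hS U hU
      by_cases hz : z = 0
      · right
        subst hz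
        have hy : y ≠ 0 := by
          rcases hyz with h' | h'
          · exact h'
          · exact absurd rfl h'
        rw [zero_smul, add_zero] at hf0 ⊢
        refine ⟨?_, span_pair_smul p B y hy⟩
        rw [coeff_bcubic]
        rw [Groth.Agent.S10897.eval_smul' h.hom] at hf0
        exact (mul_eq_zero.mp hf0).resolve_left (pow_ne_zero 3 hy)
      · left
        refine ⟨y / z, ?_, ?_⟩
        · rw [eval_bcubic h.hom]
          rw [hscale y z hz, Groth.Agent.S10897.eval_smul' h.hom] at hf0
          exact (mul_eq_zero.mp hf0).resolve_left (pow_ne_zero 3 hz)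
        · rw [hscale y z hz]
          exact span_pair_smul p _ z hz)
  exact_mod_cast key

end Groth.Agent.Lib.Helper18.Sing
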