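import Groth.Agent.Lib.Helper18.Sing2

set_option autoImplicit false
set_option linter.unusedSectionVars false
set_option linter.unusedVariables false
universe u

namespace Groth.Agent.Lib.Helper18.Sing

open MvPolynomial Groth.Agent.Lib.Helper18.CubicK Groth.Agent.Lib.Helper18.Nodal

variable {K : Type u} [Field K] [IsAlgClosed K] [CharZero K]
variable {f : MvPolynomial (Fin 4) K} {p : Fin 4 → K}

theorem frame_q_eval0 {a b c : Fin 4 → K} {β : K} (F : Frame f p a b c β) (h : Ctx0 f p)
    (x y z w : K) :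
    Qp f p (x • a + y • b + z • c + w • p) = β * (x * z - y ^ 2) := by
  have hba : PhiF f p b a = 0 := by rw [PhiF_swap23, F.ab]
  have hca : PhiF f p c a = β := by rw [PhiF_swap23, F.ac]
  have hcb : PhiF f p c b = 0 := by rw [PhiF_swap23, F.bc]
  have haa : PhiF f p a a = 0 := by rw [B_self, F.qa, mul_zero]
  have hbb : PhiF f p b b = -2 * β := by rw [B_self, F.qb]; ring
  have hcc : PhiF f p c c = 0 := by rw [B_self, F.qc, mul_zero]
  have h1 := B_self f p (x • a + y • b + z • c + w • p)
  simp only [map_add, map_smul, LinearMap.add_apply, LinearMap.smul_apply, smul_eq_mul, h.B_p, h.pp,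
    F.ab, F.ac, F.bc, hba, hca, hcb, haa, hbb, hcc] at h1
  linear_combination (-1 / 2 : K) * h1

theorem sextic_coeffs {a b c : Fin 4 → K} (hzero : sextic f a b c = 0) :
    eval a f = 0 ∧ Lp f a b = 0 ∧ Lp f a c + Lp f b a = 0 ∧ PhiF f a b c + eval b f = 0 ∧
      Lp f c a + Lp f b c = 0 ∧ Lp f c b = 0 ∧ eval c f = 0 := by
  have k0 := congrArg (fun P : Polynomial K => P.coeff 0) hzero
  have k1 := congrArg (fun P : Polynomial K => P.coeff 1) hzero
  have k2 := congrArg (fun P : Polynomial K => P.coeff 2) hzero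
  have k3 := congrArg (fun P : Polynomial K => P.coeff 3) hzero
  have k4 := congrArg (fun P : Polynomial K => P.coeff 4) hzero
  have k5 := congrArg (fun P : Polynomial K => P.coeff 5) hzero
  have k6 := congrArg (fun P : Polynomial K => P.coeff 6) hzero
  unfold sextic at k0 k1 k2 k3 k4 k5 k6
  simp only [Polynomial.coeff_add, Polynomial.coeff_C_mul, Polynomial.coeff_X_pow, Polynomial.coeff_C,
    Polynomial.coeff_X, Polynomial.coeff_zero] at k0 k1 k2 k3 k4 k5 k6
  norm_num at k0 k1 k2 k3 k4 k5 k6
  exact ⟨k0, k1, k2, k3, k4, k5, k6⟩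

theorem coeff_six_sextic (f : MvPolynomial (Fin 4) K) (a b c : Fin 4 → K) :
    (sextic f a b c).coeff 6 = eval c f := by
  unfold sextic
  simp only [Polynomial.coeff_add, Polynomial.coeff_C_mul, Polynomial.coeff_X_pow, Polynomial.coeff_C,
    Polynomial.coeff_X]
  norm_num

theorem natDegree_sextic_le (f : MvPolynomial (Fin 4) K) (a b c : Fin 4 → K) :
    (sextic f a b c).natDegree ≤ 6 := by
  unfold sextic
  compute_degree

theorem rank3_factor {a b c : Fin 4 → K} {β : K} (F : Frame f p a b c β) (h : Ctx0 f p)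
    (hzero : sextic f a b c = 0) (x y z w : K) :
    eval (x • a + y • b + z • c + w • p) f
      = (x * z - y ^ 2) * (Lp f a c * x + PhiF f a b c * y + Lp f c a * z + β * w) := by
  obtain ⟨c0, c1, c2, c3, c4, c5, c6⟩ := sextic_coeffs hzero
  have hq : Qp f p (x • a + y • b + z • c) = β * (x * z - y ^ 2) := by
    have := frame_q_eval0 F h x y z 0
    simpa using this
  rw [h.f_shift, hq, cubic_expand h.hom, c0, c1, c5, c6]
  linear_combination (x * y ^ 2) * c2 + y ^ 3 * c3 + (y ^ 2 * z) * c4

theorem rank3_contra {a b c : Fin 4 → K} {β : K} (F : Frame f p a b c β) (h : Ctx0 f p)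
    (hirr : Irreducible f) (hzero : sextic f a b c = 0) : False := by
  obtain ⟨X, Y, Z, W, hcoord⟩ := exists_coord_funs a b c p F.ind
  apply not_irred_of_factor f hirr
    (Groth.Agent.S16352.linPoly X * Groth.Agent.S16352.linPoly Z - Groth.Agent.S16352.linPoly Y ^ 2)
    (C (Lp f a c) * Groth.Agent.S16352.linPoly X + C (PhiF f a b c) * Groth.Agent.S16352.linPoly Y
      + C (Lp f c a) * Groth.Agent.S16352.linPoly Z + C β * Groth.Agent.S16352.linPoly W)
  · simp only [map_add, map_sub, map_mul, map_pow, eval_C, Groth.Agent.S16352.eval_linPoly, map_zero]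
    ring
  · simp only [map_add, map_sub, map_mul, map_pow, eval_C, Groth.Agent.S16352.eval_linPoly, map_zero]
    ring
  · intro v
    have := rank3_factor F h hzero (X v) (Y v) (Z v) (W v)
    rw [← hcoord v] at this
    rw [this]
    simp only [map_add, map_sub, map_mul, map_pow, eval_C, Groth.Agent.S16352.eval_linPoly]

theorem encard_rank3 {a b c : Fin 4 → K} {β : K} (F : Frame f p a b c β) (h : Ctx0 f p)
    (hirr : Irreducible f) (S : Set (Submodule K (Fin 4 → K)))
    (hS : ∀ U ∈ S, p ∈ U ∧ Module.finrank K ↥U = 2 ∧ ∀ u ∈ U, eval u f = 0) :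
    S.encard ≤ 6 := by
  have hP : sextic f a b c ≠ 0 := fun h0 => rank3_contra F h hirr h0
  have key := encard_le_of_poly 6 (sextic f a b c) hP (natDegree_sextic_le f a b c)
    (fun t => Submodule.span K ({p, a + t • b + t ^ 2 • c} : Set (Fin 4 → K)))
    (Submodule.span K ({p, c} : Set (Fin 4 → K))) S (by
      intro U hU
      obtain ⟨hpU, hU2, hUf⟩ := hS U hU
      obtain ⟨x, y, z, hxyz, hf0, hq0, rfl⟩ := line_through_sing h U hpU hU2 hUf a b c F.ind
      have hq : Qp f p (x • a + y • b + z • c) = β * (x * z - y ^ 2) := by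
        have := frame_q_eval0 F h x y z 0
        simpa using this
      rw [hq] at hq0
      have hxz : x * z = y ^ 2 := by
        rcases mul_eq_zero.mp hq0 with h' | h'
        · exact absurd h' F.βne
        · linear_combination h'
      by_cases hx : x = 0
      · right
        subst hx
        have hy : y = 0 := by
          rw [zero_mul] at hxz
          exact pow_eq_zero_iff (two_ne_zero) |>.mp hxz.symm
        subst hy
        have hz : z ≠ 0 := by
          rcases hxyz with h' | h' | h'
          · exact absurd rfl h'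
          · exact absurd rfl h'
          · exact h'
        rw [zero_smul, zero_smul, zero_add, zero_add] at hf0 ⊢
        refine ⟨?_, span_pair_smul p c z hz⟩
        rw [coeff_six_sextic]
        rw [Groth.Agent.S10897.eval_smul' h.hom] at hf0
        exact (mul_eq_zero.mp hf0).resolve_left (pow_ne_zero 3 hz)
      · left
        have hscale : x • a + y • b + z • c = x • (a + (y / x) • b + (y / x) ^ 2 • c) := by
          have hz : z = x * (y / x) ^ 2 := by
            field_simp
            linear_combination hxz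
          rw [smul_add, smul_add, smul_smul, smul_smul, mul_div_cancel₀ _ hx, ← hz]
        refine ⟨y / x, ?_, ?_⟩
        · rw [eval_sextic h.hom]
          rw [hscale, Groth.Agent.S10897.eval_smul' h.hom] at hf0
          exact (mul_eq_zero.mp hf0).resolve_left (pow_ne_zero 3 hx)
        · rw [hscale]
          exact span_pair_smul p _ x hx)
  exact_mod_cast key

theorem coord_self (E1 E2 E3 a : Fin 4 → K) (hind : Ind4 E1 E2 E3 a)
    (X Y Z W : (Fin 4 → K) →ₗ[K] K)
    (hcoord : ∀ v : Fin 4 → K, v = X v • E1 + Y v • E2 + Z v • E3 + W v • a) :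
    X E1 = 1 ∧ Y E2 = 1 ∧ Z E3 = 1 := by
  have h1 := hcoord E1
  have h2 := hcoord E2
  have h3 := hcoord E3
  have k1 := hind (X E1 - 1) (Y E1) (Z E1) (W E1) (by
    have e : (X E1 - 1) • E1 + Y E1 • E2 + Z E1 • E3 + W E1 • a
        = (X E1 • E1 + Y E1 • E2 + Z E1 • E3 + W E1 • a) - E1 := by
      rw [sub_smul, one_smul]
      abel
    rw [e, ← h1, sub_self])
  have k2 := hind (X E2) (Y E2 - 1) (Z E2) (W E2) (by
    have e : X E2 • E1 + (Y E2 - 1) • E2 + Z E2 • E3 + W E2 • a
        = (X E2 • E1 + Y E2 • E2 + Z E2 • E3 + W E2 • a) - E2 := by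
      rw [sub_smul, one_smul]
      abel
    rw [e, ← h2, sub_self])
  have k3 := hind (X E3) (Y E3) (Z E3 - 1) (W E3) (by
    have e : X E3 • E1 + Y E3 • E2 + (Z E3 - 1) • E3 + W E3 • a
        = (X E3 • E1 + Y E3 • E2 + Z E3 • E3 + W E3 • a) - E3 := by
      rw [sub_smul, one_smul]
      abel
    rw [e, ← h3, sub_self])
  exact ⟨sub_eq_zero.mp k1.1, sub_eq_zero.mp k2.2.1, sub_eq_zero.mp k3.2.2.1⟩

theorem family_le_three (h : Ctx0 f p) (hirr : Irreducible f) (E1 E2 E3 : Fin 4 → K)
    (hind : Ind4 E1 E2 E3 p) (hq : ∀ y z : K, Qp f p (y • E2 + z • E3) = 0)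
    (S : Set (Submodule K (Fin 4 → K)))
    (hS : ∀ U ∈ S, ∃ y z : K, (y ≠ 0 ∨ z ≠ 0) ∧ eval (y • E2 + z • E3) f = 0 ∧
      U = Submodule.span K ({p, y • E2 + z • E3} : Set (Fin 4 → K))) :
    S.encard ≤ 3 := by
  apply encard_binary h E2 E3 ?_ S hS
  by_contra hcon
  push Not at hcon
  obtain ⟨X, Y, Z, W, hcoord⟩ := exists_coord_funs E1 E2 E3 p hind
  obtain ⟨hX1, -, -⟩ := coord_self E1 E2 E3 p hind X Y Z W hcoord
  apply plane_contra h.hom hirr X E1 hX1
  intro v hv
  have e := hcoord v
  rw [hv, zero_smul, zero_add] at e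
  rw [e, h.f_shift, hcon, hq]
  ring

end Groth.Agent.Lib.Helper18.Sing
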