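import Mathlib
import Groth.Agent.Lib.Helper18.FpqcOver

set_option autoImplicit false
set_option linter.unusedSectionVars false
universe u

open CategoryTheory CategoryTheory.Limits MonoidalCategory CartesianMonoidalCategory MonObj
  AlgebraicGeometry Opposite TensorProduct

noncomputable section

namespace Groth.Agent.Lib.Helper18.ThetaRing

variable {k : Type u} [CommRing k]

@[reducible] def algΓ (Y : Over (Spec (CommRingCat.of k))) : Algebra k Γ(Y.left, ⊤) :=
  ((Scheme.ΓSpecIso (CommRingCat.of k)).inv ≫ Y.hom.appTop).hom.toAlgebra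

attribute [local instance] algΓ

theorem algebraMap_apply (Y : Over (Spec (CommRingCat.of k))) (c : k) :
    algebraMap k Γ(Y.left, ⊤) c = Y.hom.appTop ((Scheme.ΓSpecIso (CommRingCat.of k)).inv c) := rfl

def appTopAlg {Y Y' : Over (Spec (CommRingCat.of k))} (y : Y ⟶ Y') :
    Γ(Y'.left, ⊤) →ₐ[k] Γ(Y.left, ⊤) :=
  { y.left.appTop.hom with
    commutes' := fun c => by
      change y.left.appTop (Y'.hom.appTop _) = Y.hom.appTop _
      rw [← CommRingCat.comp_apply, ← Scheme.Hom.comp_appTop, Over.w] }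

@[simp] theorem appTopAlg_apply {Y Y' : Over (Spec (CommRingCat.of k))} (y : Y ⟶ Y')
    (a : Γ(Y'.left, ⊤)) : appTopAlg y a = y.left.appTop a := rfl

theorem appTopAlg_comp {Y Y' Y'' : Over (Spec (CommRingCat.of k))} (y : Y ⟶ Y') (y' : Y' ⟶ Y'') :
    appTopAlg (y ≫ y') = (appTopAlg y).comp (appTopAlg y') := by
  ext a
  simp

def Θ (Y T : Over (Spec (CommRingCat.of k))) :
    Γ(Y.left, ⊤) ⊗[k] Γ(T.left, ⊤) →ₐ[k] Γ((Y ⊗ T).left, ⊤) :=
  Algebra.TensorProduct.productMap (appTopAlg (fst Y T)) (appTopAlg (snd Y T))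

theorem Θ_tmul (Y T : Over (Spec (CommRingCat.of k))) (a : Γ(Y.left, ⊤)) (r : Γ(T.left, ⊤)) :
    Θ Y T (a ⊗ₜ r) = (fst Y T).left.appTop a * (snd Y T).left.appTop r := by
  simp only [Θ, Algebra.TensorProduct.productMap_apply_tmul]
  rfl

theorem Θ_whiskerLeft (Y : Over (Spec (CommRingCat.of k))) {T T' : Over (Spec (CommRingCat.of k))}
    (t : T ⟶ T') :
    (appTopAlg (Y ◁ t)).comp (Θ Y T') =
      (Θ Y T).comp (Algebra.TensorProduct.map (AlgHom.id k _) (appTopAlg t)) := by
  apply Algebra.TensorProduct.ext'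
  intro a r
  simp only [AlgHom.comp_apply, Θ_tmul, Algebra.TensorProduct.map_tmul, AlgHom.id_apply,
    appTopAlg_apply, map_mul]
  rw [← CommRingCat.comp_apply, ← CommRingCat.comp_apply, ← Scheme.Hom.comp_appTop,
    ← Scheme.Hom.comp_appTop, ← Over.comp_left, ← Over.comp_left, whiskerLeft_fst,
    whiskerLeft_snd, Over.comp_left, Scheme.Hom.comp_appTop, CommRingCat.comp_apply]

theorem Θ_whiskerRight {Y Y' : Over (Spec (CommRingCat.of k))} (y : Y ⟶ Y')
    (T : Over (Spec (CommRingCat.of k))) :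
    (appTopAlg (y ▷ T)).comp (Θ Y' T) =
      (Θ Y T).comp (Algebra.TensorProduct.map (appTopAlg y) (AlgHom.id k _)) := by
  apply Algebra.TensorProduct.ext'
  intro a r
  simp only [AlgHom.comp_apply, Θ_tmul, Algebra.TensorProduct.map_tmul, AlgHom.id_apply,
    appTopAlg_apply, map_mul]
  rw [← CommRingCat.comp_apply, ← CommRingCat.comp_apply, ← Scheme.Hom.comp_appTop,
    ← Scheme.Hom.comp_appTop, ← Over.comp_left, ← Over.comp_left, whiskerRight_fst,
    whiskerRight_snd, Over.comp_left, Scheme.Hom.comp_appTop, CommRingCat.comp_apply]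

theorem Θ_bijective (Y T : Over (Spec (CommRingCat.of k))) [IsAffine Y.left] [IsAffine T.left] :
    Function.Bijective (Θ Y T) := by
  have hpb : IsPullback (fst Y T).left (snd Y T).left Y.hom T.hom :=
    IsPullback.of_hasPullback Y.hom T.hom
  have hP := isPushout_appTop_of_isPullback hpb
  have hP' : IsPushout (CommRingCat.ofHom (algebraMap k Γ(Y.left, ⊤)))
      (CommRingCat.ofHom (algebraMap k Γ(T.left, ⊤))) (fst Y T).left.appTop
      (snd Y T).left.appTop := by
    refine IsPushout.of_iso hP (Scheme.ΓSpecIso (CommRingCat.of k)) (Iso.refl _) (Iso.refl _)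
      (Iso.refl _) ?_ ?_ (by simp) (by simp)
    · ext c
      simp [algebraMap_apply]
    · ext c
      simp [algebraMap_apply]
  have hT := CommRingCat.isPushout_tensorProduct k Γ(Y.left, ⊤) Γ(T.left, ⊤)
  let e := hT.isoIsPushout _ _ hP'
  have he : e.hom.hom = (Θ Y T).toRingHom := by
    apply Algebra.TensorProduct.ringHom_ext
    · have h1 := hT.inl_isoIsPushout_hom _ _ hP'
      ext a
      have h2 : e.hom.hom (a ⊗ₜ 1) = (fst Y T).left.appTop a := congrArg (fun φ => φ.hom a) h1
      change e.hom.hom (a ⊗ₜ 1) = Θ Y T (a ⊗ₜ 1)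
      rw [h2, Θ_tmul, _root_.map_one, _root_.mul_one]
    · have h1 := hT.inr_isoIsPushout_hom _ _ hP'
      ext a
      have h2 : e.hom.hom (1 ⊗ₜ a) = (snd Y T).left.appTop a := congrArg (fun φ => φ.hom a) h1
      change e.hom.hom (1 ⊗ₜ a) = Θ Y T (1 ⊗ₜ a)
      rw [h2, Θ_tmul, _root_.map_one, _root_.one_mul]
  have hb := ConcreteCategory.bijective_of_isIso e.hom
  have : (⇑(Θ Y T) : _ → _) = ⇑(ConcreteCategory.hom e.hom) := by
    ext z
    have := congrArg (fun φ => φ z) he
    exact this.symm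
  rw [this]
  exact hb


end Groth.Agent.Lib.Helper18.ThetaRing
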