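import Mathlib
import Groth.Prelude.Def_GmAct
import Groth.Agent.Lib.Helper18.ThetaRing
import Groth.Agent.Lib.Helper18.SchDom
import Groth.Agent.Lib.Helper18.LineAlg

set_option autoImplicit false
set_option linter.unusedSectionVars false
universe u

open CategoryTheory CategoryTheory.Limits MonoidalCategory CartesianMonoidalCategory
  AlgebraicGeometry Opposite TensorProduct
open scoped Polynomial

noncomputable section

namespace Groth.Agent.Lib.Helper18.SpAlg

open Groth.Agent.Lib.Helper18.ThetaRing Groth.Agent.Lib.Helper18.SchDom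

attribute [local instance] Groth.Agent.Lib.Helper18.ThetaRing.algΓ

variable {R : Type u} [CommRing R]

/-- global sections of `Spec B` over `Spec R`, as an `R`-algebra. -/
def eΓ (B : Type u) [CommRing B] [Algebra R B] : Γ((CoactBr.sp R B).left, ⊤) ≃ₐ[R] B :=
  { (Scheme.ΓSpecIso (CommRingCat.of B)).commRingCatIsoToRingEquiv with
    commutes' := fun c => by
      change (Scheme.ΓSpecIso (CommRingCat.of B)).hom
        ((Spec.map (CommRingCat.ofHom (algebraMap R B))).appTop
          ((Scheme.ΓSpecIso (CommRingCat.of R)).inv c)) = algebraMap R B c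
      rw [← CommRingCat.comp_apply, Scheme.ΓSpecIso_naturality, CommRingCat.comp_apply,
        ← CommRingCat.comp_apply (Scheme.ΓSpecIso (CommRingCat.of R)).inv, Iso.inv_hom_id]
      rfl }

theorem eΓ_apply (B : Type u) [CommRing B] [Algebra R B] (a : Γ((CoactBr.sp R B).left, ⊤)) :
    eΓ B a = (Scheme.ΓSpecIso (CommRingCat.of B)).hom a := rfl

theorem ΓSpecIso_map_apply {B K : Type u} [CommRing B] [CommRing K] (φ : B →+* K)
    (a : Γ(Spec (CommRingCat.of B), ⊤)) :
    (Scheme.ΓSpecIso (CommRingCat.of K)).hom ((Spec.map (CommRingCat.ofHom φ)).appTop a) =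
      φ ((Scheme.ΓSpecIso (CommRingCat.of B)).hom a) := by
  rw [← CommRingCat.comp_apply, Scheme.ΓSpecIso_naturality]
  rfl

theorem eΓ_pt {B K : Type u} [CommRing B] [CommRing K] [Algebra R B] [Algebra R K]
    (φ : B →ₐ[R] K) (a : Γ((CoactBr.sp R B).left, ⊤)) :
    eΓ K ((CoactBr.pt φ).left.appTop a) = φ (eΓ B a) := by
  exact ΓSpecIso_map_apply φ.toRingHom a

/-- A point `pt φ` with `φ` admitting a linear retraction stays injective on global sections
after any base change `▷ T` with `T` affine. -/
theorem whiskerRight_pt_injective {B K : Type u} [CommRing B] [CommRing K] [Algebra R B]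
    [Algebra R K] (φ : B →ₐ[R] K) (r : K →ₗ[R] B) (hr : r ∘ₗ φ.toLinearMap = LinearMap.id)
    (T : Over (Spec (CommRingCat.of R))) [IsAffine T.left] :
    Function.Injective ((CoactBr.pt φ ▷ T).left.appTop) := by
  have hB : IsAffine (CoactBr.sp R B).left := inferInstanceAs (IsAffine (Spec _))
  have hK : IsAffine (CoactBr.sp R K).left := inferInstanceAs (IsAffine (Spec _))
  let r' : Γ((CoactBr.sp R K).left, ⊤) →ₗ[R] Γ((CoactBr.sp R B).left, ⊤) :=
    (eΓ B).symm.toLinearMap ∘ₗ r ∘ₗ (eΓ K).toLinearMap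
  have hr' : ∀ a, r' (appTopAlg (CoactBr.pt φ) a) = a := by
    intro a
    change (eΓ B).symm (r (eΓ K ((CoactBr.pt φ).left.appTop a))) = a
    rw [eΓ_pt]
    have := congrArg (fun l => l (eΓ B a)) hr
    simp only [LinearMap.coe_comp, Function.comp_apply, AlgHom.toLinearMap_apply,
      LinearMap.id_coe, id_eq] at this
    rw [this, AlgEquiv.symm_apply_apply]
  have hw := Θ_whiskerRight (CoactBr.pt φ) T
  intro z z' hzz
  obtain ⟨w, rfl⟩ := (Θ_bijective (CoactBr.sp R B) T).2 z
  obtain ⟨w', rfl⟩ := (Θ_bijective (CoactBr.sp R B) T).2 z'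
  have h1 : ∀ w, (CoactBr.pt φ ▷ T).left.appTop (Θ (CoactBr.sp R B) T w) =
      Θ (CoactBr.sp R K) T
        (Algebra.TensorProduct.map (appTopAlg (CoactBr.pt φ)) (AlgHom.id R _) w) := by
    intro w
    exact congrArg (fun l => l w) hw
  rw [h1, h1] at hzz
  have h2 := (Θ_bijective (CoactBr.sp R K) T).1 hzz
  have h3 := congrArg (TensorProduct.map r' LinearMap.id) h2
  have h4 : ∀ w, TensorProduct.map r' LinearMap.id
      (Algebra.TensorProduct.map (appTopAlg (CoactBr.pt φ)) (AlgHom.id R Γ(T.left, ⊤)) w) = w := by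
    intro w
    induction w using TensorProduct.induction_on with
    | zero => simp
    | tmul a b =>
      rw [Algebra.TensorProduct.map_tmul, TensorProduct.map_tmul, hr']
      rfl
    | add x y hx hy => rw [map_add, map_add, hx, hy]
  rw [h4, h4] at h3
  rw [h3]

end Groth.Agent.Lib.Helper18.SpAlg
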