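import Mathlib

set_option autoImplicit false
universe u

namespace Groth.Agent.Lib.Helper18.SpreadFPD

open MvPolynomial

attribute [local instance] MvPolynomial.algebraMvPolynomial

/-- a finitely generated ideal of a localization is the extension of a finitely generated ideal. -/
theorem exists_fg_map_eq {P : Type u} [CommRing P] (M' : Submonoid P) (Pp : Type u) [CommRing Pp]
    [Algebra P Pp] [IsLocalization M' Pp] (K : Ideal Pp) (hK : K.FG) :
    ∃ J : Ideal P, J.FG ∧ J.map (algebraMap P Pp) = K := by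
  classical
  obtain ⟨g, rfl⟩ := hK
  obtain ⟨b, hb⟩ := IsLocalization.exist_integer_multiples_of_finset M' g
  choose! G hG using hb
  refine ⟨Ideal.span (g.image G), ⟨g.image G, rfl⟩, ?_⟩
  rw [Ideal.map_span]
  have hu : IsUnit (algebraMap P Pp b) := IsLocalization.map_units Pp b
  apply le_antisymm
  · rw [Ideal.span_le]
    rintro _ ⟨x, hx, rfl⟩
    simp only [Finset.coe_image, Set.mem_image, Finset.mem_coe] at hx
    obtain ⟨a, ha, rfl⟩ := hx
    rw [hG a ha, Algebra.smul_def]
    exact Ideal.mul_mem_left _ _ (Ideal.subset_span ha)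
  · rw [Ideal.span_le]
    intro a ha
    have h1 : algebraMap P Pp b * a ∈
        Ideal.span (algebraMap P Pp '' ((g.image G : Finset P) : Set P)) := by
      rw [← Algebra.smul_def, ← hG a ha]
      refine Ideal.subset_span ⟨G a, ?_, rfl⟩
      simp only [Finset.coe_image, Set.mem_image, Finset.mem_coe]
      exact ⟨a, ha, rfl⟩
    exact (Ideal.unit_mul_mem_iff_mem _ hu).mp h1

theorem exists_fp_model {R : Type u} [CommRing R] (M : Submonoid R) (Rp : Type u) [CommRing Rp] [Algebra R Rp] [IsLocalization M Rp] (R'' : Type u) [CommRing R''] [Algebra Rp R''] [Algebra R R''] [IsScalarTower R Rp R''] [Algebra.FinitePresentation Rp R''] : ∃ (C : Type u) (_ : CommRing C) (_ : Algebra R C) (_ : Algebra.FinitePresentation R C) (_ : Algebra C R'') (_ : IsScalarTower R C R''), IsLocalization (Algebra.algebraMapSubmonoid C M) R'' := by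
  classical
  obtain ⟨n, f, hf, hker⟩ := Algebra.FinitePresentation.out (R := Rp) (A := R'')
  let P := MvPolynomial (Fin n) R
  let Pp := MvPolynomial (Fin n) Rp
  let M' : Submonoid P := M.map (C (σ := Fin n))
  haveI : IsLocalization M' Pp := MvPolynomial.isLocalization M Rp
  obtain ⟨J, hJfg, hJ⟩ := exists_fg_map_eq M' Pp (RingHom.ker f.toRingHom) hker
  have hL : IsLocalization (Algebra.algebraMapSubmonoid (P ⧸ J) M')
      (Pp ⧸ J.map (algebraMap P Pp)) := inferInstance
  let e1 : (Pp ⧸ J.map (algebraMap P Pp)) ≃+* (Pp ⧸ RingHom.ker f.toRingHom) :=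
    Ideal.quotEquivOfEq hJ
  let e2 : (Pp ⧸ RingHom.ker f.toRingHom) ≃+* R'' :=
    RingHom.quotientKerEquivOfSurjective (f := f.toRingHom) hf
  let e := e1.trans e2
  letI algC : Algebra (P ⧸ J) R'' :=
    (e.toRingHom.comp (algebraMap (P ⧸ J) (Pp ⧸ J.map (algebraMap P Pp)))).toAlgebra
  have hL' : IsLocalization (Algebra.algebraMapSubmonoid (P ⧸ J) M') R'' :=
    (IsLocalization.isLocalization_iff_of_ringEquiv _ e).mp hL
  have hM : Algebra.algebraMapSubmonoid (P ⧸ J) M' = Algebra.algebraMapSubmonoid (P ⧸ J) M := by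
    ext x
    constructor
    · rintro ⟨_, ⟨r, hr, rfl⟩, rfl⟩
      exact ⟨r, hr, rfl⟩
    · rintro ⟨r, hr, rfl⟩
      exact ⟨C r, ⟨r, hr, rfl⟩, rfl⟩
  refine ⟨P ⧸ J, inferInstance, inferInstance, Algebra.FinitePresentation.quotient hJfg, algC,
    ?_, ?_⟩
  · refine IsScalarTower.of_algebraMap_eq fun r => ?_
    change algebraMap R R'' r = e (algebraMap (P ⧸ J) (Pp ⧸ J.map (algebraMap P Pp))
      (algebraMap R (P ⧸ J) r))
    have h1 : algebraMap (P ⧸ J) (Pp ⧸ J.map (algebraMap P Pp)) (algebraMap R (P ⧸ J) r) =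
        Ideal.Quotient.mk _ (C (algebraMap R Rp r)) := by
      change algebraMap (P ⧸ J) (Pp ⧸ J.map (algebraMap P Pp)) (Ideal.Quotient.mk J (C r)) = _
      rw [← Ideal.Quotient.algebraMap_eq, ← IsScalarTower.algebraMap_apply,
        IsScalarTower.algebraMap_apply P Pp, Ideal.Quotient.algebraMap_eq]
      congr 1
      exact MvPolynomial.map_C _ r
    rw [h1]
    change _ = f (C (algebraMap R Rp r))
    rw [IsScalarTower.algebraMap_apply R Rp R'', ← MvPolynomial.algebraMap_eq, f.commutes]
  · rw [← hM]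
    exact hL'

end Groth.Agent.Lib.Helper18.SpreadFPD
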