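import Mathlib.Algebra.Polynomial.Eval.Degree
import Mathlib.Algebra.Polynomial.Coeff
import Mathlib.Algebra.BigOperators.Ring.Finset
import Mathlib.Data.Nat.Choose.Basic
import Mathlib.Tactic.LinearCombination
import Mathlib.Tactic.Ring

set_option autoImplicit false
universe u

namespace Groth.Agent.Lib.Helper18.SqZeroDP

open Polynomial

variable {C : Type*} [CommRing C] {ι : Type*}

noncomputable def E (s : Finset ι) (w : ι → C) : Polynomial C :=
  ∏ i ∈ s, (1 + Polynomial.C (w i) * X)

theorem E_coeff_zero (s : Finset ι) (w : ι → C) : (E s w).coeff 0 = 1 := by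
  rw [Polynomial.coeff_zero_eq_eval_zero, E, Polynomial.eval_prod]
  simp

theorem E_smul (s : Finset ι) (w : ι → C) (r : C) (n : ℕ) :
    (E s (fun i => r * w i)).coeff n = r ^ n * (E s w).coeff n := by
  have h : E s (fun i => r * w i) = (E s w).comp (Polynomial.C r * X) := by
    unfold E
    rw [Polynomial.prod_comp]
    apply Finset.prod_congr rfl
    intro i _
    simp only [add_comp, one_comp, mul_comp, C_comp, X_comp, map_mul]
    ring
  rw [h, Polynomial.comp_C_mul_X_coeff, mul_comm]

theorem E_add (s : Finset ι) (x y : ι → C) (hxy : ∀ i ∈ s, x i * y i = 0) :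
    E s (fun i => x i + y i) = E s x * E s y := by
  unfold E
  rw [← Finset.prod_mul_distrib]
  apply Finset.prod_congr rfl
  intro i hi
  have h0 : Polynomial.C (x i) * Polynomial.C (y i) = 0 := by
    rw [← map_mul, hxy i hi, map_zero]
  rw [map_add]
  linear_combination (-(X : Polynomial C) ^ 2) * h0

theorem coeff_one_add_mul (w : C) (P : Polynomial C) (n : ℕ) :
    ((1 + Polynomial.C w * X) * P).coeff (n + 1) = P.coeff (n + 1) + w * P.coeff n := by
  have : (1 + Polynomial.C w * X) * P = P + Polynomial.C w * (X * P) := by ring
  rw [this, coeff_add, coeff_C_mul, coeff_X_mul]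

theorem coeff_one_add_mul_zero (w : C) (P : Polynomial C) :
    ((1 + Polynomial.C w * X) * P).coeff 0 = P.coeff 0 := by
  have : (1 + Polynomial.C w * X) * P = P + Polynomial.C w * (X * P) := by ring
  rw [this, coeff_add, coeff_C_mul, coeff_X_mul_zero, mul_zero, add_zero]

theorem E_mul_coeff [DecidableEq ι] (s : Finset ι) (w : ι → C) (hw : ∀ i ∈ s, w i * w i = 0) :
    ∀ n k : ℕ, (E s w).coeff n * (E s w).coeff k = ((n + k).choose n : C) * (E s w).coeff (n + k) := by
  induction s using Finset.induction_on with
  | empty =>
    intro n k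
    simp only [E, Finset.prod_empty, coeff_one]
    by_cases hn : n = 0
    · by_cases hk : k = 0
      · subst hn hk
        simp
      · subst hn
        simp [hk]
    · have : n + k ≠ 0 := by omega
      simp [hn, this]
  | insert a s ha ih =>
    have hw' : ∀ i ∈ s, w i * w i = 0 := fun i hi => hw i (Finset.mem_insert_of_mem hi)
    have hwa : w a * w a = 0 := hw a (Finset.mem_insert_self a s)
    have IH := ih hw'
    have hE : E (insert a s) w = (1 + Polynomial.C (w a) * X) * E s w := by
      unfold E
      rw [Finset.prod_insert ha]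
    intro n k
    rw [hE]
    rcases n with _ | n
    · rcases k with _ | k
      · rw [coeff_one_add_mul_zero]
        have := IH 0 0
        simpa using this
      · rw [coeff_one_add_mul_zero, zero_add, coeff_one_add_mul]
        have h1 := IH 0 (k + 1)
        have h2 := IH 0 k
        simp only [zero_add, Nat.choose_zero_right, Nat.cast_one, one_mul] at h1 h2 ⊢
        linear_combination h1 + w a * h2
    · rcases k with _ | k
      · rw [coeff_one_add_mul_zero, add_zero, coeff_one_add_mul]
        have h1 := IH (n + 1) 0
        have h2 := IH n 0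
        simp only [add_zero, Nat.choose_self, Nat.cast_one, one_mul] at h1 h2 ⊢
        linear_combination h1 + w a * h2
      · have e1 : n + 1 + (k + 1) = (n + k + 1) + 1 := by ring
        rw [e1, coeff_one_add_mul, coeff_one_add_mul, coeff_one_add_mul]
        have h1 := IH (n + 1) (k + 1)
        have h2 := IH n (k + 1)
        have h3 := IH (n + 1) k
        have e2 : n + (k + 1) = n + k + 1 := by ring
        have e3 : n + 1 + k = n + k + 1 := by ring
        rw [e1] at h1
        rw [e2] at h2
        rw [e3] at h3
        have hp : ((n + k + 1 + 1).choose (n + 1) : C) = ((n + k + 1).choose n : C) + ((n + k + 1).choose (n + 1) : C) := by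
          rw [Nat.choose_succ_succ]
          push_cast
          ring
        rw [hp]
        rw [hp] at h1
        linear_combination h1 + w a * h2 + w a * h3 + (E s w).coeff n * (E s w).coeff k * hwa

theorem E_coeff_eq_sum [DecidableEq ι] (s : Finset ι) (w : ι → C) (n : ℕ) :
    (E s w).coeff n = ∑ t ∈ s.powersetCard n, ∏ i ∈ t, w i := by
  unfold E
  rw [Finset.prod_one_add]
  rw [Polynomial.finset_sum_coeff]
  have : ∀ t ∈ s.powerset, (∏ i ∈ t, Polynomial.C (w i) * X).coeff n
      = if t.card = n then ∏ i ∈ t, w i else 0 := by
    intro t _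
    rw [Finset.prod_mul_distrib, Finset.prod_const, ← map_prod, coeff_C_mul, coeff_X_pow]
    by_cases h : t.card = n
    · rw [if_pos h.symm, if_pos h, mul_one]
    · rw [if_neg (fun h' => h h'.symm), if_neg h, mul_zero]
  rw [Finset.sum_congr rfl this, ← Finset.sum_filter]
  apply Finset.sum_congr
  · ext t
    simp [Finset.mem_powersetCard]
  · intro t _
    rfl

end Groth.Agent.Lib.Helper18.SqZeroDP
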