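import Groth.Agent.Lib.Helper18.SqZeroDP
import Mathlib.Algebra.MvPolynomial.Basic
import Mathlib.Algebra.MvPolynomial.CommRing
import Mathlib.RingTheory.Ideal.Quotient.Operations
import Mathlib.LinearAlgebra.Quotient.Basic

set_option autoImplicit false
universe u v

namespace Groth.Agent.Lib.Helper18.SqZeroDP

variable (σ : Type v) [DecidableEq σ] (k : Type u) [Field k]

noncomputable def sqI : Ideal (MvPolynomial σ k) :=
  Ideal.span (Set.range fun i : σ => (MvPolynomial.X i : MvPolynomial σ k) ^ 2)

abbrev Mod : Type (max u v) := MvPolynomial σ k ⧸ sqI σ k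

variable {σ k}

noncomputable def z (i : σ) : Mod σ k := Ideal.Quotient.mk (sqI σ k) (MvPolynomial.X i)

theorem z_sq (i : σ) : z (k := k) i * z i = 0 := by
  unfold z
  rw [← map_mul, Ideal.Quotient.eq_zero_iff_mem, ← pow_two]
  exact Ideal.subset_span ⟨i, rfl⟩

noncomputable def ind (S : Finset σ) : σ →₀ ℕ := ∑ i ∈ S, Finsupp.single i 1

theorem ind_apply (S : Finset σ) (j : σ) : ind S j = if j ∈ S then 1 else 0 := by
  unfold ind
  rw [Finsupp.finset_sum_apply]
  simp only [Finsupp.single_apply]
  rw [Finset.sum_ite_eq']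

theorem ind_inj {S T : Finset σ} (h : ind S = ind T) : S = T := by
  ext j
  have := congrArg (fun f => f j) h
  simp only [ind_apply] at this
  by_cases hS : j ∈ S
  · by_cases hT : j ∈ T
    · exact ⟨fun _ => hT, fun _ => hS⟩
    · simp [hS, hT] at this
  · by_cases hT : j ∈ T
    · simp [hS, hT] at this
    · exact ⟨fun h' => absurd h' hS, fun h' => absurd h' hT⟩

theorem coeff_ind_of_mem (S : Finset σ) (P : MvPolynomial σ k) (hP : P ∈ sqI σ k) :
    P.coeff (ind S) = 0 := by
  have key : ∀ P ∈ sqI σ k, ∀ g : MvPolynomial σ k, (g * P).coeff (ind S) = 0 := by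
    intro P hP
    unfold sqI at hP
    refine Submodule.span_induction (p := fun P _ => ∀ g : MvPolynomial σ k, (g * P).coeff (ind S) = 0)
      ?_ ?_ ?_ ?_ hP
    · rintro _ ⟨i, rfl⟩ g
      have e : (MvPolynomial.X i : MvPolynomial σ k) ^ 2 = MvPolynomial.monomial (Finsupp.single i 2) 1 := by
        rw [MvPolynomial.X_pow_eq_monomial]
      show (g * MvPolynomial.X i ^ 2).coeff (ind S) = 0
      rw [e, MvPolynomial.coeff_mul_monomial']
      rw [if_neg]
      intro hle
      have := hle i
      rw [Finsupp.single_apply, if_pos rfl, ind_apply] at this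
      split_ifs at this <;> omega
    · intro g
      rw [mul_zero, MvPolynomial.coeff_zero]
    · intro x y _ _ hx hy g
      rw [mul_add, MvPolynomial.coeff_add, hx, hy, add_zero]
    · intro a x _ hx g
      rw [smul_eq_mul, ← mul_assoc]
      exact hx (g * a)
  have := key P hP 1
  rwa [one_mul] at this

noncomputable def cf (S : Finset σ) : Mod σ k →ₗ[k] k :=
  (((sqI σ k).restrictScalars k).liftQ (MvPolynomial.lcoeff k (ind S)) (by
    intro P hP
    rw [LinearMap.mem_ker, MvPolynomial.lcoeff_apply]
    exact coeff_ind_of_mem S P hP)).comp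
    (Submodule.Quotient.restrictScalarsEquiv k (sqI σ k)).symm.toLinearMap

theorem cf_mk (S : Finset σ) (P : MvPolynomial σ k) :
    cf S (Ideal.Quotient.mk (sqI σ k) P) = P.coeff (ind S) := by
  unfold cf
  rw [LinearMap.comp_apply]
  have : (Submodule.Quotient.restrictScalarsEquiv k (sqI σ k)).symm.toLinearMap
      (Ideal.Quotient.mk (sqI σ k) P) = Submodule.Quotient.mk P := rfl
  rw [this, Submodule.liftQ_apply, MvPolynomial.lcoeff_apply]

theorem prod_smul_z (t : Finset σ) (c : σ → k) :
    ∏ i ∈ t, (c i • z (k := k) i) = Ideal.Quotient.mk (sqI σ k)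
      (MvPolynomial.monomial (ind t) (∏ i ∈ t, c i)) := by
  induction t using Finset.induction_on with
  | empty =>
    simp [ind]
  | insert a t ha ih =>
    rw [Finset.prod_insert ha, ih, Finset.prod_insert ha]
    unfold z
    have e : ind (insert a t) = Finsupp.single a 1 + ind t := by
      unfold ind
      rw [Finset.sum_insert ha]
    rw [e, ← MvPolynomial.monomial_mul, map_mul]
    congr 1
    rw [← MvPolynomial.C_mul_X_eq_monomial, map_mul]
    rw [← map_mul, ← MvPolynomial.smul_eq_C_mul]
    rfl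

theorem cf_prod (S t : Finset σ) (c : σ → k) :
    cf S (∏ i ∈ t, (c i • z (k := k) i)) = if t = S then ∏ i ∈ S, c i else 0 := by
  rw [prod_smul_z, cf_mk, MvPolynomial.coeff_monomial]
  by_cases h : t = S
  · subst h
    simp
  · rw [if_neg h, if_neg]
    intro h'
    exact h (ind_inj h')

theorem cf_prod_mul (S t1 t2 : Finset σ) (c1 c2 : σ → k) :
    cf S ((∏ i ∈ t1, (c1 i • z (k := k) i)) * ∏ i ∈ t2, (c2 i • z (k := k) i))
      = if ind t1 + ind t2 = ind S then (∏ i ∈ t1, c1 i) * ∏ i ∈ t2, c2 i else 0 := by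
  rw [prod_smul_z, prod_smul_z, ← map_mul, MvPolynomial.monomial_mul, cf_mk, MvPolynomial.coeff_monomial]

theorem cf_prod_z (S t : Finset σ) :
    cf S (∏ i ∈ t, z (k := k) i) = if t = S then 1 else 0 := by
  have h := cf_prod (k := k) S t (fun _ => (1 : k))
  simp only [one_smul, Finset.prod_const_one] at h
  exact h

theorem E_disjSum {C : Type*} [CommRing C] {α β : Type*} (s : Finset α) (t : Finset β) (w : α ⊕ β → C) :
    E (s.disjSum t) w = E s (fun a => w (Sum.inl a)) * E t (fun b => w (Sum.inr b)) := by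
  unfold E
  rw [Finset.prod_disjSum]

theorem E_zero {C : Type*} [CommRing C] {α : Type*} (s : Finset α) :
    E s (fun _ => (0 : C)) = 1 := by
  unfold E
  simp

end Groth.Agent.Lib.Helper18.SqZeroDP
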