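import Groth.Prelude.Def_CAlgX
import Mathlib.RingTheory.Flat.Basic
import Mathlib.RingTheory.Flat.Tensor
import Mathlib.LinearAlgebra.TensorProduct.RightExactness
import Mathlib.Tactic

set_option autoImplicit false
universe u
open TensorProduct

namespace Groth.Agent.Lib.Helper18

theorem chase_injective {A₁ A₂ A₃ B₁ B₂ B₃ C₁ C₂ : Type*}
    [AddCommGroup A₁] [AddCommGroup A₂] [AddCommGroup A₃]
    [AddCommGroup B₁] [AddCommGroup B₂] [AddCommGroup B₃]
    [AddCommGroup C₁] [AddCommGroup C₂]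
    (a₁ : A₁ →+ A₂) (a₂ : A₂ →+ A₃) (b₁ : B₁ →+ B₂) (b₂ : B₂ →+ B₃) (c₁ : C₁ →+ C₂)
    (u₁ : A₁ →+ B₁) (u₂ : A₂ →+ B₂) (u₃ : A₃ →+ B₃) (v₁ : B₁ →+ C₁) (v₂ : B₂ →+ C₂)
    (ha₂ : Function.Surjective a₂) (ha : ∀ x, a₂ (a₁ x) = 0)
    (hb : ∀ y, b₂ y = 0 → ∃ x, b₁ x = y)
    (hcol₁ : ∀ y, v₁ y = 0 → ∃ x, u₁ x = y) (hcol₂ : ∀ x, v₂ (u₂ x) = 0)
    (sq₁ : ∀ x, u₂ (a₁ x) = b₁ (u₁ x)) (sq₂ : ∀ x, u₃ (a₂ x) = b₂ (u₂ x))
    (sq₃ : ∀ x, v₂ (b₁ x) = c₁ (v₁ x))
    (hu₂ : Function.Injective u₂) (hc₁ : Function.Injective c₁) : Function.Injective u₃ := by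
  rw [injective_iff_map_eq_zero]
  intro z hz
  obtain ⟨y, rfl⟩ := ha₂ z
  rw [sq₂] at hz
  obtain ⟨x, hx⟩ := hb _ hz
  have h1 : c₁ (v₁ x) = 0 := by rw [← sq₃, hx, hcol₂]
  have h2 : v₁ x = 0 := by
    apply hc₁
    rw [h1, map_zero]
  obtain ⟨x', rfl⟩ := hcol₁ x h2
  rw [← sq₁] at hx
  have := hu₂ hx
  rw [← this, ha]

variable {R : Type u} [CommRing R]

theorem flat_of_univInj_left {M₁ M₂ : Type u} [AddCommGroup M₁] [Module R M₁]
    [AddCommGroup M₂] [Module R M₂] (f : M₁ →ₗ[R] M₂)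
    (hf : CAlgX.UniversallyInjective R f) [Module.Flat R M₂] : Module.Flat R M₁ := by
  rw [Module.Flat.iff_lTensor_injective']
  intro I
  have h1 : Function.Injective ((I.subtype.lTensor M₂).comp (f.rTensor I)) :=
    (Module.Flat.lTensor_preserves_injective_linearMap _ Subtype.val_injective).comp (hf I)
  have h2 : (I.subtype.lTensor M₂).comp (f.rTensor I) =
      (f.rTensor R).comp (I.subtype.lTensor M₁) := by
    rw [LinearMap.lTensor_comp_rTensor, LinearMap.rTensor_comp_lTensor]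
  rw [h2] at h1
  exact Function.Injective.of_comp h1

theorem flat_of_univInj_right {M₁ M₂ M₃ : Type u} [AddCommGroup M₁] [Module R M₁]
    [AddCommGroup M₂] [Module R M₂] [AddCommGroup M₃] [Module R M₃]
    (f : M₁ →ₗ[R] M₂) (g : M₂ →ₗ[R] M₃) (hexact : Function.Exact f g)
    (hg : Function.Surjective g) (hf : CAlgX.UniversallyInjective R f) [Module.Flat R M₂] :
    Module.Flat R M₃ := by
  rw [Module.Flat.iff_lTensor_injective']
  intro I
  have hiq : Function.Exact I.subtype I.mkQ := LinearMap.exact_subtype_mkQ I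
  have hq : Function.Surjective I.mkQ := Submodule.mkQ_surjective I
  refine chase_injective
    (f.rTensor I).toAddMonoidHom (g.rTensor I).toAddMonoidHom
    (f.rTensor R).toAddMonoidHom (g.rTensor R).toAddMonoidHom
    (f.rTensor (R ⧸ I)).toAddMonoidHom
    (I.subtype.lTensor M₁).toAddMonoidHom (I.subtype.lTensor M₂).toAddMonoidHom
    (I.subtype.lTensor M₃).toAddMonoidHom
    (I.mkQ.lTensor M₁).toAddMonoidHom (I.mkQ.lTensor M₂).toAddMonoidHom
    (LinearMap.rTensor_surjective I hg) ?_ ?_ ?_ ?_ ?_ ?_ ?_ ?_ (hf (R ⧸ I))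
  · intro x
    exact (rTensor_exact I hexact hg).apply_apply_eq_zero x
  · intro y hy
    exact (rTensor_exact R hexact hg y).1 hy
  · intro y hy
    exact (lTensor_exact M₁ hiq hq y).1 hy
  · intro x
    exact (lTensor_exact M₂ hiq hq).apply_apply_eq_zero x
  · intro x
    change ((I.subtype.lTensor M₂).comp (f.rTensor I)) x =
      ((f.rTensor R).comp (I.subtype.lTensor M₁)) x
    rw [LinearMap.lTensor_comp_rTensor, LinearMap.rTensor_comp_lTensor]
  · intro x
    change ((I.subtype.lTensor M₃).comp (g.rTensor I)) x =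
      ((g.rTensor R).comp (I.subtype.lTensor M₂)) x
    rw [LinearMap.lTensor_comp_rTensor, LinearMap.rTensor_comp_lTensor]
  · intro x
    change ((I.mkQ.lTensor M₂).comp (f.rTensor R)) x =
      ((f.rTensor (R ⧸ I)).comp (I.mkQ.lTensor M₁)) x
    rw [LinearMap.lTensor_comp_rTensor, LinearMap.rTensor_comp_lTensor]
  · exact Module.Flat.lTensor_preserves_injective_linearMap _ Subtype.val_injective

theorem univInj_of_flat_right_aux {M₁ M₂ M₃ K F Q : Type*} [AddCommGroup M₁] [Module R M₁]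
    [AddCommGroup M₂] [Module R M₂] [AddCommGroup M₃] [Module R M₃]
    [AddCommGroup K] [Module R K] [AddCommGroup F] [Module R F] [AddCommGroup Q] [Module R Q]
    (f : M₁ →ₗ[R] M₂) (g : M₂ →ₗ[R] M₃) (hf : Function.Injective f)
    (hexact : Function.Exact f g) (hg : Function.Surjective g)
    (i : K →ₗ[R] F) (p : F →ₗ[R] Q) (hi : Function.Injective i) (hkp : Function.Exact i p)
    (hp : Function.Surjective p) [Module.Flat R F] [Module.Flat R M₃] :
    Function.Injective (f.rTensor Q) := by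
  refine chase_injective
    (i.lTensor M₁).toAddMonoidHom (p.lTensor M₁).toAddMonoidHom
    (i.lTensor M₂).toAddMonoidHom (p.lTensor M₂).toAddMonoidHom
    (i.lTensor M₃).toAddMonoidHom
    (f.rTensor K).toAddMonoidHom (f.rTensor F).toAddMonoidHom
    (f.rTensor Q).toAddMonoidHom
    (g.rTensor K).toAddMonoidHom (g.rTensor F).toAddMonoidHom
    (LinearMap.lTensor_surjective M₁ hp) ?_ ?_ ?_ ?_ ?_ ?_ ?_ ?_
    (Module.Flat.lTensor_preserves_injective_linearMap _ hi)
  · intro x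
    exact (lTensor_exact M₁ hkp hp).apply_apply_eq_zero x
  · intro y hy
    exact (lTensor_exact M₂ hkp hp y).1 hy
  · intro y hy
    exact (rTensor_exact K hexact hg y).1 hy
  · intro x
    exact (rTensor_exact F hexact hg).apply_apply_eq_zero x
  · intro x
    change ((f.rTensor F).comp (i.lTensor M₁)) x =
      ((i.lTensor M₂).comp (f.rTensor K)) x
    rw [LinearMap.lTensor_comp_rTensor, LinearMap.rTensor_comp_lTensor]
  · intro x
    change ((f.rTensor Q).comp (p.lTensor M₁)) x =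
      ((p.lTensor M₂).comp (f.rTensor F)) x
    rw [LinearMap.lTensor_comp_rTensor, LinearMap.rTensor_comp_lTensor]
  · intro x
    change ((g.rTensor F).comp (i.lTensor M₂)) x =
      ((i.lTensor M₃).comp (g.rTensor K)) x
    rw [LinearMap.lTensor_comp_rTensor, LinearMap.rTensor_comp_lTensor]
  · exact Module.Flat.rTensor_preserves_injective_linearMap f hf

theorem univInj_of_flat_right {M₁ M₂ M₃ : Type u} [AddCommGroup M₁] [Module R M₁]
    [AddCommGroup M₂] [Module R M₂] [AddCommGroup M₃] [Module R M₃]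
    (f : M₁ →ₗ[R] M₂) (g : M₂ →ₗ[R] M₃) (hf : Function.Injective f)
    (hexact : Function.Exact f g)
    (hg : Function.Surjective g) [Module.Flat R M₃] : CAlgX.UniversallyInjective R f := by
  intro Q _ _
  obtain ⟨p, hp⟩ : ∃ p : (Q →₀ R) →ₗ[R] Q, Function.Surjective p :=
    ⟨Finsupp.linearCombination R (id : Q → Q), Finsupp.linearCombination_id_surjective R Q⟩
  exact univInj_of_flat_right_aux (K := LinearMap.ker p) (F := Q →₀ R) f g hf hexact hg
    (LinearMap.ker p).subtype p Subtype.val_injective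
    (LinearMap.exact_subtype_ker_map p) hp

end Groth.Agent.Lib.Helper18
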