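import Groth.Prelude.Def_CAlgX
import Mathlib.LinearAlgebra.TensorProduct.Vanishing
import Mathlib.Tactic

set_option autoImplicit false
universe u
open TensorProduct

namespace Groth.Agent.Lib.Helper18

variable {R : Type u} [CommRing R]

theorem univInj_equational {M₁ M₂ : Type u} [AddCommGroup M₁] [Module R M₁]
    [AddCommGroup M₂] [Module R M₂] (f : M₁ →ₗ[R] M₂) (hf : CAlgX.UniversallyInjective R f)
    (n m : ℕ) (x : Fin n → M₁) (y : Fin m → M₂) (a : Fin n → Fin m → R)
    (h : ∀ i, f (x i) = ∑ j, a i j • y j) : ∃ z : Fin m → M₁, ∀ i, x i = ∑ j, a i j • z j := by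
  classical
  let col : Fin m → (Fin n → R) := fun j i => a i j
  let C : Submodule R (Fin n → R) := Submodule.span R (Set.range col)
  let q : Fin n → (Fin n → R) ⧸ C := fun i => C.mkQ (Pi.single i 1)
  have hq : Submodule.span R (Set.range q) = ⊤ := by
    rw [eq_top_iff]
    rintro w -
    obtain ⟨w, rfl⟩ := C.mkQ_surjective w
    have : w = ∑ i, w i • (Pi.single i 1 : Fin n → R) := by
      ext k
      simp [Finset.sum_apply, Pi.single_apply]
    rw [this, map_sum]
    refine Submodule.sum_mem _ fun i _ => ?_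
    rw [map_smul]
    exact Submodule.smul_mem _ _ (Submodule.subset_span ⟨i, rfl⟩)
  have hcol : ∀ j, ∑ i, a i j • q i = 0 := by
    intro j
    have : ∑ i, a i j • q i = C.mkQ (col j) := by
      simp only [q, ← map_smul, ← map_sum]
      congr 1
      ext k
      simp [Finset.sum_apply, Pi.single_apply, col]
    rw [this, Submodule.mkQ_apply, Submodule.Quotient.mk_eq_zero]
    exact Submodule.subset_span ⟨j, rfl⟩
  have hξ : ∑ i, x i ⊗ₜ[R] q i = 0 := by
    apply hf ((Fin n → R) ⧸ C)
    rw [map_zero, map_sum]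
    simp only [LinearMap.rTensor_tmul, h, TensorProduct.sum_tmul, TensorProduct.smul_tmul]
    rw [Finset.sum_comm]
    simp only [← TensorProduct.tmul_sum, hcol, TensorProduct.tmul_zero, Finset.sum_const_zero]
  have hξ' : ∑ i, q i ⊗ₜ[R] x i = 0 := by
    have := congrArg (TensorProduct.comm R M₁ ((Fin n → R) ⧸ C)) hξ
    simpa using this
  obtain ⟨k, a', y', h1, h2⟩ := TensorProduct.vanishesTrivially_of_sum_tmul_eq_zero R hq hξ'
  have h3 : ∀ l : Fin k, ∃ c : Fin m → R, ∑ j, c j • col j = fun i => a' i l := by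
    intro l
    have hmem : (fun i => a' i l) ∈ C := by
      rw [← Submodule.Quotient.mk_eq_zero, ← Submodule.mkQ_apply, ← h2 l]
      have : (fun i => a' i l) = ∑ i, a' i l • (Pi.single i 1 : Fin n → R) := by
        ext k
        simp [Finset.sum_apply, Pi.single_apply]
      rw [this, map_sum]
      simp only [map_smul, q]
    exact (Submodule.mem_span_range_iff_exists_fun R).1 hmem
  choose c hc using h3
  refine ⟨fun j => ∑ l, c l j • y' l, fun i => ?_⟩
  rw [h1 i]
  simp only [Finset.smul_sum, smul_smul]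
  rw [Finset.sum_comm]
  refine Finset.sum_congr rfl fun l _ => ?_
  rw [← Finset.sum_smul]
  congr 1
  have := congrFun (hc l) i
  simp only [Finset.sum_apply, Pi.smul_apply, smul_eq_mul, col] at this
  rw [← this]
  exact Finset.sum_congr rfl fun j _ => mul_comm _ _

end Groth.Agent.Lib.Helper18
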