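import Groth.Agent.Lib.Helper18.UnivInj
import Mathlib.LinearAlgebra.TensorProduct.Finiteness
import Mathlib.RingTheory.Finiteness.Cardinality

set_option autoImplicit false
universe u v
open TensorProduct

namespace Groth.Agent.Lib.Helper18

variable {R : Type u} [CommRing R]

theorem rTensor_inj_of_ses {M M' Q' Q Q'' : Type*} [AddCommGroup M] [Module R M]
    [AddCommGroup M'] [Module R M'] [AddCommGroup Q'] [Module R Q'] [AddCommGroup Q] [Module R Q]
    [AddCommGroup Q''] [Module R Q''] [Module.Flat R M'] (f : M →ₗ[R] M')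
    (i : Q' →ₗ[R] Q) (p : Q →ₗ[R] Q'') (hi : Function.Injective i) (hip : Function.Exact i p)
    (hp : Function.Surjective p)
    (h' : Function.Injective (f.rTensor Q')) (h'' : Function.Injective (f.rTensor Q'')) :
    Function.Injective (f.rTensor Q) := by
  rw [injective_iff_map_eq_zero]
  intro x hx
  have h1 : (p.lTensor M) x = 0 := by
    apply h''
    rw [map_zero]
    have : (f.rTensor Q'') ((p.lTensor M) x) = (p.lTensor M') ((f.rTensor Q) x) := by
      change ((f.rTensor Q'').comp (p.lTensor M)) x = ((p.lTensor M').comp (f.rTensor Q)) x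
      rw [LinearMap.lTensor_comp_rTensor, LinearMap.rTensor_comp_lTensor]
    rw [this, hx, map_zero]
  obtain ⟨x', rfl⟩ := (lTensor_exact M hip hp x).1 h1
  have h2 : (f.rTensor Q') x' = 0 := by
    apply Module.Flat.lTensor_preserves_injective_linearMap (M := M') i hi
    rw [map_zero, ← hx]
    change ((i.lTensor M').comp (f.rTensor Q')) x' = ((f.rTensor Q).comp (i.lTensor M)) x'
    rw [LinearMap.lTensor_comp_rTensor, LinearMap.rTensor_comp_lTensor]
  rw [(injective_iff_map_eq_zero _).1 h' x' h2, map_zero]

theorem rTensor_inj_of_equiv {M M' Q Q' : Type*} [AddCommGroup M] [Module R M]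
    [AddCommGroup M'] [Module R M'] [AddCommGroup Q] [Module R Q] [AddCommGroup Q'] [Module R Q']
    (f : M →ₗ[R] M') (e : Q ≃ₗ[R] Q') (h : Function.Injective (f.rTensor Q)) :
    Function.Injective (f.rTensor Q') := by
  have h1 : (f.rTensor Q').comp (e.toLinearMap.lTensor M) =
      (e.toLinearMap.lTensor M').comp (f.rTensor Q) := by
    rw [LinearMap.lTensor_comp_rTensor, LinearMap.rTensor_comp_lTensor]
  have h2 : Function.Injective ((e.toLinearMap.lTensor M').comp (f.rTensor Q)) :=
    (LinearEquiv.lTensor M' e).injective.comp h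
  rw [← h1] at h2
  intro a b hab
  obtain ⟨a', rfl⟩ := (LinearEquiv.lTensor M e).surjective a
  obtain ⟨b', rfl⟩ := (LinearEquiv.lTensor M e).surjective b
  exact congrArg _ (h2 hab)

theorem rTensor_inj_of_span_fin {M M' : Type*} [AddCommGroup M] [Module R M]
    [AddCommGroup M'] [Module R M'] [Module.Flat R M'] (f : M →ₗ[R] M')
    (hI : ∀ I : Ideal R, Function.Injective (f.rTensor (R ⧸ I))) :
    ∀ (n : ℕ) (Q : Type v) [AddCommGroup Q] [Module R Q] (s : Fin n → Q),
      Submodule.span R (Set.range s) = ⊤ → Function.Injective (f.rTensor Q) := by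
  intro n
  induction n with
  | zero =>
    intro Q _ _ s hs
    have : Subsingleton Q := by
      rw [← Submodule.subsingleton_iff R, ← subsingleton_iff_bot_eq_top, ← hs]
      simp
    intro a b _
    exact Subsingleton.elim _ _
  | succ n ih =>
    intro Q _ _ s hs
    let t : R →ₗ[R] Q := LinearMap.toSpanSingleton R Q (s 0)
    let Q' : Submodule R Q := LinearMap.range t
    have hQ' : Function.Injective (f.rTensor Q') :=
      rTensor_inj_of_equiv f (LinearMap.quotKerEquivRange t) (hI (LinearMap.ker t))
    have hQ'' : Function.Injective (f.rTensor (Q ⧸ Q')) := by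
      apply ih (Q ⧸ Q') (fun k => Q'.mkQ (s k.succ))
      rw [eq_top_iff]
      rintro y -
      obtain ⟨y, rfl⟩ := Q'.mkQ_surjective y
      have hy : y ∈ Submodule.span R (Set.range s) := by rw [hs]; trivial
      induction hy using Submodule.span_induction with
      | mem z hz =>
        obtain ⟨k, rfl⟩ := hz
        refine Fin.cases ?_ (fun k => ?_) k
        · have : Q'.mkQ (s 0) = 0 := by
            rw [Submodule.mkQ_apply, Submodule.Quotient.mk_eq_zero]
            exact ⟨1, by simp [t]⟩
          rw [this]
          exact zero_mem _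
        · exact Submodule.subset_span ⟨k, rfl⟩
      | zero => rw [map_zero]; exact zero_mem _
      | add a b _ _ ha hb => rw [map_add]; exact add_mem ha hb
      | smul r a _ ha => rw [map_smul]; exact Submodule.smul_mem _ r ha
    exact rTensor_inj_of_ses f Q'.subtype Q'.mkQ Subtype.val_injective
      (LinearMap.exact_subtype_mkQ Q') Q'.mkQ_surjective hQ' hQ''

theorem rTensor_inj_of_cyclic {M M' : Type*} [AddCommGroup M] [Module R M]
    [AddCommGroup M'] [Module R M'] [Module.Flat R M'] (f : M →ₗ[R] M')
    (hI : ∀ I : Ideal R, Function.Injective (f.rTensor (R ⧸ I)))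
    (Q : Type v) [AddCommGroup Q] [Module R Q] : Function.Injective (f.rTensor Q) := by
  rw [injective_iff_map_eq_zero]
  intro x hx
  obtain ⟨N', hN', hx'⟩ := TensorProduct.exists_finite_submodule_right_of_setFinite {x}
    (Set.finite_singleton x)
  obtain ⟨x₀, rfl⟩ := hx' (Set.mem_singleton x)
  obtain ⟨n, s, hs⟩ := Module.Finite.exists_fin (R := R) (M := N')
  have hN : Function.Injective (f.rTensor N') := rTensor_inj_of_span_fin f hI n N' s hs
  have h2 : (f.rTensor N') x₀ = 0 := by
    apply Module.Flat.lTensor_preserves_injective_linearMap (M := M') N'.subtype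
      Subtype.val_injective
    rw [map_zero, ← hx]
    change ((N'.subtype.lTensor M').comp (f.rTensor N')) x₀ =
      ((f.rTensor Q).comp (N'.subtype.lTensor M)) x₀
    rw [LinearMap.lTensor_comp_rTensor, LinearMap.rTensor_comp_lTensor]
  rw [(injective_iff_map_eq_zero _).1 hN x₀ h2, map_zero]

end Groth.Agent.Lib.Helper18
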